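import Groth.Agent.Lib.QuadH13.Disc
import Mathlib.LinearAlgebra.Transvection.Basic
import Mathlib.LinearAlgebra.TensorProduct.Basis

/-!
Base change of forms in coordinates; reflections in anisotropic vectors.
-/

universe u v w

open QuadraticMap TensorProduct

namespace Groth.Agent.QuadH13

variable {R : Type u} [CommRing R] {n : ℕ} {M : Type v} [AddCommGroup M] [Module R M] [Module.Free R M]
variable (A : Type w) [CommRing A] [Algebra R A]

theorem baseChangeForm_one_tmul (Q : QuadraticForm R M) (x : M) :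
    QuadGrp.baseChangeForm A Q (1 ⊗ₜ[R] x) = algebraMap R A (Q x) := by
  rw [QuadGrp.baseChangeForm, LinearMap.compQuadraticMap_apply, QuadGrp.baseChange_tmul, mul_one]
  simp [Algebra.algebraMap_eq_smul_one]

theorem coeffs_baseChange (b : Module.Basis (Fin n) R M) (Q : QuadraticForm R M) :
    QuadGrp.coeffs (b.baseChange A) (LinearEquiv.refl A A) (QuadGrp.baseChangeForm A Q) =
      algebraMap R A ∘ QuadGrp.coeffs b (LinearEquiv.refl R R) Q := by
  funext s
  induction s using Sym2.ind with
  | _ i j =>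
    simp only [Function.comp_apply, QuadGrp.coeffs_mk, LinearEquiv.refl_apply, Module.Basis.baseChange_apply,
      polar, ← TensorProduct.tmul_add, baseChangeForm_one_tmul, apply_ite (algebraMap R A), map_sub]

theorem baseChangeForm_isometry_iff (Q : QuadraticForm R M) (h : (A ⊗[R] M) ≃ₗ[A] (A ⊗[R] M)) :
    h ∈ QuadGrp.orth Q A ↔ h ∈ QuadGrp.O (QuadGrp.baseChangeForm A Q) := by
  simp only [QuadGrp.orth, QuadGrp.mem_O, QuadGrp.baseChangeForm, LinearMap.compQuadraticMap_apply,
    LinearEquiv.coe_coe, EmbeddingLike.apply_eq_iff_eq]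

variable {A} {V : Type*} [AddCommGroup V] [Module A V] (Q : QuadraticForm A V)

/-- The reflection in a vector of unit length. -/
noncomputable def refl' (v : V) (c : Aˣ) (hc : Q v = c) : V ≃ₗ[A] V :=
  LinearEquiv.ofInvolutive (LinearMap.transvection (-((↑c⁻¹ : A) • polarBilin Q v)) v) fun y ↦ by
    have hv : polar Q v v = (2 : A) * c := by rw [polar_self, hc, two_smul, two_mul]
    simp only [LinearMap.transvection.apply, LinearMap.neg_apply, LinearMap.smul_apply, polarBilin_apply_apply,
      smul_eq_mul, neg_smul, ← sub_eq_add_neg]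
    rw [polar_sub_right, polar_smul_right, hv, smul_eq_mul, sub_sub, ← add_smul,
      show (↑c⁻¹ : A) * polar Q v y + ↑c⁻¹ * (polar Q v y - ↑c⁻¹ * polar Q v y * (2 * ↑c)) = 0 by
        linear_combination (-2 * (↑c⁻¹ * polar Q v y)) * c.inv_mul, zero_smul, sub_zero]

theorem refl'_apply (v : V) (c : Aˣ) (hc : Q v = c) (y : V) :
    refl' Q v c hc y = y - ((↑c⁻¹ : A) * polar Q v y) • v := by
  change y + (-((↑c⁻¹ : A) • polarBilin Q v)) y • v = _
  rw [LinearMap.neg_apply, LinearMap.smul_apply, polarBilin_apply_apply, smul_eq_mul, neg_smul, sub_eq_add_neg]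

theorem refl'_mem (v : V) (c : Aˣ) (hc : Q v = c) : refl' Q v c hc ∈ QuadGrp.O Q := fun y ↦ by
  rw [refl'_apply, sub_eq_add_neg, ← neg_smul, QuadraticMap.map_add Q, QuadraticMap.map_smul, hc, polar_smul_right,
    polar_comm (⇑Q) y v, smul_eq_mul, smul_eq_mul]
  linear_combination (↑c⁻¹ * polar Q v y * polar Q v y) * c.inv_mul

theorem det_refl' [Module.Free A V] [Module.Finite A V] (v : V) (c : Aˣ) (hc : Q v = c) :
    LinearEquiv.det (refl' Q v c hc) = -1 := by
  refine Units.ext ?_
  rw [LinearEquiv.coe_det, Units.val_neg, Units.val_one]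
  change LinearMap.det (LinearMap.transvection (-((↑c⁻¹ : A) • polarBilin Q v)) v) = -1
  rw [LinearMap.transvection.det, LinearMap.neg_apply, LinearMap.smul_apply, polarBilin_apply_apply, polar_self, hc,
    two_smul, smul_eq_mul, mul_add, c.inv_mul]
  ring

end Groth.Agent.QuadH13
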