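import Mathlib.RingTheory.LocalRing.Module
import Mathlib.LinearAlgebra.Dimension.Constructions
import Mathlib.LinearAlgebra.Dimension.Free

/-!
Modules with anticommuting square-zero operators `D i` and homotopies `L i`.
-/

universe u v

namespace Groth.Agent.QuadH13

variable {R : Type u} [CommRing R] {C : Type v} [AddCommGroup C] [Module R C] {n : ℕ}

/-- Anticommuting square-zero operators with homotopies. -/
structure IsCAR (D L : Fin n → C →ₗ[R] C) : Prop where
  sq : ∀ i x, D i (D i x) = 0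
  anti : ∀ i j x, D i (D j x) + D j (D i x) = 0
  homotopy : ∀ i j x, D i (L j x) + L j (D i x) = if i = j then x else 0

variable (D L : Fin n → C →ₗ[R] C)

/-- The joint kernel of the first `k` operators. -/
def jker (k : ℕ) : Submodule R C := ⨅ i : Fin n, ⨅ (_ : (i : ℕ) < k), LinearMap.ker (D i)

theorem mem_jker {k : ℕ} {x : C} : x ∈ jker D k ↔ ∀ i : Fin n, (i : ℕ) < k → D i x = 0 := by
  simp [jker, Submodule.mem_iInf]

theorem jker_zero : jker D 0 = ⊤ := eq_top_iff.2 fun x _ ↦ (mem_jker D).2 fun i hi ↦ absurd hi (Nat.not_lt_zero _)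

/-- The projection on the joint kernel of the first `k` operators. -/
noncomputable def jproj : ℕ → C →ₗ[R] C
  | 0 => LinearMap.id
  | k + 1 => if h : k < n then D ⟨k, h⟩ ∘ₗ L ⟨k, h⟩ ∘ₗ jproj k else jproj k

variable {D L}

theorem IsCAR.homotopy_self (h : IsCAR D L) (i : Fin n) (x : C) : D i (L i x) + L i (D i x) = x := by
  rw [h.homotopy, if_pos rfl]

theorem IsCAR.homotopy_ne (h : IsCAR D L) {i j : Fin n} (hij : i ≠ j) (x : C) : D i (L j x) = -L j (D i x) :=
  eq_neg_of_add_eq_zero_left (by rw [h.homotopy, if_neg hij])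

theorem IsCAR.proj_mem (h : IsCAR D L) (k : ℕ) (hk : k < n) {x : C} (hx : x ∈ jker D k) :
    D ⟨k, hk⟩ (L ⟨k, hk⟩ x) ∈ jker D (k + 1) ∧ D ⟨k, hk⟩ x ∈ jker D (k + 1) := by
  rw [mem_jker] at hx
  constructor <;> refine (mem_jker D).2 fun i hi ↦ ?_ <;> rcases (Nat.lt_succ_iff_lt_or_eq.1 hi) with hik | hik
  · rw [eq_neg_of_add_eq_zero_left (h.anti i ⟨k, hk⟩ _), h.homotopy_ne (fun e ↦ by simp [e] at hik), hx i hik,
      map_zero, neg_zero, map_zero, neg_zero]
  · obtain rfl : i = ⟨k, hk⟩ := Fin.ext hik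
    exact h.sq _ _
  · rw [eq_neg_of_add_eq_zero_left (h.anti i ⟨k, hk⟩ _), hx i hik, map_zero, neg_zero]
  · obtain rfl : i = ⟨k, hk⟩ := Fin.ext hik
    exact h.sq _ _

theorem IsCAR.jproj_mem (h : IsCAR D L) (k : ℕ) (x : C) : jproj D L k x ∈ jker D k := by
  induction k with
  | zero => rw [jker_zero]; exact Submodule.mem_top
  | succ k ih =>
    rw [jproj]
    split_ifs with hk
    · exact (h.proj_mem k hk ih).1
    · refine (mem_jker D).2 fun i hi ↦ (mem_jker D).1 ih i ?_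
      have := i.isLt; omega

theorem IsCAR.jproj_eq_self (h : IsCAR D L) (k : ℕ) {x : C} (hx : ∀ i, D i x = 0) : jproj D L k x = x := by
  induction k with
  | zero => rfl
  | succ k ih =>
    rw [jproj]
    split_ifs with hk
    · rw [LinearMap.comp_apply, LinearMap.comp_apply, ih]
      have := h.homotopy_self ⟨k, hk⟩ x
      rwa [hx, map_zero, add_zero] at this
    · exact ih

theorem IsCAR.D_jproj (h : IsCAR D L) (x : C) (i : Fin n) : D i (jproj D L n x) = 0 :=
  (mem_jker D).1 (h.jproj_mem n x) i i.isLt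

theorem jproj_mem_of_swap (S T : Submodule R C) (hDS : ∀ i, ∀ x ∈ S, D i x ∈ T) (hDT : ∀ i, ∀ x ∈ T, D i x ∈ S)
    (hLS : ∀ i, ∀ x ∈ S, L i x ∈ T) (k : ℕ) : ∀ x ∈ S, jproj D L k x ∈ S := by
  induction k with
  | zero => exact fun x hx ↦ hx
  | succ k ih =>
    intro x hx
    rw [jproj]
    split_ifs with hk
    · exact hDT _ _ (hLS _ _ (ih x hx))
    · exact ih x hx

theorem jproj_semilinear {R' : Type*} [CommRing R'] {C' : Type*} [AddCommGroup C'] [Module R' C']
    {D' L' : Fin n → C' →ₗ[R'] C'} (F : C →+ C') (hD : ∀ i x, F (D i x) = D' i (F x))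
    (hL : ∀ i x, F (L i x) = L' i (F x)) (k : ℕ) (x : C) : F (jproj D L k x) = jproj D' L' k (F x) := by
  induction k with
  | zero => rfl
  | succ k ih =>
    simp only [jproj]
    split_ifs with hk
    · simp only [LinearMap.comp_apply, hD, hL, ih]
    · exact ih

theorem IsCAR.exists_eq_of_cocycle (h : IsCAR D L) (c : Fin n → C) (hc : ∀ i, D i (c i) = 0)
    (hc' : ∀ i j, D i (c j) + D j (c i) = 0) : ∃ z, ∀ i, D i z = c i := by
  suffices ∀ k, ∃ z, ∀ i : Fin n, (i : ℕ) < k → D i z = c i by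
    obtain ⟨z, hz⟩ := this n; exact ⟨z, fun i ↦ hz i i.isLt⟩
  intro k
  induction k with
  | zero => exact ⟨0, fun i hi ↦ absurd hi (Nat.not_lt_zero _)⟩
  | succ k ih =>
    obtain ⟨z, hz⟩ := ih
    by_cases hk : k < n
    · let j : Fin n := ⟨k, hk⟩
      refine ⟨z + L j (c j - D j z), fun i hi ↦ ?_⟩
      rcases Nat.lt_succ_iff_lt_or_eq.1 hi with hik | hik
      · have hw : D i (c j - D j z) = 0 := by
          rw [map_sub, eq_neg_of_add_eq_zero_left (h.anti i j z), hz i hik, sub_neg_eq_add, hc' i j]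
        rw [map_add, hz i hik, h.homotopy_ne (fun e ↦ by simp [e, j] at hik), hw, map_zero, neg_zero, add_zero]
      · obtain rfl : i = j := Fin.ext hik
        have hw : D j (c j - D j z) = 0 := by rw [map_sub, hc, h.sq, sub_zero]
        have := h.homotopy_self j (c j - D j z)
        rw [hw, map_zero, add_zero] at this
        rw [map_add, this, add_sub_cancel]
    · exact ⟨z, fun i hi ↦ hz i (by have := i.isLt; omega)⟩

/-- Splitting off one pair of operators. -/
noncomputable def IsCAR.splitEquiv (h : IsCAR D L) (k : ℕ) (hk : k < n) :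
    jker D k ≃ₗ[R] jker D (k + 1) × jker D (k + 1) where
  toFun x := (⟨_, (h.proj_mem k hk x.2).1⟩, ⟨_, (h.proj_mem k hk x.2).2⟩)
  map_add' x y := by ext <;> simp
  map_smul' r x := by ext <;> simp
  invFun p := ⟨(p.1 : C) + L ⟨k, hk⟩ (p.2 : C), (mem_jker D).2 fun i hi ↦ by
    rw [map_add, (mem_jker D).1 p.1.2 i (Nat.lt_succ_of_lt hi), h.homotopy_ne (fun e ↦ by simp [e] at hi),
      (mem_jker D).1 p.2.2 i (Nat.lt_succ_of_lt hi), map_zero, neg_zero, add_zero]⟩
  left_inv x := Subtype.ext (h.homotopy_self ⟨k, hk⟩ x.1)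
  right_inv p := by
    have h1 : D ⟨k, hk⟩ (p.1 : C) = 0 := (mem_jker D).1 p.1.2 _ (Nat.lt_succ_self _)
    have h2 : D ⟨k, hk⟩ (p.2 : C) = 0 := (mem_jker D).1 p.2.2 _ (Nat.lt_succ_self _)
    have h3 : D ⟨k, hk⟩ (L ⟨k, hk⟩ (p.2 : C)) = p.2 := by
      have := h.homotopy_self ⟨k, hk⟩ (p.2 : C); rwa [h2, map_zero, add_zero] at this
    have h4 : D ⟨k, hk⟩ (L ⟨k, hk⟩ (p.1 : C)) = p.1 := by
      have := h.homotopy_self ⟨k, hk⟩ (p.1 : C); rwa [h1, map_zero, add_zero] at this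
    have h5 : D ⟨k, hk⟩ (L ⟨k, hk⟩ (L ⟨k, hk⟩ (p.2 : C))) + L ⟨k, hk⟩ (p.2 : C) = L ⟨k, hk⟩ (p.2 : C) := by
      have := h.homotopy_self ⟨k, hk⟩ (L ⟨k, hk⟩ (p.2 : C)); rwa [h3] at this
    refine Prod.ext (Subtype.ext ?_) (Subtype.ext ?_)
    · change D ⟨k, hk⟩ (L ⟨k, hk⟩ ((p.1 : C) + L ⟨k, hk⟩ (p.2 : C))) = p.1
      rw [map_add, map_add, h4, add_eq_right.1 h5, add_zero]
    · change D ⟨k, hk⟩ ((p.1 : C) + L ⟨k, hk⟩ (p.2 : C)) = p.2
      rw [map_add, h1, h3, zero_add]

/-- Over a local ring the joint kernel is free of the expected rank. -/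
theorem IsCAR.exists_finrank [IsLocalRing R] [Module.Free R C] [Module.Finite R C] (h : IsCAR D L) (k : ℕ) (hk : k ≤ n) :
    Module.Free R (jker D k) ∧ Module.Finite R (jker D k) ∧
      2 ^ k * Module.finrank R (jker D k) = Module.finrank R C := by
  induction k with
  | zero =>
    let e : jker D 0 ≃ₗ[R] C := (LinearEquiv.ofEq _ _ (jker_zero D)).trans Submodule.topEquiv
    exact ⟨Module.Free.of_equiv e.symm, Module.Finite.equiv e.symm, by rw [pow_zero, one_mul, e.finrank_eq]⟩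
  | succ k ih =>
    obtain ⟨hf, hfin, hr⟩ := ih (by omega)
    let e := h.splitEquiv k (by omega)
    haveI : Module.Projective R (jker D (k + 1) × jker D (k + 1)) := Module.Projective.of_equiv e
    haveI : Module.Finite R (jker D (k + 1) × jker D (k + 1)) := Module.Finite.equiv e
    haveI : Module.Finite R (jker D (k + 1)) :=
      Module.Finite.of_surjective (LinearMap.fst R (jker D (k + 1)) (jker D (k + 1))) LinearMap.fst_surjective
    haveI : Module.Projective R (jker D (k + 1)) := Module.Projective.of_split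
      (LinearMap.inl R (jker D (k + 1)) (jker D (k + 1))) (LinearMap.fst R _ _) (LinearMap.ext fun x ↦ rfl)
    haveI : Module.Free R (jker D (k + 1)) := Module.free_of_flat_of_isLocalRing
    refine ⟨inferInstance, inferInstance, ?_⟩
    rw [← hr, e.finrank_eq, Module.finrank_prod]
    ring

theorem IsCAR.exists_mem_sub_of_notMem (h : IsCAR D L) (N S : Submodule R C) (hN : ∀ i, ∀ x ∈ N, D i x ∈ N)
    (hS : ∀ i, ∀ x ∈ S, D i x ∈ S) {x : C} (hxN : x ∈ N) (hxS : x ∉ S) :
    ∃ y ∈ N, y ∉ S ∧ ∀ i, D i y ∈ S := by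
  suffices ∀ k, ∃ y ∈ N, y ∉ S ∧ ∀ i : Fin n, (i : ℕ) < k → D i y ∈ S by
    obtain ⟨y, h1, h2, h3⟩ := this n; exact ⟨y, h1, h2, fun i ↦ h3 i i.isLt⟩
  intro k
  induction k with
  | zero => exact ⟨x, hxN, hxS, fun i hi ↦ absurd hi (Nat.not_lt_zero _)⟩
  | succ k ih =>
    obtain ⟨y, h1, h2, h3⟩ := ih
    by_cases hk : k < n
    · by_cases hy : D ⟨k, hk⟩ y ∈ S
      · refine ⟨y, h1, h2, fun i hi ↦ ?_⟩
        rcases Nat.lt_succ_iff_lt_or_eq.1 hi with hik | hik
        · exact h3 i hik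
        · rwa [show i = ⟨k, hk⟩ from Fin.ext hik]
      · refine ⟨_, hN ⟨k, hk⟩ y h1, hy, fun i hi ↦ ?_⟩
        rcases Nat.lt_succ_iff_lt_or_eq.1 hi with hik | hik
        · rw [eq_neg_of_add_eq_zero_left (h.anti i ⟨k, hk⟩ y)]
          exact neg_mem (hS _ _ (h3 i hik))
        · rw [show i = ⟨k, hk⟩ from Fin.ext hik, h.sq]
          exact zero_mem _
    · exact ⟨y, h1, h2, fun i hi ↦ h3 i (by have := i.isLt; omega)⟩

end Groth.Agent.QuadH13
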