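import Groth.Agent.Lib.QuadH13.BaseCh
import Mathlib.FieldTheory.IsAlgClosed.Basic
import Mathlib.LinearAlgebra.FiniteDimensional.Lemmas
import Mathlib.Algebra.Polynomial.Degree.SmallDegree

/-!
Over an algebraically closed field isometries are products of reflections.
-/

universe u v

open QuadraticMap

namespace Groth.Agent.QuadH13

set_option backward.isDefEq.respectTransparency.types false

variable {K : Type u} [Field K] {V : Type v} [AddCommGroup V] [Module K V] (Q : QuadraticForm K V)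

/-- The group generated by the reflections in vectors of `W`. -/
noncomputable def reflGen (W : Submodule K V) : Subgroup (V ≃ₗ[K] V) :=
  Subgroup.closure {g | ∃ v ∈ W, ∃ (c : Kˣ) (hc : Q v = c), g = refl' Q v c hc}

theorem refl'_mem_reflGen {W : Submodule K V} {v : V} (hv : v ∈ W) (c : Kˣ) (hc : Q v = c) :
    refl' Q v c hc ∈ reflGen Q W :=
  Subgroup.subset_closure ⟨v, hv, c, hc, rfl⟩

theorem reflGen_mono {W W' : Submodule K V} (h : W ≤ W') : reflGen Q W ≤ reflGen Q W' :=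
  Subgroup.closure_mono fun _ ⟨v, hv, r⟩ ↦ ⟨v, h hv, r⟩

theorem refl'_refl' {A : Type*} [CommRing A] {M : Type*} [AddCommGroup M] [Module A M] (q : QuadraticForm A M)
    (v : M) (c : Aˣ) (hc : q v = c) : refl' q v c hc * refl' q v c hc = 1 := by
  refine LinearEquiv.ext fun y ↦ ?_
  exact (refl' q v c hc).symm_apply_apply y

theorem reflGen_mem_O {W : Submodule K V} {g : V ≃ₗ[K] V} (hg : g ∈ reflGen Q W) : g ∈ QuadGrp.O Q :=
  (Subgroup.closure_le _).2 (by rintro _ ⟨v, -, c, hc, rfl⟩; exact refl'_mem Q v c hc) hg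

theorem reflGen_fix {W : Submodule K V} {g : V ≃ₗ[K] V} (hg : g ∈ reflGen Q W) (u : V)
    (hu : ∀ w ∈ W, polar Q w u = 0) : g u = u := by
  unfold reflGen at hg
  induction hg using Subgroup.closure_induction with
  | mem g hg =>
    obtain ⟨v, hv, c, hc, rfl⟩ := hg
    rw [refl'_apply, hu v hv, mul_zero, zero_smul, sub_zero]
  | one => rfl
  | mul g h _ _ hg hh => rw [LinearEquiv.mul_apply, hh, hg]
  | inv g _ hg => exact g.injective ((LinearEquiv.apply_symm_apply g u).trans hg.symm)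

theorem reflGen_preserves {W : Submodule K V} [FiniteDimensional K V] {g : V ≃ₗ[K] V} (hg : g ∈ reflGen Q W) :
    ∀ w ∈ W, g w ∈ W := by
  unfold reflGen at hg
  induction hg using Subgroup.closure_induction with
  | mem g hg =>
    obtain ⟨v, hv, c, hc, rfl⟩ := hg
    intro w hw
    rw [refl'_apply]
    exact W.sub_mem hw (W.smul_mem _ hv)
  | one => exact fun w hw ↦ hw
  | mul g h _ _ hg hh => exact fun w hw ↦ hg _ (hh w hw)
  | inv g _ hg =>
    intro w hw
    have hs : W.map (g : V →ₗ[K] V) = W := Submodule.eq_of_le_of_finrank_eq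
      (by rintro _ ⟨z, hz, rfl⟩; exact hg z hz) (LinearEquiv.finrank_map_eq g W)
    obtain ⟨z, hz, hzw⟩ : w ∈ W.map (g : V →ₗ[K] V) := by rw [hs]; exact hw
    rw [← hzw]
    exact (congrArg (· ∈ W) (g.symm_apply_apply z)).mpr hz

/-- Two linear forms and the quadratic form are simultaneously non-zero somewhere on `W`. -/
theorem exists_avoid [Infinite K] (W : Submodule K V) (f₁ f₂ : V →ₗ[K] K) (hv : ∃ v ∈ W, Q v ≠ 0)
    (h₁ : ∃ v ∈ W, f₁ v ≠ 0) (h₂ : ∃ v ∈ W, f₂ v ≠ 0) : ∃ v ∈ W, Q v ≠ 0 ∧ f₁ v ≠ 0 ∧ f₂ v ≠ 0 := by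
  obtain ⟨v, hvW, hQv⟩ := hv
  obtain ⟨u, huW, hu₁, hu₂⟩ : ∃ u ∈ W, f₁ u ≠ 0 ∧ f₂ u ≠ 0 := by
    obtain ⟨a, ha, ha₁⟩ := h₁
    obtain ⟨b, hb, hb₂⟩ := h₂
    by_cases ha₂ : f₂ a ≠ 0
    · exact ⟨a, ha, ha₁, ha₂⟩
    by_cases hb₁ : f₁ b ≠ 0
    · exact ⟨b, hb, hb₁, hb₂⟩
    simp only [not_not] at ha₂ hb₁
    exact ⟨a + b, W.add_mem ha hb, by rw [map_add, hb₁, add_zero]; exact ha₁,
      by rw [map_add, ha₂, zero_add]; exact hb₂⟩
  let p : Polynomial K := (Polynomial.C (Q v) * Polynomial.X ^ 2 + Polynomial.C (polar Q u v) * Polynomial.X + Polynomial.C (Q u)) *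
    ((Polynomial.C (f₁ v) * Polynomial.X + Polynomial.C (f₁ u)) * (Polynomial.C (f₂ v) * Polynomial.X + Polynomial.C (f₂ u)))
  have hp : p ≠ 0 := by
    refine mul_ne_zero (fun h ↦ ?_) (mul_ne_zero (fun h ↦ ?_) fun h ↦ ?_)
    · have := congrArg (Polynomial.coeff · 2) h
      simp [hQv] at this
    · have := congrArg (Polynomial.coeff · 0) h
      simp [hu₁] at this
    · have := congrArg (Polynomial.coeff · 0) h
      simp [hu₂] at this
  obtain ⟨t, ht⟩ : ∃ t, p.eval t ≠ 0 := by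
    by_contra h
    push Not at h
    exact hp (Polynomial.funext fun t ↦ by rw [h, Polynomial.eval_zero])
  simp only [p, Polynomial.eval_mul, Polynomial.eval_add, Polynomial.eval_C, Polynomial.eval_pow, Polynomial.eval_X,
    ne_eq, mul_eq_zero, not_or] at ht
  refine ⟨u + t • v, W.add_mem huW (W.smul_mem t hvW), ?_, ?_, ?_⟩
  · rw [QuadraticMap.map_add Q, QuadraticMap.map_smul, polar_smul_right, smul_eq_mul, smul_eq_mul]
    intro h; exact ht.1 (by linear_combination h)
  · rw [map_add, map_smul, smul_eq_mul]; intro h; exact ht.2.1 (by linear_combination h)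
  · rw [map_add, map_smul, smul_eq_mul]; intro h; exact ht.2.2 (by linear_combination h)

theorem refl'_sub_apply (y y' : V) (hQ : Q y' = Q y) (c : Kˣ) (hc : Q (y - y') = c) :
    refl' Q (y - y') c hc y = y' := by
  have h : polar Q (y - y') y = c := by
    rw [← hc, sub_eq_add_neg, polar_add_left, polar_neg_left, polar_self, QuadraticMap.map_add Q, polar_neg_right,
      QuadraticMap.map_neg, hQ, polar_comm (⇑Q) y' y, two_smul]
  rw [refl'_apply, h, c.inv_mul, one_smul, sub_sub_cancel]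

/-- Reflections in `W` move `y` to `y'`. -/
theorem exists_move [Infinite K] (W : Submodule K V) (y y' : V) (hyy : y - y' ∈ W) (hQ : Q y' = Q y)
    (hv : ∃ v ∈ W, Q v ≠ 0) (h₁ : ∃ v ∈ W, polar Q v y ≠ 0) (h₂ : ∃ v ∈ W, polar Q v y' ≠ 0) :
    ∃ g ∈ reflGen Q W, g y = y' := by
  by_cases hd : Q (y - y') = 0
  · obtain ⟨v, hvW, hQv, hvy, hvy'⟩ := exists_avoid Q W ((polarBilin Q).flip y) ((polarBilin Q).flip y') hv h₁ h₂
    simp only [LinearMap.flip_apply, polarBilin_apply_apply] at hvy hvy'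
    let c : Kˣ := Units.mk0 _ hQv
    let z := refl' Q v c rfl y
    have hz : z = y - ((Q v)⁻¹ * polar Q v y) • v := by rw [show z = _ from refl'_apply Q v c rfl y]; rfl
    have hQz : Q z = Q y := refl'_mem Q v c rfl y
    have hzd : z - y' = (y - y') + (-((Q v)⁻¹ * polar Q v y)) • v := by rw [hz, neg_smul]; abel
    have hzy : Q (z - y') ≠ 0 := by
      have hsub : polar Q (y - y') v = polar Q v y - polar Q v y' := by
        rw [polar_sub_left, polar_comm (⇑Q) y v, polar_comm (⇑Q) y' v]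
      rw [hzd, QuadraticMap.map_add Q, hd, QuadraticMap.map_smul, polar_smul_right, hsub, smul_eq_mul, smul_eq_mul]
      have : 0 + -((Q v)⁻¹ * polar Q v y) * -((Q v)⁻¹ * polar Q v y) * Q v +
          -((Q v)⁻¹ * polar Q v y) * (polar Q v y - polar Q v y') = (Q v)⁻¹ * polar Q v y * polar Q v y' := by
        field_simp; ring
      rw [this]
      exact mul_ne_zero (mul_ne_zero (inv_ne_zero hQv) hvy) hvy'
    have hzW : z - y' ∈ W := by rw [hzd]; exact W.add_mem hyy (W.smul_mem _ hvW)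
    refine ⟨refl' Q (z - y') (Units.mk0 _ hzy) rfl * refl' Q v c rfl, Subgroup.mul_mem _ ?_ ?_, ?_⟩
    · exact refl'_mem_reflGen Q hzW (Units.mk0 _ hzy) rfl
    · exact refl'_mem_reflGen Q hvW c rfl
    · exact refl'_sub_apply Q z y' (hQ.trans hQz.symm) (Units.mk0 _ hzy) rfl
  · exact ⟨refl' Q (y - y') (Units.mk0 _ hd) rfl, refl'_mem_reflGen Q hyy _ _, refl'_sub_apply Q y y' hQ (Units.mk0 _ hd) rfl⟩

theorem mem_reflGen_aux [IsAlgClosed K] [FiniteDimensional K V] : ∀ (k : ℕ) (W F : Submodule K V),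
    Module.finrank K W = k → (∀ w ∈ W, ∀ f ∈ F, polar Q w f = 0) → W ⊔ F = ⊤ →
    (∀ w ∈ W, Q w = 0 → (∀ z ∈ W, polar Q w z = 0) → w = 0) →
    ∀ g ∈ QuadGrp.O Q, (∀ f ∈ F, g f = f) → (∀ w ∈ W, g w ∈ W) → g ∈ reflGen Q W := by
  intro k
  induction k using Nat.strong_induction_on with
  | _ k ih =>
  intro W F hk horth hsup hnd g hg hF hW
  haveI : Infinite K := inferInstance
  have hgen : ∀ h : V ≃ₗ[K] V, (∀ w ∈ W, h w = w) → (∀ f ∈ F, h f = f) → h = 1 := fun h h1 h2 ↦
    LinearEquiv.ext fun x ↦ by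
      obtain ⟨w, hw, f, hf, rfl⟩ := Submodule.mem_sup.1 (hsup.ge (Submodule.mem_top (x := x)))
      rw [map_add, h1 w hw, h2 f hf]; rfl
  by_cases hk1 : k ≤ 1
  · rcases Nat.le_one_iff_eq_zero_or_eq_one.1 hk1 with rfl | rfl
    · have : g = 1 := hgen g (fun w hw ↦ by
        rw [Submodule.finrank_eq_zero.1 hk, Submodule.mem_bot] at hw; subst hw; exact map_zero g) hF
      rw [this]; exact one_mem _
    · obtain ⟨⟨a, ha⟩, ha0, hspan⟩ := finrank_eq_one_iff'.1 hk
      have ha0' : a ≠ 0 := fun h ↦ ha0 (Subtype.ext h)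
      have hsp : ∀ w ∈ W, ∃ t : K, w = t • a := fun w hw ↦ by
        obtain ⟨t, ht⟩ := hspan ⟨w, hw⟩; exact ⟨t, (congrArg Subtype.val ht).symm⟩
      have hQa : Q a ≠ 0 := fun h ↦ ha0' (hnd a ha h fun z hz ↦ by
        obtain ⟨t, rfl⟩ := hsp z hz
        rw [polar_smul_right, polar_self, h, smul_zero, smul_zero])
      obtain ⟨t, ht⟩ := hsp _ (hW a ha)
      have htt : t * t = 1 := by
        have := hg a
        rw [ht, QuadraticMap.map_smul, smul_eq_mul] at this
        exact mul_right_cancel₀ hQa (this.trans (one_mul _).symm)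
      rcases mul_self_eq_one_iff.1 htt with rfl | rfl
      · have : g = 1 := hgen g (fun w hw ↦ by
          obtain ⟨s, rfl⟩ := hsp w hw; rw [map_smul, ht, one_smul]) hF
        rw [this]; exact one_mem _
      · have : g = refl' Q a (Units.mk0 _ hQa) rfl := by
          refine mul_inv_eq_one.1 (hgen _ (fun w hw ↦ ?_) fun f hf ↦ ?_)
          · obtain ⟨s, rfl⟩ := hsp w hw
            rw [show (refl' Q a (Units.mk0 _ hQa) rfl)⁻¹ = refl' Q a (Units.mk0 _ hQa) rfl from rfl,
              LinearEquiv.mul_apply, map_smul, refl'_apply, polar_self, two_smul, Units.val_inv_eq_inv_val,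
              Units.val_mk0, show (Q a)⁻¹ * (Q a + Q a) = (2 : K) by field_simp; ring, two_smul, map_smul, map_sub,
              map_add, ht, neg_one_smul]
            congr 1; abel
          · rw [show (refl' Q a (Units.mk0 _ hQa) rfl)⁻¹ = refl' Q a (Units.mk0 _ hQa) rfl from rfl,
              LinearEquiv.mul_apply, refl'_apply, horth a ha f hf, mul_zero, zero_smul, sub_zero, hF f hf]
        rw [this]; exact refl'_mem_reflGen Q ha _ _
  -- an isotropic vector
  obtain ⟨x, hxW, hx0, hQx⟩ : ∃ x ∈ W, x ≠ 0 ∧ Q x = 0 := by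
    let b := Module.finBasisOfFinrankEq K W hk
    let u : V := b ⟨0, by omega⟩
    let w : V := b ⟨1, by omega⟩
    by_cases hw : Q w = 0
    · exact ⟨w, SetLike.coe_mem _, fun h ↦ b.ne_zero _ (Subtype.ext h), hw⟩
    obtain ⟨t, ht⟩ := IsAlgClosed.exists_root
      (Polynomial.C (Q w) * Polynomial.X ^ 2 + Polynomial.C (polar Q u w) * Polynomial.X + Polynomial.C (Q u))
      (by rw [Polynomial.degree_quadratic hw]; decide)
    refine ⟨u + t • w, W.add_mem (SetLike.coe_mem _) (W.smul_mem t (SetLike.coe_mem _)), fun h ↦ ?_, ?_⟩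
    · have h' : b ⟨0, by omega⟩ + t • b ⟨1, by omega⟩ = 0 := Subtype.ext h
      have := congrArg (fun z ↦ b.repr z ⟨0, by omega⟩) h'
      simp at this
    · simp only [Polynomial.IsRoot, Polynomial.eval_add, Polynomial.eval_mul, Polynomial.eval_C, Polynomial.eval_pow,
        Polynomial.eval_X] at ht
      rw [QuadraticMap.map_add Q, QuadraticMap.map_smul, polar_smul_right, smul_eq_mul, smul_eq_mul]
      linear_combination ht
  obtain ⟨y₁, hy₁W, hy₁⟩ : ∃ y ∈ W, polar Q x y ≠ 0 := by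
    by_contra h; push Not at h; exact hx0 (hnd x hxW hQx h)
  obtain ⟨y₀, hy₀W, hxy₀⟩ : ∃ y₀ ∈ W, polar Q x y₀ = 1 :=
    ⟨(polar Q x y₁)⁻¹ • y₁, W.smul_mem _ hy₁W, by rw [polar_smul_right, smul_eq_mul, inv_mul_cancel₀ hy₁]⟩
  let y := y₀ + (-Q y₀) • x
  have hyW : y ∈ W := W.add_mem hy₀W (W.smul_mem _ hxW)
  have hxx : polar Q x x = 0 := by rw [polar_self, hQx, smul_zero]
  have hxy : polar Q x y = 1 := by rw [polar_add_right, polar_smul_right, hxx, smul_zero, add_zero, hxy₀]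
  have hQy : Q y = 0 := by
    rw [QuadraticMap.map_add Q, QuadraticMap.map_smul, hQx, polar_smul_right, polar_comm (⇑Q) y₀ x, hxy₀,
      smul_eq_mul, smul_eq_mul]
    ring
  have hQW : ∃ v ∈ W, Q v ≠ 0 := by
    refine ⟨x + y, W.add_mem hxW hyW, ?_⟩
    rw [QuadraticMap.map_add Q, hQx, hQy, hxy]; simp
  -- move `g x` back to `x`
  obtain ⟨g₁, hg₁, hg₁x⟩ : ∃ g₁ ∈ reflGen Q W, g₁ (g x) = x := by
    refine exists_move Q W (g x) x (W.sub_mem (hW x hxW) hxW) (hg x).symm hQW ?_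
      ⟨y, hyW, by rw [polar_comm, hxy]; exact one_ne_zero⟩
    by_contra h; push Not at h
    refine hx0 ((LinearEquiv.map_eq_zero_iff g).1 (hnd _ (hW x hxW) (by rw [hg x, hQx]) fun z hz ↦ ?_))
    rw [polar_comm]; exact h z hz
  let g' := g₁ * g
  have hg' : g' ∈ QuadGrp.O Q := mul_mem (reflGen_mem_O Q hg₁) hg
  have hg'x : g' x = x := hg₁x
  have hg'W : ∀ w ∈ W, g' w ∈ W := fun w hw ↦ reflGen_preserves Q hg₁ _ (hW w hw)
  have hg'F : ∀ f ∈ F, g' f = f := fun f hf ↦ by
    change g₁ (g f) = f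
    rw [hF f hf, reflGen_fix Q hg₁ f fun w hw ↦ horth w hw f hf]
  have hpol : ∀ (h : V ≃ₗ[K] V), h ∈ QuadGrp.O Q → ∀ a b, polar Q (h a) (h b) = polar Q a b := fun h hh a b ↦ by
    simp only [polar, ← map_add]
    rw [hh (a + b), hh a, hh b]
  let U : Submodule K V := W ⊓ LinearMap.ker (polarBilin Q x)
  have hmU : ∀ v, v ∈ U ↔ v ∈ W ∧ polar Q x v = 0 := fun v ↦ by
    simp [U]
  obtain ⟨g₂, hg₂, hg₂y⟩ : ∃ g₂ ∈ reflGen Q U, g₂ (g' y) = y := by
    have hxy' : polar Q x (g' y) = 1 := by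
      conv_lhs => rw [← hg'x]
      rw [hpol g' hg', hxy]
    have hd : g' y - y ∈ U := (hmU _).2 ⟨W.sub_mem (hg'W y hyW) hyW, by rw [polar_sub_right, hxy', hxy, sub_self]⟩
    by_cases hUQ : ∃ v ∈ U, Q v ≠ 0
    · have hxU : x ∈ U := (hmU _).2 ⟨hxW, hxx⟩
      exact exists_move Q U (g' y) y hd (hg' y).symm hUQ ⟨x, hxU, by rw [hxy']; exact one_ne_zero⟩
        ⟨x, hxU, by rw [hxy]; exact one_ne_zero⟩
    · push Not at hUQ
      refine ⟨1, one_mem _, sub_eq_zero.1 ?_⟩
      have hUU : ∀ a ∈ U, ∀ b ∈ U, polar Q a b = 0 := fun a ha b hb ↦ by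
        simp [polar, hUQ a ha, hUQ b hb, hUQ _ (U.add_mem ha hb)]
      change g' y - y = 0
      have hyd : polar Q (g' y - y) y = 0 := by
        have := hg' y
        rw [← sub_add_cancel (g' y) y, QuadraticMap.map_add Q, hUQ _ hd, hQy] at this
        simpa using this
      refine hnd _ ((hmU _).1 hd).1 (hUQ _ hd) fun z hz ↦ ?_
      have hz' : z - polar Q x z • y ∈ U := (hmU _).2 ⟨W.sub_mem hz (W.smul_mem _ hyW), by
        rw [polar_sub_right, polar_smul_right, hxy, smul_eq_mul, mul_one, sub_self]⟩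
      have := hUU _ hd _ hz'
      rwa [polar_sub_right, polar_smul_right, hyd, smul_zero, sub_zero] at this
  let g'' := g₂ * g'
  have hg₂x : g₂ x = x := reflGen_fix Q hg₂ x fun w hw ↦ by rw [polar_comm]; exact ((hmU w).1 hw).2
  have hg''x : g'' x = x := by change g₂ (g' x) = x; rw [hg'x, hg₂x]
  have hg''y : g'' y = y := hg₂y
  have hg'' : g'' ∈ QuadGrp.O Q := mul_mem (reflGen_mem_O Q hg₂) hg'
  let W' : Submodule K V := U ⊓ LinearMap.ker (polarBilin Q y)
  have hmW' : ∀ v, v ∈ W' ↔ v ∈ W ∧ polar Q x v = 0 ∧ polar Q y v = 0 := fun v ↦ by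
    simp [W', U, and_assoc]
  let F' : Submodule K V := F ⊔ Submodule.span K {x, y}
  have hdec : ∀ w ∈ W, w - polar Q y w • x - polar Q x w • y ∈ W' := fun w hw ↦ by
    refine (hmW' _).2 ⟨W.sub_mem (W.sub_mem hw (W.smul_mem _ hxW)) (W.smul_mem _ hyW), ?_, ?_⟩
    · rw [polar_sub_right, polar_sub_right, polar_smul_right, polar_smul_right, hxx, hxy, smul_zero, sub_zero,
        smul_eq_mul, mul_one, sub_self]
    · rw [polar_sub_right, polar_sub_right, polar_smul_right, polar_smul_right, polar_comm (⇑Q) y x, hxy,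
        polar_self, hQy, smul_eq_mul, mul_one, sub_self, smul_zero, smul_zero, sub_zero]
  have hsplit : ∀ w ∈ W, w - (w - polar Q y w • x - polar Q x w • y) ∈ F' := fun w _ ↦ by
    refine Submodule.mem_sup_right ?_
    rw [show w - (w - polar Q y w • x - polar Q x w • y) = polar Q y w • x + polar Q x w • y by abel]
    exact Submodule.mem_span_pair.2 ⟨_, _, rfl⟩
  have horth' : ∀ w ∈ W', ∀ f ∈ F', polar Q w f = 0 := by
    intro w hw f hf
    obtain ⟨hwW, hwx, hwy⟩ := (hmW' w).1 hw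
    obtain ⟨f₀, hf₀, f₁, hf₁, rfl⟩ := Submodule.mem_sup.1 hf
    obtain ⟨a, b, rfl⟩ := Submodule.mem_span_pair.1 hf₁
    rw [polar_add_right, polar_add_right, polar_smul_right, polar_smul_right, horth w hwW f₀ hf₀,
      polar_comm (⇑Q) w x, polar_comm (⇑Q) w y, hwx, hwy]
    simp
  have hlt : Module.finrank K W' < k := by
    rw [← hk]
    refine Submodule.finrank_lt_finrank_of_lt (lt_of_le_of_ne (fun v hv ↦ ((hmW' v).1 hv).1) fun h ↦ ?_)
    have := ((hmW' x).1 (h ▸ hxW)).2.2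
    rw [polar_comm, hxy] at this
    exact one_ne_zero this
  have hF' : ∀ f ∈ F', g'' f = f := fun f hf ↦ by
    obtain ⟨f₀, hf₀, f₁, hf₁, rfl⟩ := Submodule.mem_sup.1 hf
    obtain ⟨a, b, rfl⟩ := Submodule.mem_span_pair.1 hf₁
    have h0 : g'' f₀ = f₀ := by
      change g₂ (g' f₀) = f₀
      rw [hg'F f₀ hf₀]
      exact reflGen_fix Q hg₂ f₀ fun w hw ↦ horth w ((hmU w).1 hw).1 f₀ hf₀
    rw [map_add, map_add, map_smul, map_smul, h0, hg''x, hg''y]
  have key : g'' ∈ reflGen Q W' := by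
    refine ih _ hlt W' F' rfl horth' (top_le_iff.1 fun v _ ↦ ?_) (fun w hw hQw hwz ↦ ?_) g'' hg'' hF' fun w hw ↦ ?_
    · obtain ⟨w, hw, f, hf, rfl⟩ := Submodule.mem_sup.1 (hsup.ge (Submodule.mem_top (x := v)))
      exact Submodule.mem_sup.2 ⟨_, hdec w hw, _, F'.add_mem (hsplit w hw) (Submodule.mem_sup_left hf), by abel⟩
    · refine hnd w ((hmW' w).1 hw).1 hQw fun z hz ↦ ?_
      have h1 := hwz _ (hdec z hz)
      have h2 := horth' w hw _ (hsplit z hz)
      rw [polar_sub_right, h1, sub_zero] at h2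
      exact h2
    · obtain ⟨hwW, hwx, hwy⟩ := (hmW' w).1 hw
      refine (hmW' _).2 ⟨reflGen_preserves Q (reflGen_mono Q inf_le_left hg₂) _ (hg'W w hwW), ?_, ?_⟩
      · conv_lhs => rw [← hg''x]
        rw [hpol g'' hg'', hwx]
      · conv_lhs => rw [← hg''y]
        rw [hpol g'' hg'', hwy]
  have hmem : g'' ∈ reflGen Q W := reflGen_mono Q (inf_le_left.trans inf_le_left) key
  have : g = g₁⁻¹ * (g₂⁻¹ * g'') := by simp [g'', g', ← mul_assoc]
  rw [this]
  exact mul_mem (inv_mem hg₁) (mul_mem (inv_mem (reflGen_mono Q inf_le_left hg₂)) hmem)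

/-- Cartan–Dieudonné over an algebraically closed field. -/
theorem mem_reflGen [IsAlgClosed K] [FiniteDimensional K V]
    (hnd : ∀ w, Q w = 0 → (∀ z, polar Q w z = 0) → w = 0) {g : V ≃ₗ[K] V} (hg : g ∈ QuadGrp.O Q) :
    g ∈ reflGen Q ⊤ :=
  mem_reflGen_aux Q _ ⊤ ⊥ rfl (fun w _ f hf ↦ by rw [(Submodule.mem_bot K).1 hf, polar_zero_right])
    (sup_bot_eq _) (fun w _ h1 h2 ↦ hnd w h1 fun z ↦ h2 z Submodule.mem_top) g hg
    (fun f hf ↦ by rw [(Submodule.mem_bot K).1 hf, map_zero]) fun _ _ ↦ Submodule.mem_top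

/-- An involution permuting pairwise products: every product is even or odd. -/
theorem mem_pairs_or {G : Type*} [Group G] (s : Set G) (hs : ∀ a ∈ s, a * a = 1) {r : G} (hr : r ∈ s) {g : G}
    (hg : g ∈ Subgroup.closure s) :
    g ∈ Subgroup.closure (Set.image2 (· * ·) s s) ∨ g * r ∈ Subgroup.closure (Set.image2 (· * ·) s s) := by
  let K := Subgroup.closure (Set.image2 (· * ·) s s)
  have hpair : ∀ a ∈ s, ∀ b ∈ s, a * b ∈ K := fun a ha b hb ↦ Subgroup.subset_closure ⟨a, ha, b, hb, rfl⟩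
  have hinv : ∀ a ∈ s, a⁻¹ = a := fun a ha ↦ inv_eq_of_mul_eq_one_left (hs a ha)
  have hconj : ∀ k ∈ K, r * k * r ∈ K := fun k hk ↦ by
    induction hk using Subgroup.closure_induction with
    | mem x hx =>
      obtain ⟨a, ha, b, hb, rfl⟩ := hx
      rw [show r * (a * b) * r = (r * a) * (b * r) by group]
      exact mul_mem (hpair r hr a ha) (hpair b hb r hr)
    | one => rw [mul_one, hs r hr]; exact one_mem _
    | mul a b _ _ ha hb =>
      rw [show r * (a * b) * r = (r * a * r) * (r * b * r) by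
        simp [mul_assoc, ← mul_assoc r r, hs r hr]]
      exact mul_mem ha hb
    | inv a _ ha =>
      have := inv_mem ha
      simpa [mul_assoc, hinv r hr] using this
  induction hg using Subgroup.closure_induction with
  | mem a ha => exact .inr (hpair a ha r hr)
  | one => exact .inl (one_mem _)
  | mul a b _ _ ha hb =>
    rcases ha with ha | ha <;> rcases hb with hb | hb
    · exact .inl (mul_mem ha hb)
    · exact .inr (by rw [mul_assoc]; exact mul_mem ha hb)
    · refine .inr ?_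
      rw [show a * b * r = a * r * (r * b * r) by simp [mul_assoc, ← mul_assoc r r, hs r hr]]
      exact mul_mem ha (hconj b hb)
    · refine .inl ?_
      rw [show a * b = a * r * (r * (b * r) * r) by simp [mul_assoc, ← mul_assoc r r, hs r hr]]
      exact mul_mem ha (hconj _ hb)
  | inv a _ ha =>
    rcases ha with ha | ha
    · exact .inl (inv_mem ha)
    · refine .inr ?_
      have := hconj _ (inv_mem ha)
      simpa [K, mul_assoc, hinv r hr, ← mul_assoc r r, hs r hr] using this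

end Groth.Agent.QuadH13
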