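import Mathlib.RingTheory.MvPolynomial.MonomialOrder
import Mathlib.RingTheory.Ideal.Maximal

/-!
A family of polynomials with no common zero modulo every maximal ideal has trivial annihilator (McCoy).
-/

universe u

namespace Groth.Agent.QuadH13

open MvPolynomial
open scoped MonomialOrder

variable {R : Type u} [CommRing R] {σ : Type*} {ι : Type*}

theorem smul_eq_zero_of_annihilates (m : MonomialOrder σ) (S : ι → MvPolynomial σ R) (f : MvPolynomial σ R)
    (hf : ∀ i, f * S i = 0)
    (hmin : ∀ f' : MvPolynomial σ R, (∀ i, f' * S i = 0) → m.toSyn (m.degree f') < m.toSyn (m.degree f) → f' = 0)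
    (i : ι) (d : σ →₀ ℕ) : coeff d (S i) • f = 0 := by
  classical
  by_contra hne
  let D := (S i).support.filter fun e ↦ coeff e (S i) • f ≠ 0
  have hdD : d ∈ D := Finset.mem_filter.2 ⟨mem_support_iff.2 fun h ↦ hne (by rw [h, zero_smul]), hne⟩
  obtain ⟨e, he, hmax⟩ := D.exists_max_image m.toSyn ⟨d, hdD⟩
  have hsum : f * S i = ∑ x ∈ D, monomial x 1 * (coeff x (S i) • f) := by
    conv_lhs => rw [(S i).as_sum, Finset.mul_sum]
    rw [← Finset.sum_subset (s₁ := D) (Finset.filter_subset _ _)]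
    · refine Finset.sum_congr rfl fun x _ ↦ ?_
      rw [smul_eq_C_mul, ← mul_assoc, mul_comm (monomial x 1), C_mul_monomial, mul_one, mul_comm]
    · intro x hx hxD
      have : coeff x (S i) • f = 0 := by
        by_contra h; exact hxD (Finset.mem_filter.2 ⟨hx, h⟩)
      rw [← mul_one (coeff x (S i)), ← C_mul_monomial, ← mul_assoc, mul_comm f, ← smul_eq_C_mul, this, zero_mul]
  have hc : coeff e (S i) * m.leadingCoeff f = 0 := by
    have h := congrArg (coeff (e + m.degree f)) hsum
    rw [hf i, coeff_zero, coeff_sum, Finset.sum_eq_single e] at h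
    · rw [coeff_monomial_mul, one_mul, coeff_smul, smul_eq_mul] at h
      exact h.symm
    · intro x hx hxe
      rw [coeff_monomial_mul', one_mul]
      split_ifs with hle
      · rw [coeff_smul, m.coeff_eq_zero_of_lt (f := f), smul_zero]
        have h1 : m.toSyn x < m.toSyn e :=
          lt_of_le_of_ne (hmax x hx) fun h ↦ hxe (m.toSyn.injective h)
        have h2 : m.toSyn x + m.toSyn (e + m.degree f - x) = m.toSyn e + m.toSyn (m.degree f) := by
          rw [← map_add, ← map_add, add_tsub_cancel_of_le hle]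
        by_contra h3
        rw [not_lt] at h3
        exact (add_lt_add_of_lt_of_le h1 h3).ne h2
      · rfl
    · intro h; exact absurd he h
  have hef : coeff e (S i) • f ≠ 0 := (Finset.mem_filter.1 he).2
  refine hef (hmin _ (fun l ↦ by rw [smul_mul_assoc, hf l, smul_zero]) (lt_of_le_of_ne m.degree_smul_le fun h ↦ ?_))
  have := m.coeff_degree_ne_zero_iff.2 hef
  rw [m.toSyn.injective h, coeff_smul, smul_eq_mul] at this
  exact this hc

theorem eq_zero_of_mul_eq_zero (m : MonomialOrder σ) (S : ι → MvPolynomial σ R)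
    (hS : ∀ p : Ideal R, p.IsMaximal → ∃ i, ∃ x : σ → R, eval x (S i) ∉ p)
    (f : MvPolynomial σ R) (hf : ∀ i, f * S i = 0) : f = 0 := by
  classical
  by_contra hne
  let Ann := {g : MvPolynomial σ R | g ≠ 0 ∧ ∀ i, g * S i = 0}
  obtain ⟨g, ⟨hg0, hg⟩, hmin⟩ :=
    (InvImage.wf (fun g : MvPolynomial σ R ↦ m.toSyn (m.degree g)) wellFounded_lt).has_min Ann ⟨f, hne, hf⟩
  have hker : ∀ i d, coeff d (S i) • g = 0 := smul_eq_zero_of_annihilates m S g hg fun f' hf' hlt ↦ by
    by_contra h0
    exact hmin f' ⟨h0, hf'⟩ hlt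
  let I : Ideal R := Ideal.span (Set.range fun t : ι × (σ →₀ ℕ) ↦ coeff t.2 (S t.1))
  have htop : I = ⊤ := by
    by_contra h
    obtain ⟨p, hp, hle⟩ := Ideal.exists_le_maximal I h
    obtain ⟨i, x, hx⟩ := hS p hp
    refine hx ?_
    rw [eval_eq]
    exact Submodule.sum_mem _ fun d _ ↦ Ideal.mul_mem_right _ _ (hle (Ideal.subset_span ⟨(i, d), rfl⟩))
  have hI : I ≤ LinearMap.ker (LinearMap.toSpanSingleton R (MvPolynomial σ R) g) := Ideal.span_le.2 (by
    rintro _ ⟨t, rfl⟩; exact hker t.1 t.2)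
  have := hI (htop ▸ Submodule.mem_top : (1 : R) ∈ I)
  exact hg0 (by simpa using this)

theorem mem_nonZeroDivisors_of_eval (m : MonomialOrder σ) (g : MvPolynomial σ R)
    (hg : ∀ p : Ideal R, p.IsMaximal → ∃ x : σ → R, eval x g ∉ p) : g ∈ nonZeroDivisors (MvPolynomial σ R) :=
  mem_nonZeroDivisors_iff_right.2 fun f hf ↦
    eq_zero_of_mul_eq_zero m (fun _ : Unit ↦ g) (fun p hp ↦ ⟨(), hg p hp⟩) f fun _ ↦ hf

end Groth.Agent.QuadH13
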