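import Groth.Agent.Lib.QuadH13.BaseCh
import Groth.Agent.Lib.QuadH13.McCoy
import Mathlib.RingTheory.Localization.Away.Basic
import Mathlib.Data.Finsupp.MonomialOrder

/-!
Centralisers of the products of two reflections; the Dickson condition for such products.
-/

universe u v

open QuadraticMap TensorProduct

namespace Groth.Agent.QuadH13

section Core

variable {A : Type u} [CommRing A] {V : Type v} [AddCommGroup V] [Module A V] (Q : QuadraticForm A V)

theorem smul_eq_of_commute (g : V →ₗ[A] V) (v w : V) (c d : Aˣ) (hc : Q v = c) (hd : Q w = d)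
    (hcomm : ∀ y, g (refl' Q v c hc (refl' Q w d hd y)) = refl' Q v c hc (refl' Q w d hd (g y))) (z : V)
    (hz : polar Q w z = 0) :
    ∃ α β : A, polar Q v z • g v = α • v + β • w := by
  have h := hcomm z
  rw [refl'_apply Q w d hd z, hz, mul_zero, zero_smul, sub_zero, refl'_apply Q v c hc z, map_sub, map_smul,
    refl'_apply Q v c hc, refl'_apply Q w d hd, sub_sub, sub_right_inj] at h
  refine ⟨(c : A) * ((↑c⁻¹ : A) * polar Q v (g z - ((↑d⁻¹ : A) * polar Q w (g z)) • w)),
    (c : A) * ((↑d⁻¹ : A) * polar Q w (g z)), ?_⟩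
  have h2 := congrArg (fun y ↦ (c : A) • y) h
  simp only [smul_add, smul_smul, ← mul_assoc (c : A) (↑c⁻¹ : A), Units.mul_inv, one_mul] at h2 ⊢
  rw [h2, add_comm]

theorem det3_eq_zero {n : ℕ} (b : Module.Basis (Fin n) A V) (S α β : A) (f v w : V)
    (h : S • f = α • v + β • w) (i j k : Fin n) :
    S * (b.repr f i * (b.repr v j * b.repr w k - b.repr v k * b.repr w j) -
      b.repr f j * (b.repr v i * b.repr w k - b.repr v k * b.repr w i) +
      b.repr f k * (b.repr v i * b.repr w j - b.repr v j * b.repr w i)) = 0 := by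
  have hl : ∀ l, S * b.repr f l = α * b.repr v l + β * b.repr w l := fun l ↦ by
    simpa using congrArg (fun y ↦ b.repr y l) h
  linear_combination (b.repr v j * b.repr w k - b.repr v k * b.repr w j) * hl i -
    (b.repr v i * b.repr w k - b.repr v k * b.repr w i) * hl j +
    (b.repr v i * b.repr w j - b.repr v j * b.repr w i) * hl k

theorem map_refl'_mul (v w : V) (c d : Aˣ) (hc : Q v = c) (hd : Q w = d)
    (h : refl' Q v c hc * refl' Q w d hd ∈ QuadGrp.O Q) :
    QuadGrp.IsDicksonTrivial Q (refl' Q v c hc * refl' Q w d hd) h := by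
  intro z hz
  have hrefl : ∀ (v : V) (c : Aˣ) (hc : Q v = c) (y : V),
      CliffordAlgebra.ι Q (refl' Q v c hc y) * CliffordAlgebra.ι Q v =
        -(CliffordAlgebra.ι Q v * CliffordAlgebra.ι Q y) := by
    intro v c hc y
    rw [refl'_apply, map_sub, map_smul, sub_mul, smul_mul_assoc, CliffordAlgebra.ι_sq_scalar, hc,
      CliffordAlgebra.ι_mul_ι_comm y v, polar_comm (⇑Q) y v]
    simp only [Algebra.algebraMap_eq_smul_one, smul_smul]
    rw [show (↑c⁻¹ : A) * polar Q v y * c = polar Q v y by linear_combination polar Q v y * c.inv_mul]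
    abel
  have hconj : ∀ x : CliffordAlgebra Q, CliffordAlgebra.map (QuadGrp.isometryOfMem Q _ h) x *
      (CliffordAlgebra.ι Q v * CliffordAlgebra.ι Q w) = (CliffordAlgebra.ι Q v * CliffordAlgebra.ι Q w) * x := by
    intro x
    induction x using CliffordAlgebra.induction with
    | algebraMap r => rw [AlgHom.commutes, Algebra.commutes]
    | ι y =>
      rw [CliffordAlgebra.map_apply_ι, QuadGrp.isometryOfMem_apply]
      change CliffordAlgebra.ι Q (refl' Q v c hc (refl' Q w d hd y)) * _ = _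
      rw [← mul_assoc, hrefl v c hc, neg_mul, mul_assoc, hrefl w d hd, mul_neg, neg_neg, ← mul_assoc]
    | mul a b ha hb => rw [map_mul, mul_assoc, hb, ← mul_assoc, ha, mul_assoc]
    | add a b ha hb => rw [map_add, add_mul, ha, hb, mul_add]
  have hu : (CliffordAlgebra.ι Q v * CliffordAlgebra.ι Q w) ∈ CliffordAlgebra.even Q :=
    CliffordAlgebra.ι_mul_ι_mem_evenOdd_zero Q v w
  have hcomm : (CliffordAlgebra.ι Q v * CliffordAlgebra.ι Q w) * (z : CliffordAlgebra Q) =
      (z : CliffordAlgebra Q) * (CliffordAlgebra.ι Q v * CliffordAlgebra.ι Q w) :=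
    congrArg Subtype.val (Subalgebra.mem_center_iff.1 hz ⟨_, hu⟩)
  have hunit : IsUnit (CliffordAlgebra.ι Q v * CliffordAlgebra.ι Q w) := by
    have : ∀ (v : V) (c : Aˣ), Q v = c → IsUnit (CliffordAlgebra.ι Q v) := fun v c hc ↦
      ⟨⟨CliffordAlgebra.ι Q v, (↑c⁻¹ : A) • CliffordAlgebra.ι Q v,
        (by rw [mul_smul_comm, CliffordAlgebra.ι_sq_scalar, hc, Algebra.smul_def, ← map_mul, c.inv_mul, map_one]),
        (by rw [smul_mul_assoc, CliffordAlgebra.ι_sq_scalar, hc, Algebra.smul_def, ← map_mul, c.inv_mul, map_one])⟩, rfl⟩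
    exact (this v c hc).mul (this w d hd)
  exact hunit.mul_right_cancel ((hconj z).trans hcomm)

end Core

section Generic

variable {R : Type u} [CommRing R] {n : ℕ} {M : Type u} [AddCommGroup M] [Module R M] [Module.Free R M]

theorem eq_smul_of_commute (b : Module.Basis (Fin n) R M) (Q : QuadraticForm R M) (hn : 3 ≤ n)
    (hm : ∀ p : Ideal R, p.IsMaximal → ∃ a c i j, polar Q (b a) (b j) * polar Q (b c) (b i) -
      polar Q (b c) (b j) * polar Q (b a) (b i) ∉ p)
    (g : M ≃ₗ[R] M) (hg : g ∈ QuadGrp.O Q)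
    (hcomm : ∀ (A : Type u) [CommRing A] [Algebra R A] (v w : A ⊗[R] M) (c d : Aˣ)
      (hc : QuadGrp.baseChangeForm A Q v = c) (hd : QuadGrp.baseChangeForm A Q w = d) (y : A ⊗[R] M),
      g.baseChange R A M M (refl' _ v c hc (refl' _ w d hd y)) =
        refl' _ v c hc (refl' _ w d hd (g.baseChange R A M M y))) :
    ∃ c : R, c * c = 1 ∧ ∀ v, g v = c • v := by
  classical
  let G := LinearMap.toMatrix b b g.toLinearMap
  let X : Fin n → MvPolynomial (Fin (n + n)) R := fun i ↦ MvPolynomial.X (Fin.castAdd n i)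
  let Y : Fin n → MvPolynomial (Fin (n + n)) R := fun i ↦ MvPolynomial.X (Fin.natAdd n i)
  let qX := triSum (MvPolynomial.C ∘ QuadGrp.coeffs b (LinearEquiv.refl R R) Q) X
  let qY := triSum (MvPolynomial.C ∘ QuadGrp.coeffs b (LinearEquiv.refl R R) Q) Y
  let L : (Fin n → MvPolynomial (Fin (n + n)) R) → Fin n → MvPolynomial (Fin (n + n)) R :=
    fun Z a ↦ ∑ k, Z k * MvPolynomial.C (polar Q (b a) (b k))
  let GX : Fin n → MvPolynomial (Fin (n + n)) R := fun i ↦ ∑ k, MvPolynomial.C (G i k) * X k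
  let Δ : Fin n × Fin n → MvPolynomial (Fin (n + n)) R := fun ac ↦ L Y ac.1 * L X ac.2 - L Y ac.2 * L X ac.1
  have hqe : ∀ (r s : Fin n → R), MvPolynomial.eval (Fin.append r s) qX = Q (∑ i, r i • b i) ∧
      MvPolynomial.eval (Fin.append r s) qY = Q (∑ i, s i • b i) := by
    intro r s
    constructor
    all_goals
      simp only [qX, qY, apply_eq_triSum, map_triSum]
      congr 1 <;> funext i <;> simp [X, Y, -Fin.natAdd_eq_addNat]
  have hq : ∀ p : Ideal R, p.IsMaximal → ∃ r : Fin n → R, Q (∑ i, r i • b i) ∉ p := by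
    intro p hp
    by_contra hcon
    push Not at hcon
    have hall : ∀ y, Q y ∈ p := fun y ↦ b.sum_repr y ▸ hcon _
    obtain ⟨a, c, i, j, h⟩ := hm p hp
    have hpol : ∀ y z, polar Q y z ∈ p := fun y z ↦ p.sub_mem (p.sub_mem (hall _) (hall _)) (hall _)
    exact h (p.sub_mem (p.mul_mem_left _ (hpol _ _)) (p.mul_mem_left _ (hpol _ _)))
  have hX : qX ∈ nonZeroDivisors _ := mem_nonZeroDivisors_of_eval MonomialOrder.lex qX fun p hp ↦ by
    obtain ⟨r, hr⟩ := hq p hp
    exact ⟨Fin.append r r, by rw [(hqe r r).1]; exact hr⟩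
  have hY : qY ∈ nonZeroDivisors _ := mem_nonZeroDivisors_of_eval MonomialOrder.lex qY fun p hp ↦ by
    obtain ⟨r, hr⟩ := hq p hp
    exact ⟨Fin.append r r, by rw [(hqe r r).2]; exact hr⟩
  let A := Localization.Away (qX * qY)
  let ι : MvPolynomial (Fin (n + n)) R →+* A := algebraMap _ _
  have hinj : Function.Injective ι := IsLocalization.injective A (M := Submonoid.powers (qX * qY))
    (Submonoid.powers_le.2 (mul_mem hX hY))
  have hunit : IsUnit (ι qX) ∧ IsUnit (ι qY) := by
    have h := IsLocalization.Away.algebraMap_isUnit (S := A) (qX * qY)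
    rw [map_mul] at h
    exact IsUnit.mul_iff.1 h
  let bA : Module.Basis (Fin n) A (A ⊗[R] M) := b.baseChange A
  let qA := QuadGrp.baseChangeForm A Q
  have halg : ∀ r, algebraMap R A r = ι (MvPolynomial.C r) := fun r ↦
    IsScalarTower.algebraMap_apply R (MvPolynomial (Fin (n + n)) R) A r
  let vec : (Fin n → MvPolynomial (Fin (n + n)) R) → A ⊗[R] M := fun Z ↦ ∑ i, ι (Z i) • bA i
  have hrepr : ∀ Z i, bA.repr (vec Z) i = ι (Z i) := fun Z i ↦ by
    simp [vec, Finsupp.single_apply]
  have hqA : ∀ Z, qA (vec Z) = ι (triSum (MvPolynomial.C ∘ QuadGrp.coeffs b (LinearEquiv.refl R R) Q) Z) := by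
    intro Z
    rw [apply_eq_triSum, coeffs_baseChange, map_triSum]
    congr 1
    first | done | (funext s; exact halg _)
  obtain ⟨cX, hcX⟩ := hunit.1
  obtain ⟨cY, hcY⟩ := hunit.2
  have hv : qA (vec X) = cX := (hqA X).trans hcX.symm
  have hw : qA (vec Y) = cY := (hqA Y).trans hcY.symm
  have hpol : ∀ Z a, polar qA (bA a) (vec Z) = ι (L Z a) := by
    intro Z a
    have h1 : ∀ k, polar qA (bA a) (bA k) = ι (MvPolynomial.C (polar Q (b a) (b k))) := fun k ↦ by
      simp only [bA, qA, polar, Module.Basis.baseChange_apply, ← TensorProduct.tmul_add, baseChangeForm_one_tmul,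
        ← map_sub, halg]
    rw [← polarBilin_apply_apply, map_sum]
    simp only [map_smul, polarBilin_apply_apply, smul_eq_mul, h1, L, map_sum, map_mul]
  have hgA : ∀ i, bA.repr (g.baseChange R A M M (vec X)) i = ι (GX i) := by
    intro i
    have : ∀ k, bA.repr (g.baseChange R A M M (bA k)) i = ι (MvPolynomial.C (G i k)) := fun k ↦ by
      simp [bA, G, LinearMap.toMatrix_apply, ← halg, Algebra.algebraMap_eq_smul_one]
    simp only [vec, map_sum, map_smul, Finsupp.coe_finsetSum, Finset.sum_apply, Finsupp.smul_apply, smul_eq_mul,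
      this, GX, map_mul]
    exact Finset.sum_congr rfl fun k _ ↦ mul_comm _ _
  have key : ∀ (i j k : Fin n), (GX i * (X j * Y k - X k * Y j) - GX j * (X i * Y k - X k * Y i) +
      GX k * (X i * Y j - X j * Y i)) = 0 := by
    intro i j k
    refine eq_zero_of_mul_eq_zero MonomialOrder.lex Δ (fun p hp ↦ ?_) _ fun ac ↦ hinj ?_
    · obtain ⟨a, c, i', j', h⟩ := hm p hp
      refine ⟨(a, c), Fin.append (Pi.single i' 1) (Pi.single j' 1), ?_⟩
      simpa [Δ, L, X, Y, Pi.single_apply, -Fin.natAdd_eq_addNat] using h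
    let z := ι (L Y ac.1) • bA ac.2 - ι (L Y ac.2) • bA ac.1
    have hz : polar qA (vec Y) z = 0 := by
      rw [polar_sub_right, polar_smul_right, polar_smul_right, polar_comm (⇑qA) (vec Y), hpol,
        polar_comm (⇑qA) (vec Y), hpol, smul_eq_mul, smul_eq_mul]
      exact sub_eq_zero.2 (mul_comm _ _)
    obtain ⟨α, β, h⟩ := smul_eq_of_commute qA (g.baseChange R A M M).toLinearMap (vec X) (vec Y) cX cY hv hw
      (fun y ↦ hcomm A (vec X) (vec Y) cX cY hv hw y) z hz
    have h3 := det3_eq_zero bA _ α β _ _ _ h i j k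
    rw [polar_sub_right, polar_smul_right, polar_smul_right, polar_comm (⇑qA) (vec X), hpol,
      polar_comm (⇑qA) (vec X), hpol, LinearEquiv.coe_coe, hgA, hgA, hgA, hrepr, hrepr, hrepr, hrepr, hrepr, hrepr,
      smul_eq_mul, smul_eq_mul] at h3
    simp only [Δ, map_mul, map_sub, map_add, map_zero]
    linear_combination h3
  have hpt : ∀ (r s : Fin n → R) (i j k : Fin n),
      (G.mulVec r i * (r j * s k - r k * s j) - G.mulVec r j * (r i * s k - r k * s i) +
        G.mulVec r k * (r i * s j - r j * s i)) = 0 := by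
    intro r s i j k
    simpa [GX, X, Y, -Fin.natAdd_eq_addNat, Matrix.mulVec, dotProduct] using congrArg (MvPolynomial.eval (Fin.append r s)) (key i j k)
  have hother : ∀ i l : Fin n, ∃ k, k ≠ i ∧ k ≠ l := by
    intro i l
    have : ((Finset.univ : Finset (Fin n)) \ {i, l}).Nonempty := by
      rw [← Finset.card_pos]
      have h1 := Finset.le_card_sdiff {i, l} (Finset.univ : Finset (Fin n))
      have h2 : ({i, l} : Finset (Fin n)).card ≤ 2 := Finset.card_le_two
      rw [Finset.card_univ, Fintype.card_fin] at h1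
      omega
    obtain ⟨k, hk⟩ := this
    exact ⟨k, by simpa using hk⟩
  have hoff : ∀ i l, i ≠ l → G i l = 0 := by
    intro i l hil
    obtain ⟨k, hki, hkl⟩ := hother i l
    simpa [Matrix.mulVec_single_one, hil, hki, hkl, hil.symm, hki.symm, hkl.symm] using
      hpt (Pi.single l 1) (Pi.single k 1) i l k
  have hdiag : ∀ i l, G i i = G l l := by
    intro i l
    by_cases hil : i = l
    · rw [hil]
    obtain ⟨k, hki, hkl⟩ := hother i l
    have := hpt (Pi.single i 1 + Pi.single l 1) (Pi.single k 1) i l k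
    simp [Matrix.mulVec_add, Matrix.mulVec_single_one, hil, hki, hkl, Ne.symm hil, hki.symm, hkl.symm,
      hoff i l hil, hoff l i (Ne.symm hil), hoff k i hki, hoff k l hkl] at this
    linear_combination this
  haveI : Nonempty (Fin n) := ⟨⟨0, by omega⟩⟩
  obtain ⟨i₀⟩ := ‹Nonempty (Fin n)›
  have hgb : ∀ l, g (b l) = G i₀ i₀ • b l := by
    intro l
    have : g (b l) = ∑ k, G k l • b k := by
      simp only [G, LinearMap.toMatrix_apply]; exact (b.sum_repr _).symm
    rw [this, Finset.sum_eq_single l (fun k _ hk ↦ by rw [hoff k l hk, zero_smul]) (by simp), hdiag l i₀]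
  have hgv : ∀ v, g v = G i₀ i₀ • v := fun v ↦ LinearMap.congr_fun
    (b.ext hgb : g.toLinearMap = G i₀ i₀ • LinearMap.id) v
  refine ⟨G i₀ i₀, ?_, hgv⟩
  by_contra hne
  let I : Ideal R := LinearMap.ker (LinearMap.toSpanSingleton R R (G i₀ i₀ * G i₀ i₀ - 1))
  have hI : I ≠ ⊤ := fun h ↦ hne (sub_eq_zero.1 (by
    have : (1 : R) ∈ I := h ▸ Submodule.mem_top
    simpa [I] using this))
  obtain ⟨p, hp, hle⟩ := Ideal.exists_le_maximal I hI
  obtain ⟨a, c, i, j, h⟩ := hm p hp
  have hpolI : ∀ y z, polar Q y z ∈ p := fun y z ↦ hle (by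
    have h1 : polar Q (g y) (g z) = polar Q y z := by
      simp only [polar, ← map_add g, (QuadGrp.mem_O Q g).1 hg]
    rw [hgv, hgv, polar_smul_left, polar_smul_right, smul_eq_mul, smul_eq_mul] at h1
    simp only [I, LinearMap.mem_ker, LinearMap.toSpanSingleton_apply, smul_eq_mul]
    linear_combination h1)
  exact h (p.sub_mem (p.mul_mem_left _ (hpolI _ _)) (p.mul_mem_left _ (hpolI _ _)))

end Generic

end Groth.Agent.QuadH13
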