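import Groth.Agent.Lib.QuadH13.CAR
import Groth.Prelude.Def_QuadGrp
import Mathlib.LinearAlgebra.CliffordAlgebra.Contraction
import Mathlib.LinearAlgebra.ExteriorAlgebra.Basis
import Mathlib.RingTheory.Finiteness.Nakayama
import Mathlib.Tactic.NoncommRing

/-!
Clifford algebras of forms on free modules: basis, contractions, the centre.
-/

universe u v

open QuadraticMap CliffordAlgebra

namespace Groth.Agent.QuadH13

variable {R : Type u} [CommRing R] {n : ℕ} {M : Type v} [AddCommGroup M] [Module R M]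
variable (b : Module.Basis (Fin n) R M) (Q : QuadraticForm R M)

theorem neg_toBilin_proof : (-(Q.toBilin b)).toQuadraticMap = (0 : QuadraticForm R M) - Q := by
  ext m
  simp [QuadraticMap.toQuadraticMap_toBilin]

/-- The linear equivalence with the exterior algebra given by the triangular lift. -/
noncomputable def toExt : CliffordAlgebra Q ≃ₗ[R] CliffordAlgebra (0 : QuadraticForm R M) :=
  changeFormEquiv (neg_toBilin_proof b Q)

theorem toExt_ι_mul (m : M) (x : CliffordAlgebra Q) :
    toExt b Q (ι Q m * x) = ι 0 m * toExt b Q x + contractLeft (Q.toBilin b m) (toExt b Q x) := by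
  change changeForm (neg_toBilin_proof b Q) (ι Q m * x) = _
  rw [changeForm_ι_mul, LinearMap.neg_apply, map_neg, LinearMap.neg_apply, sub_neg_eq_add]
  rfl

theorem toExt_contract (d : Module.Dual R M) (x : CliffordAlgebra Q) :
    toExt b Q (contractLeft d x) = contractLeft d (toExt b Q x) := changeForm_contractLeft (neg_toBilin_proof b Q) d x

/-- A basis of the Clifford algebra. -/
noncomputable def cliffBasis : Module.Basis (Finset (Fin n)) R (CliffordAlgebra Q) :=
  (b.ExteriorAlgebra : Module.Basis (Finset (Fin n)) R (CliffordAlgebra (0 : QuadraticForm R M))).map (toExt b Q).symm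

include b in
theorem free_clifford : Module.Free R (CliffordAlgebra Q) := Module.Free.of_basis (cliffBasis b Q)

include b in
theorem finite_clifford : Module.Finite R (CliffordAlgebra Q) := Module.Finite.of_basis (cliffBasis b Q)

include b in
theorem finrank_clifford [Nontrivial R] : Module.finrank R (CliffordAlgebra Q) = 2 ^ n := by
  rw [Module.finrank_eq_card_basis (cliffBasis b Q), Fintype.card_finset, Fintype.card_fin]

include b in
theorem algebraMap_inj : Function.Injective (algebraMap R (CliffordAlgebra Q)) := fun r s h ↦ by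
  have := congrArg (toExt b Q) h
  rw [show toExt b Q (algebraMap R _ r) = algebraMap R _ r from changeForm_algebraMap (neg_toBilin_proof b Q) r,
    show toExt b Q (algebraMap R _ s) = algebraMap R _ s from changeForm_algebraMap (neg_toBilin_proof b Q) s] at this
  exact (ExteriorAlgebra.algebraMap_leftInverse M).injective this

include b in
theorem ι_inj : Function.Injective (ι Q) := by
  refine (injective_iff_map_eq_zero (ι Q)).2 fun v hv ↦ b.repr.injective ?_
  rw [map_zero]
  ext i
  have := congrArg (contractLeft (Q := Q) (b.coord i)) hv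
  rw [contractLeft_ι, map_zero, ← map_zero (algebraMap R (CliffordAlgebra Q))] at this
  exact algebraMap_inj b Q this

theorem isCAR_contract :
    IsCAR (fun i ↦ contractLeft (Q := Q) (b.coord i)) (fun i ↦ LinearMap.mulLeft R (ι Q (b i))) where
  sq i x := contractLeft_contractLeft _ x
  anti i j x := by rw [contractLeft_comm, neg_add_cancel]
  homotopy i j x := by
    simp only [LinearMap.mulLeft_apply, contractLeft_ι_mul, sub_add_cancel, Module.Basis.coord_apply,
      Module.Basis.repr_self, Finsupp.single_apply]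
    by_cases h : i = j
    · subst h; simp
    · rw [if_neg h, if_neg (Ne.symm h), zero_smul]

variable {b Q}

theorem polar_contract (v : M) (x : CliffordAlgebra Q) :
    contractLeft (polarBilin Q v) x = ι Q v * x - involute x * ι Q v := by
  induction x using CliffordAlgebra.left_induction with
  | algebraMap r => rw [contractLeft_algebraMap, AlgHom.commutes, Algebra.commutes, sub_self]
  | add a c ha hc => rw [map_add, ha, hc, map_add, mul_add, add_mul]; abel
  | ι_mul x m hx =>
    rw [contractLeft_ι_mul, hx, map_mul, involute_ι, mul_sub, polarBilin_apply_apply, Algebra.smul_def,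
      ← ι_mul_ι_add_swap, add_mul]
    noncomm_ring

theorem contract_mem (d : Module.Dual R M) {i : ZMod 2} {x : CliffordAlgebra Q} (hx : x ∈ evenOdd Q i) :
    contractLeft d x ∈ evenOdd Q (i + 1) := by
  have step : ∀ (j : ZMod 2) (m₁ m₂ : M) (y : CliffordAlgebra Q), y ∈ evenOdd Q j →
      contractLeft d y ∈ evenOdd Q (j + 1) → contractLeft d (ι Q m₁ * ι Q m₂ * y) ∈ evenOdd Q (j + 1) := by
    intro j m₁ m₂ y hy hdy
    rw [mul_assoc, contractLeft_ι_mul, contractLeft_ι_mul, mul_sub, mul_smul_comm, ← mul_assoc (ι Q m₁)]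
    refine sub_mem (Submodule.smul_mem _ _ ?_) (sub_mem (Submodule.smul_mem _ _ ?_) ?_)
    · rw [add_comm j]; exact SetLike.mul_mem_graded (ι_mem_evenOdd_one Q m₂) hy
    · rw [add_comm j]; exact SetLike.mul_mem_graded (ι_mem_evenOdd_one Q m₁) hy
    · simpa using SetLike.mul_mem_graded (ι_mul_ι_mem_evenOdd_zero Q m₁ m₂) hdy
  rcases (show ∀ i : ZMod 2, i = 0 ∨ i = 1 by decide) i with rfl | rfl
  · induction x, hx using CliffordAlgebra.even_induction with
    | algebraMap r => rw [contractLeft_algebraMap]; exact zero_mem _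
    | add a c _ _ ha hc => rw [map_add]; exact add_mem ha hc
    | ι_mul_ι_mul m₁ m₂ y hy ih => exact step 0 m₁ m₂ y hy ih
  · induction x, hx using CliffordAlgebra.odd_induction with
    | ι v => rw [contractLeft_ι, show (1 : ZMod 2) + 1 = 0 from rfl]; exact SetLike.algebraMap_mem_graded _ _
    | add a c _ _ ha hc => rw [map_add]; exact add_mem ha hc
    | ι_mul_ι_mul m₁ m₂ y hy ih => exact step 1 m₁ m₂ y hy ih

theorem ι_mul_mem (v : M) {i : ZMod 2} {x : CliffordAlgebra Q} (hx : x ∈ evenOdd Q i) :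
    ι Q v * x ∈ evenOdd Q (i + 1) := by
  rw [add_comm]; exact SetLike.mul_mem_graded (ι_mem_evenOdd_one Q v) hx

theorem contract_mem₀ (d : Module.Dual R M) {x : CliffordAlgebra Q} (hx : x ∈ evenOdd Q 0) :
    contractLeft d x ∈ evenOdd Q 1 := (zero_add (1 : ZMod 2)) ▸ contract_mem d hx

theorem contract_mem₁ (d : Module.Dual R M) {x : CliffordAlgebra Q} (hx : x ∈ evenOdd Q 1) :
    contractLeft d x ∈ evenOdd Q 0 := (show (1 : ZMod 2) + 1 = 0 from rfl) ▸ contract_mem d hx

theorem ι_mul_mem₀ (v : M) {x : CliffordAlgebra Q} (hx : x ∈ evenOdd Q 0) :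
    ι Q v * x ∈ evenOdd Q 1 := (zero_add (1 : ZMod 2)) ▸ ι_mul_mem v hx

theorem ι_mul_mem₁ (v : M) {x : CliffordAlgebra Q} (hx : x ∈ evenOdd Q 1) :
    ι Q v * x ∈ evenOdd Q 0 := (show (1 : ZMod 2) + 1 = 0 from rfl) ▸ ι_mul_mem v hx

theorem mul_ι_mem₁ (v : M) {x : CliffordAlgebra Q} (hx : x ∈ evenOdd Q 1) :
    x * ι Q v ∈ evenOdd Q 0 :=
  (show (1 : ZMod 2) + 1 = 0 from rfl) ▸ SetLike.mul_mem_graded hx (ι_mem_evenOdd_one Q v)

theorem changeForm_mem {Q' : QuadraticForm R M} {B : LinearMap.BilinForm R M} (h : B.toQuadraticMap = Q' - Q)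
    {i : ZMod 2} {x : CliffordAlgebra Q} (hx : x ∈ evenOdd Q i) : changeForm h x ∈ evenOdd Q' i := by
  have step : ∀ (j : ZMod 2) (m : M) (y : CliffordAlgebra Q), changeForm h y ∈ evenOdd Q' j →
      changeForm h (ι Q m * y) ∈ evenOdd Q' (j + 1) := fun j m y hy ↦ by
    rw [changeForm_ι_mul]; exact sub_mem (ι_mul_mem m hy) (contract_mem _ hy)
  have step2 : ∀ (j : ZMod 2) (m₁ m₂ : M) (y : CliffordAlgebra Q), changeForm h y ∈ evenOdd Q' j →
      changeForm h (ι Q m₁ * ι Q m₂ * y) ∈ evenOdd Q' j := fun j m₁ m₂ y hy ↦ by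
    rw [mul_assoc]
    have := step _ m₁ _ (step _ m₂ y hy)
    rwa [add_assoc, show (1 : ZMod 2) + 1 = 0 from rfl, add_zero] at this
  rcases (show ∀ i : ZMod 2, i = 0 ∨ i = 1 by decide) i with rfl | rfl
  · induction x, hx using CliffordAlgebra.even_induction with
    | algebraMap r => rw [changeForm_algebraMap]; exact SetLike.algebraMap_mem_graded _ _
    | add a c _ _ ha hc => rw [map_add]; exact add_mem ha hc
    | ι_mul_ι_mul m₁ m₂ y hy ih => exact step2 0 m₁ m₂ y ih
  · induction x, hx using CliffordAlgebra.odd_induction with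
    | ι v => rw [changeForm_ι]; exact ι_mem_evenOdd_one _ _
    | add a c _ _ ha hc => rw [map_add]; exact add_mem ha hc
    | ι_mul_ι_mul m₁ m₂ y hy ih => exact step2 1 m₁ m₂ y ih

theorem eq_zero_of_mem_both {x : CliffordAlgebra Q} (h₀ : x ∈ evenOdd Q 0) (h₁ : x ∈ evenOdd Q 1) : x = 0 :=
  Submodule.disjoint_def.1 (evenOdd_isCompl Q).disjoint x h₀ h₁

theorem exists_even_odd (x : CliffordAlgebra Q) :
    ∃ x₀ ∈ evenOdd Q 0, ∃ x₁ ∈ evenOdd Q 1, x₀ + x₁ = x := by
  have : x ∈ evenOdd Q 0 ⊔ evenOdd Q 1 := by rw [(evenOdd_isCompl Q).sup_eq_top]; exact Submodule.mem_top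
  exact Submodule.mem_sup.1 this

variable (b Q)

/-- The projection in the exterior algebra annihilates the left ideal of the vectors. -/
theorem jproj_ι_mul (k : ℕ) (j : Fin n) (x : CliffordAlgebra (0 : QuadraticForm R M)) :
    jproj (fun i ↦ contractLeft (Q := (0 : QuadraticForm R M)) (b.coord i))
        (fun i ↦ LinearMap.mulLeft R (ι 0 (b i))) k (ι 0 (b j) * x) =
      if (j : ℕ) < k then 0 else ι 0 (b j) * jproj (fun i ↦ contractLeft (Q := (0 : QuadraticForm R M)) (b.coord i))
        (fun i ↦ LinearMap.mulLeft R (ι 0 (b i))) k x := by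
  induction k with
  | zero => rfl
  | succ k ih =>
    simp only [jproj]
    by_cases hk : k < n
    · simp only [dif_pos hk, LinearMap.comp_apply, LinearMap.mulLeft_apply, ih]
      by_cases hjk : (j : ℕ) < k
      · rw [if_pos hjk, if_pos (Nat.lt_succ_of_lt hjk), mul_zero, map_zero]
      rw [if_neg hjk]
      by_cases hjk2 : (j : ℕ) = k
      · rw [if_pos (by omega), show (⟨k, hk⟩ : Fin n) = j from Fin.ext hjk2.symm, ← mul_assoc, ι_sq_scalar]
        simp
      · have hne : (⟨k, hk⟩ : Fin n) ≠ j := fun h ↦ hjk2 (congrArg Fin.val h).symm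
        have hswap : ι (0 : QuadraticForm R M) (b ⟨k, hk⟩) * ι 0 (b j) = -(ι 0 (b j) * ι 0 (b ⟨k, hk⟩)) :=
          eq_neg_of_add_eq_zero_left (by rw [ι_mul_ι_add_swap]; simp [polar])
        rw [if_neg (by omega), ← mul_assoc, hswap, neg_mul, mul_assoc, map_neg, contractLeft_ι_mul,
          Module.Basis.coord_apply, Module.Basis.repr_self, Finsupp.single_eq_of_ne hne, zero_smul, zero_sub, neg_neg]
    · simp only [dif_neg hk, ih]
      have hjk : (j : ℕ) < k := by have := j.isLt; omega
      rw [if_pos hjk, if_pos (Nat.lt_succ_of_lt hjk)]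

include b in
theorem jproj_mem_range (x : CliffordAlgebra (0 : QuadraticForm R M)) :
    jproj (fun i ↦ contractLeft (Q := (0 : QuadraticForm R M)) (b.coord i))
        (fun i ↦ LinearMap.mulLeft R (ι 0 (b i))) n x ∈ (algebraMap R (CliffordAlgebra (0 : QuadraticForm R M))).range := by
  induction x using CliffordAlgebra.left_induction with
  | algebraMap r =>
    rw [(isCAR_contract b 0).jproj_eq_self n fun i ↦ contractLeft_algebraMap _ _ r]
    exact ⟨r, rfl⟩
  | add a c ha hc => rw [map_add]; exact add_mem ha hc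
  | ι_mul x m hx =>
    rw [← b.sum_repr m, map_sum, Finset.sum_mul, map_sum]
    refine sum_mem fun j _ ↦ ?_
    rw [map_smul, smul_mul_assoc, map_smul, jproj_ι_mul b n j x, if_pos j.isLt, smul_zero]
    exact zero_mem _

include b in
theorem eq_algebraMap_of_contract {x : CliffordAlgebra Q} (h : ∀ i, contractLeft (b.coord i) x = 0) :
    ∃ r, algebraMap R (CliffordAlgebra Q) r = x := by
  obtain ⟨r, hr⟩ := jproj_mem_range b (toExt b Q x)
  refine ⟨r, (toExt b Q).injective ?_⟩
  rw [(isCAR_contract b 0).jproj_eq_self n fun i ↦ by rw [← toExt_contract, h, map_zero]] at hr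
  rw [← hr]
  exact changeForm_algebraMap (neg_toBilin_proof b Q) r

/-- Left multiplication by the first `k` basis vectors. -/
noncomputable def lProd : ℕ → CliffordAlgebra Q →ₗ[R] CliffordAlgebra Q
  | 0 => LinearMap.id
  | k + 1 => if h : k < n then LinearMap.mulLeft R (ι Q (b ⟨k, h⟩)) ∘ₗ lProd k else lProd k

theorem lProd_sq (k : ℕ) (j : Fin n) (z : CliffordAlgebra (0 : QuadraticForm R M)) :
    ι 0 (b j) * lProd b 0 k (ι 0 (b j) * z) = 0 := by
  induction k with
  | zero => simp only [lProd, LinearMap.id_apply]; rw [← mul_assoc, ι_sq_scalar]; simp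
  | succ k ih =>
    simp only [lProd]
    split_ifs with hk
    · simp only [LinearMap.comp_apply, LinearMap.mulLeft_apply]
      rw [← mul_assoc, eq_neg_of_add_eq_zero_left (a := ι (0 : QuadraticForm R M) (b j) * ι 0 (b ⟨k, hk⟩))
        (by rw [ι_mul_ι_add_swap]; simp [polar]), neg_mul, mul_assoc, ih, mul_zero, neg_zero]
    · exact ih

theorem lProd_ι_mul (k : ℕ) (j : Fin n) (hj : (j : ℕ) < k) (z : CliffordAlgebra (0 : QuadraticForm R M)) :
    lProd b 0 k (ι 0 (b j) * z) = 0 := by
  induction k with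
  | zero => exact absurd hj (Nat.not_lt_zero _)
  | succ k ih =>
    simp only [lProd]
    split_ifs with hk
    · simp only [LinearMap.comp_apply, LinearMap.mulLeft_apply]
      by_cases hjk : (j : ℕ) < k
      · rw [ih hjk, mul_zero]
      · rw [show (⟨k, hk⟩ : Fin n) = j from Fin.ext (by simp; omega)]
        exact lProd_sq b k j z
    · exact ih (by have := j.isLt; omega)

include b in
theorem eq_zero_of_ι_mul_eq_zero (hn : Even n) {x : CliffordAlgebra (0 : QuadraticForm R M)}
    (hx : x ∈ evenOdd (0 : QuadraticForm R M) 1) (h : ∀ i, ι 0 (b i) * x = 0) : x = 0 := by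
  have hd : ∀ (m : ℕ) (j : Fin n), m ≤ j → ∀ (p : ZMod 2), ∀ y ∈ evenOdd (0 : QuadraticForm R M) p,
      ∃ y' ∈ evenOdd (0 : QuadraticForm R M) (p + 1), contractLeft (b.coord j) (lProd b 0 m y) = lProd b 0 m y' := by
    intro m
    induction m with
    | zero => exact fun j _ p y hy ↦ ⟨_, contract_mem _ hy, rfl⟩
    | succ m ih =>
      intro j hj p y hy
      obtain ⟨y', hy', he⟩ := ih j (by omega) p y hy
      have hm : m < n := by have := j.isLt; omega
      refine ⟨-y', neg_mem hy', ?_⟩
      simp only [lProd, dif_pos hm, LinearMap.comp_apply, LinearMap.mulLeft_apply, contractLeft_ι_mul, map_neg, mul_neg]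
      rw [Module.Basis.coord_apply, Module.Basis.repr_self,
        Finsupp.single_eq_of_ne (fun e ↦ by have := congrArg Fin.val e; simp at this; omega), zero_smul, zero_sub, he]
  have hk : ∀ k, k ≤ n → ∃ y ∈ evenOdd (0 : QuadraticForm R M) (1 + (k : ZMod 2)), x = lProd b 0 k y := by
    intro k
    induction k with
    | zero => exact fun _ ↦ ⟨x, by simpa using hx, rfl⟩
    | succ k ih =>
      intro hk
      obtain ⟨y, hy, he⟩ := ih (by omega)
      obtain ⟨y', hy', he'⟩ := hd k ⟨k, by omega⟩ le_rfl _ y hy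
      refine ⟨y', by simpa [add_assoc] using hy', ?_⟩
      have := (isCAR_contract b 0).homotopy_self ⟨k, by omega⟩ x
      simp only [LinearMap.mulLeft_apply, h, map_zero, zero_add] at this
      simp only [lProd, dif_pos (show k < n by omega), LinearMap.comp_apply, LinearMap.mulLeft_apply, ← he', ← he]
      exact this.symm
  obtain ⟨y, hy, rfl⟩ := hk n le_rfl
  obtain ⟨m, hm⟩ := hn
  rw [show (n : ZMod 2) = 0 from (ZMod.natCast_eq_zero_iff_even).2 ⟨m, hm⟩, add_zero] at hy
  let D := fun i ↦ contractLeft (Q := (0 : QuadraticForm R M)) (b.coord i)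
  let L := fun i ↦ LinearMap.mulLeft R (ι (0 : QuadraticForm R M) (b i))
  have hproj : ∀ k, lProd b 0 n (jproj D L k y) = lProd b 0 n y := by
    intro k
    induction k with
    | zero => rfl
    | succ k ih =>
      simp only [jproj]
      split_ifs with hk
      · have := (isCAR_contract b (0 : QuadraticForm R M)).homotopy_self ⟨k, hk⟩ (jproj D L k y)
        have h2 := congrArg (lProd b 0 n) this
        simp only [map_add, LinearMap.mulLeft_apply] at h2
        rw [lProd_ι_mul b n ⟨k, hk⟩ hk, add_zero] at h2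
        exact h2.trans ih
      · exact ih
  rw [← hproj n]
  obtain ⟨r, hr⟩ := jproj_mem_range b y
  have hodd : jproj D L n y ∈ evenOdd (0 : QuadraticForm R M) 1 :=
    jproj_mem_of_swap (evenOdd _ 1) (evenOdd _ 0) (fun i z hz ↦ contract_mem₁ _ hz)
      (fun i z hz ↦ contract_mem₀ _ hz) (fun i z hz ↦ ι_mul_mem₁ _ hz) n y hy
  rw [eq_zero_of_mem_both (hr ▸ SetLike.algebraMap_mem_graded _ _) hodd, map_zero]

variable {b Q}

theorem contract_eq_of_regular (hQ : QuadGrp.IsRegular Q) (d : Module.Dual R M) :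
    ∃ w, polarBilin Q w = d := hQ.2 d

theorem jproj_sub_mem {C : Type*} [AddCommGroup C] [Module R C] {D L : Fin n → C →ₗ[R] C} (hC : IsCAR D L)
    (S : Submodule R C) (hDS : ∀ i, ∀ y ∈ S, D i y ∈ S) (hLS : ∀ i, ∀ y ∈ S, L i y ∈ S) {z : C}
    (hz : ∀ i, D i z ∈ S) (k : ℕ) : jproj D L k z - z ∈ S := by
  induction k with
  | zero => simp [jproj]
  | succ k ih =>
    simp only [jproj]
    split_ifs with hk
    · have hDy : D ⟨k, hk⟩ (jproj D L k z) ∈ S := by
        rw [show jproj D L k z = (jproj D L k z - z) + z by abel, map_add]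
        exact add_mem (hDS _ _ ih) (hz _)
      rw [LinearMap.comp_apply, LinearMap.comp_apply,
        eq_sub_of_add_eq (hC.homotopy_self ⟨k, hk⟩ (jproj D L k z)), sub_sub, add_comm, ← sub_sub]
      exact sub_mem ih (hLS _ _ hDy)
    · exact ih

theorem map_mem_smul_top {C : Type*} [AddCommGroup C] [Module R C] (I : Ideal R) (f : C →ₗ[R] C) {x : C}
    (hx : x ∈ I • (⊤ : Submodule R C)) : f x ∈ I • (⊤ : Submodule R C) :=
  Submodule.smul_induction_on hx (fun r hr m _ ↦ by rw [map_smul]; exact Submodule.smul_mem_smul hr Submodule.mem_top)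
    (fun x y hx hy ↦ by rw [map_add]; exact add_mem hx hy)

/-- In even rank a regular form has no odd central elements. -/
theorem eq_zero_of_central_odd (b : Module.Basis (Fin n) R M) (hn : Even n) (hQ : QuadGrp.IsRegular Q)
    {z : CliffordAlgebra Q} (hz₁ : z ∈ evenOdd Q 1) (hc : ∀ v, ι Q v * z = z * ι Q v) : z = 0 := by
  have hd : ∀ v, contractLeft (polarBilin Q v) z = (2 : R) • (ι Q v * z) := fun v ↦ by
    rw [polar_contract, involute_eq_of_mem_odd hz₁, neg_mul, sub_neg_eq_add, ← hc, two_smul]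
  let J : Ideal R := Ideal.span (Set.range fun s ↦ (cliffBasis b Q).repr z s)
  let S : Submodule R (CliffordAlgebra Q) := (Ideal.span {(2 : R)} * J) • ⊤
  have hzJ : z ∈ J • (⊤ : Submodule R (CliffordAlgebra Q)) := by
    rw [← (cliffBasis b Q).sum_repr z]
    exact sum_mem fun s _ ↦ Submodule.smul_mem_smul (Ideal.subset_span (Set.mem_range_self s)) Submodule.mem_top
  have hDz : ∀ i, contractLeft (b.coord i) z ∈ S := fun i ↦ by
    obtain ⟨w, hw⟩ := contract_eq_of_regular hQ (b.coord i)
    rw [← hw, hd]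
    change _ ∈ (Ideal.span {(2 : R)} * J) • _
    rw [← Ideal.smul_eq_mul, Submodule.smul_assoc]
    exact Submodule.smul_mem_smul (Ideal.mem_span_singleton_self 2) (map_mem_smul_top J (LinearMap.mulLeft R (ι Q w)) hzJ)
  have hcar := isCAR_contract b Q
  obtain ⟨r, hr⟩ := eq_algebraMap_of_contract b Q fun i ↦ hcar.D_jproj z i
  have hodd := jproj_mem_of_swap (D := fun i ↦ contractLeft (Q := Q) (b.coord i))
    (L := fun i ↦ LinearMap.mulLeft R (ι Q (b i))) (evenOdd Q 1) (evenOdd Q 0)
    (fun i y hy ↦ contract_mem₁ _ hy) (fun i y hy ↦ contract_mem₀ _ hy) (fun i y hy ↦ ι_mul_mem₁ _ hy) n z hz₁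
  have h0 := eq_zero_of_mem_both (hr ▸ SetLike.algebraMap_mem_graded _ r) hodd
  have hzS : z ∈ S := by
    have := jproj_sub_mem hcar S (fun i y hy ↦ map_mem_smul_top _ _ hy) (fun i y hy ↦ map_mem_smul_top _ _ hy) hDz n
    rw [h0, zero_sub] at this
    simpa using neg_mem this
  have hJle : J ≤ Ideal.span {(2 : R)} • J := Ideal.span_le.2 (by
    rintro _ ⟨s, rfl⟩
    change (cliffBasis b Q).coord s z ∈ _
    refine Submodule.smul_induction_on hzS (fun r hr m _ ↦ ?_) fun x y hx hy ↦ by rw [map_add]; exact add_mem hx hy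
    rw [map_smul, smul_eq_mul]
    exact Ideal.mul_mem_right _ _ hr)
  obtain ⟨r2, hr2, hfix⟩ := Submodule.exists_mem_and_smul_eq_self_of_fg_of_le_smul (Ideal.span {(2 : R)}) J
    (Submodule.fg_span (Set.finite_range _)) hJle
  obtain ⟨a, rfl⟩ := Ideal.mem_span_singleton.1 hr2
  have hza : ((2 : R) * a) • z = z := (cliffBasis b Q).repr.injective (by
    ext s
    rw [map_smul, Finsupp.smul_apply]
    exact hfix _ (Ideal.subset_span (Set.mem_range_self s)))
  -- pass to the exterior algebra and remove the alternating part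
  let γ : LinearMap.BilinForm R M := polarBilin Q - (2 : R) • Q.toBilin b
  have hγ : ((-a) • γ).toQuadraticMap = (0 : QuadraticForm R M) - 0 := by
    ext m
    have hT : Q.toBilin b m m = Q m := by
      conv_rhs => rw [← QuadraticMap.toQuadraticMap_toBilin Q b]
      rfl
    simp [γ, polar_self, hT]
  let Y := changeForm hγ (toExt b Q z)
  have hY1 : Y ∈ evenOdd (0 : QuadraticForm R M) 1 := changeForm_mem _ (changeForm_mem (neg_toBilin_proof b Q) hz₁)
  have hY2 : ∀ v, (2 : R) • (ι 0 v * Y) = 0 := by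
    intro v
    have h1 := congrArg (toExt b Q) (hd v)
    rw [toExt_contract, map_smul, toExt_ι_mul, smul_add] at h1
    have h2 : (2 : R) • (ι (0 : QuadraticForm R M) v * toExt b Q z) = contractLeft (γ v) (toExt b Q z) := by
      rw [LinearMap.sub_apply, map_sub, LinearMap.sub_apply, LinearMap.smul_apply, map_smul, LinearMap.smul_apply, h1]
      abel
    have h3 := congrArg (changeForm hγ) h2
    rw [map_smul, changeForm_ι_mul, changeForm_contractLeft, LinearMap.smul_apply, map_smul, LinearMap.smul_apply,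
      smul_sub, smul_smul, sub_eq_iff_eq_add, show (2 : R) * -a = -(2 * a) by ring, neg_smul] at h3
    have h4 : ((2 : R) * a) • contractLeft (γ v) Y = contractLeft (γ v) Y := by
      rw [← map_smul, ← map_smul, ← map_smul, hza]
    change (2 : R) • (ι 0 v * Y) = _ at h3
    rw [h3, h4, add_neg_cancel]
  have hY3 : ∀ i, ι 0 (b i) * Y = 0 := fun i ↦ by
    calc ι 0 (b i) * Y = ((2 : R) * a) • (ι 0 (b i) * Y) := by
          rw [← mul_smul_comm, ← map_smul, ← map_smul, hza]
      _ = a • ((2 : R) • (ι 0 (b i) * Y)) := by rw [smul_smul, mul_comm]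
      _ = 0 := by rw [hY2, smul_zero]
  have hY0 : Y = 0 := eq_zero_of_ι_mul_eq_zero b hn hY1 hY3
  exact (toExt b Q).injective (((changeFormEquiv hγ).injective (hY0.trans (map_zero _).symm)).trans (map_zero _).symm)

/-- In even rank the centre of the Clifford algebra of a regular form consists of the scalars. -/
theorem exists_scalar_of_central (b : Module.Basis (Fin n) R M) (hn : Even n) (hQ : QuadGrp.IsRegular Q)
    {z : CliffordAlgebra Q} (hc : ∀ v, ι Q v * z = z * ι Q v) : ∃ r, algebraMap R (CliffordAlgebra Q) r = z := by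
  obtain ⟨z₀, h₀, z₁, h₁, rfl⟩ := exists_even_odd z
  have hsep : ∀ v, ι Q v * z₀ = z₀ * ι Q v ∧ ι Q v * z₁ = z₁ * ι Q v := by
    intro v
    have h := hc v
    rw [mul_add, add_mul] at h
    have e : ι Q v * z₀ - z₀ * ι Q v = -(ι Q v * z₁ - z₁ * ι Q v) := by
      rw [← sub_eq_zero] at h; rw [eq_neg_iff_add_eq_zero, ← h]; abel
    have hA : ι Q v * z₀ - z₀ * ι Q v ∈ evenOdd Q 1 := sub_mem (ι_mul_mem₀ v h₀)
      (by simpa using SetLike.mul_mem_graded h₀ (ι_mem_evenOdd_one Q v))
    have hB : ι Q v * z₀ - z₀ * ι Q v ∈ evenOdd Q 0 := by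
      rw [e]
      exact neg_mem (sub_mem (ι_mul_mem₁ v h₁) (mul_ι_mem₁ v h₁))
    have := eq_zero_of_mem_both hB hA
    exact ⟨sub_eq_zero.1 this, sub_eq_zero.1 (neg_eq_zero.1 (e.symm.trans this))⟩
  obtain ⟨r, hr⟩ := eq_algebraMap_of_contract b Q (x := z₀) fun i ↦ by
    obtain ⟨w, hw⟩ := contract_eq_of_regular hQ (b.coord i)
    rw [← hw, polar_contract, involute_eq_of_mem_even h₀, (hsep w).1, sub_self]
  exact ⟨r, by rw [hr, eq_zero_of_central_odd b hn hQ h₁ (fun v ↦ (hsep v).2), add_zero]⟩

end Groth.Agent.QuadH13
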