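import Groth.Agent.Lib.QuadH13.Inner

/-!
The change of base of Clifford algebras, up to denominators.
-/

universe u v w z

open QuadraticMap CliffordAlgebra

namespace Groth.Agent.QuadH13

variable {R : Type u} [CommRing R] {n : ℕ} {M : Type v} [AddCommGroup M] [Module R M] (Q : QuadraticForm R M)
variable {A : Type w} [CommRing A] [Algebra R A] {V : Type z} [AddCommGroup V] [Module A V] [Module R V]
  [IsScalarTower R A V] (Q' : QuadraticForm A V) (f : M →ₗ[R] V) (hf : ∀ m, Q' (f m) = algebraMap R A (Q m))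

/-- The map of Clifford algebras over a change of base. -/
noncomputable def cliffMap : CliffordAlgebra Q →ₐ[R] CliffordAlgebra Q' :=
  CliffordAlgebra.lift Q ⟨((ι Q').restrictScalars R).comp f, fun m ↦ by
    rw [LinearMap.comp_apply, LinearMap.restrictScalars_apply, ι_sq_scalar, hf, ← IsScalarTower.algebraMap_apply]⟩

@[simp]
theorem cliffMap_ι (m : M) : cliffMap Q Q' f hf (ι Q m) = ι Q' (f m) := by
  simp [cliffMap]

theorem cliffMap_mem {p : ZMod 2} {x : CliffordAlgebra Q} (hx : x ∈ evenOdd Q p) :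
    cliffMap Q Q' f hf x ∈ evenOdd Q' p := by
  rcases (show ∀ i : ZMod 2, i = 0 ∨ i = 1 by decide) p with rfl | rfl
  · induction x, hx using CliffordAlgebra.even_induction with
    | algebraMap r =>
      rw [AlgHom.commutes, IsScalarTower.algebraMap_apply R A]
      exact SetLike.algebraMap_mem_graded _ _
    | add a c _ _ ha hc => rw [map_add]; exact add_mem ha hc
    | ι_mul_ι_mul m₁ m₂ y hy ih =>
      rw [map_mul, map_mul, cliffMap_ι, cliffMap_ι]
      simpa using SetLike.mul_mem_graded (ι_mul_ι_mem_evenOdd_zero Q' (f m₁) (f m₂)) ih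
  · induction x, hx using CliffordAlgebra.odd_induction with
    | ι v => rw [cliffMap_ι]; exact ι_mem_evenOdd_one _ _
    | add a c _ _ ha hc => rw [map_add]; exact add_mem ha hc
    | ι_mul_ι_mul m₁ m₂ y hy ih =>
      rw [map_mul, map_mul, cliffMap_ι, cliffMap_ι]
      simpa using SetLike.mul_mem_graded (ι_mul_ι_mem_evenOdd_zero Q' (f m₁) (f m₂)) ih

theorem cliffMap_contract (d : Module.Dual R M) (d' : Module.Dual A V) (hd : ∀ m, d' (f m) = algebraMap R A (d m))
    (x : CliffordAlgebra Q) :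
    cliffMap Q Q' f hf (contractLeft d x) = contractLeft d' (cliffMap Q Q' f hf x) := by
  induction x using CliffordAlgebra.left_induction with
  | algebraMap r =>
    rw [contractLeft_algebraMap, map_zero, AlgHom.commutes, IsScalarTower.algebraMap_apply R A, contractLeft_algebraMap]
  | add a c ha hc => simp only [map_add, ha, hc]
  | ι_mul x m hx =>
    rw [contractLeft_ι_mul, map_sub, map_smul, map_mul, map_mul, cliffMap_ι, hx, contractLeft_ι_mul, hd,
      algebraMap_smul]

variable (b : Module.Basis (Fin n) R M) (b' : Module.Basis (Fin n) A V) (hb : ∀ i, b' i = f (b i))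

include hb in
theorem repr_cliff (m : M) (i : Fin n) : b'.repr (f m) i = algebraMap R A (b.repr m i) := by
  conv_lhs => rw [← b.sum_repr m]
  rw [map_sum, map_sum, Finsupp.finsetSum_apply, Finset.sum_eq_single i]
  · rw [map_smul, ← hb, ← algebraMap_smul A (b.repr m i) (b' i), map_smul]
    simp [Algebra.algebraMap_eq_smul_one]
  · intro j _ hj
    rw [map_smul, ← hb, ← algebraMap_smul A (b.repr m j) (b' j), map_smul]
    simp [Finsupp.single_eq_of_ne (Ne.symm hj)]
  · simp

include b b' hb in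
theorem exists_smul_eq_zero_of_cliffMap (S : Submonoid R)
    (hker : ∀ r, algebraMap R A r = 0 → ∃ s ∈ S, s * r = 0) {x : CliffordAlgebra Q}
    (hx : cliffMap Q Q' f hf x = 0) : ∃ s ∈ S, s • x = 0 := by
  let D := fun i ↦ contractLeft (Q := Q) (b.coord i)
  let L := fun i ↦ LinearMap.mulLeft R (ι Q (b i))
  have hc : IsCAR D L := isCAR_contract b Q
  have hD : ∀ i y, cliffMap Q Q' f hf y = 0 → cliffMap Q Q' f hf (D i y) = 0 := fun i y hy ↦ by
    change cliffMap Q Q' f hf (contractLeft (b.coord i) y) = 0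
    rw [cliffMap_contract Q Q' f hf (b.coord i) (b'.coord i) (fun m ↦ repr_cliff f b b' hb m i), hy, map_zero]
  suffices key : ∀ j k, k + j = n → ∀ y ∈ jker D k, cliffMap Q Q' f hf y = 0 → ∃ s ∈ S, s • y = 0 from
    key n 0 (zero_add n) x (by rw [jker_zero]; exact Submodule.mem_top) hx
  intro j
  induction j with
  | zero =>
    intro k hk y hy hFy
    obtain ⟨r, rfl⟩ := eq_algebraMap_of_contract b Q (x := y) fun i ↦ (mem_jker D).1 hy i (by have := i.isLt; omega)
    rw [AlgHom.commutes, IsScalarTower.algebraMap_apply R A, ← map_zero (algebraMap A (CliffordAlgebra Q'))] at hFy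
    obtain ⟨s, hs, hsr⟩ := hker r (algebraMap_inj b' Q' hFy)
    exact ⟨s, hs, by rw [Algebra.smul_def, ← map_mul, hsr, map_zero]⟩
  | succ j ih =>
    intro k hk y hy hFy
    have hkn : k < n := by omega
    obtain ⟨h1, h2⟩ := hc.proj_mem k hkn hy
    have hL : cliffMap Q Q' f hf (L ⟨k, hkn⟩ y) = 0 := by
      change cliffMap Q Q' f hf (ι Q (b ⟨k, hkn⟩) * y) = 0
      rw [map_mul, hFy, mul_zero]
    obtain ⟨s, hs, hs'⟩ := ih (k + 1) (by omega) _ h1 (hD _ _ hL)
    obtain ⟨t, ht, ht'⟩ := ih (k + 1) (by omega) _ h2 (hD _ _ hFy)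
    refine ⟨t * s, mul_mem ht hs, ?_⟩
    rw [← hc.homotopy_self ⟨k, hkn⟩ y, smul_add, mul_smul, hs', smul_zero, zero_add, mul_comm, mul_smul,
      ← map_smul, ht', map_zero, smul_zero]

include b b' hb in
theorem exists_cliffMap_eq_smul (S : Submonoid R)
    (hsurj : ∀ a : A, ∃ r, ∃ s ∈ S, algebraMap R A s * a = algebraMap R A r) (y : CliffordAlgebra Q') :
    ∃ x, ∃ s ∈ S, cliffMap Q Q' f hf x = s • y := by
  have hscal : ∀ a : A, ∃ x, ∃ s ∈ S, cliffMap Q Q' f hf x = s • algebraMap A (CliffordAlgebra Q') a := by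
    intro a
    obtain ⟨r, s, hs, h⟩ := hsurj a
    refine ⟨algebraMap R _ r, s, hs, ?_⟩
    rw [AlgHom.commutes, Algebra.smul_def, IsScalarTower.algebraMap_apply R A,
      IsScalarTower.algebraMap_apply R A (CliffordAlgebra Q') s, ← map_mul, h]
  have hadd : ∀ y y' : CliffordAlgebra Q', (∃ x, ∃ s ∈ S, cliffMap Q Q' f hf x = s • y) →
      (∃ x, ∃ s ∈ S, cliffMap Q Q' f hf x = s • y') → ∃ x, ∃ s ∈ S, cliffMap Q Q' f hf x = s • (y + y') := by
    rintro y y' ⟨x, s, hs, hx⟩ ⟨x', s', hs', hx'⟩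
    refine ⟨s' • x + s • x', s' * s, mul_mem hs' hs, ?_⟩
    rw [map_add, map_smul, map_smul, hx, hx', smul_smul, smul_smul, mul_comm s s', ← smul_add]
  have hmul : ∀ y y' : CliffordAlgebra Q', (∃ x, ∃ s ∈ S, cliffMap Q Q' f hf x = s • y) →
      (∃ x, ∃ s ∈ S, cliffMap Q Q' f hf x = s • y') → ∃ x, ∃ s ∈ S, cliffMap Q Q' f hf x = s • (y * y') := by
    rintro y y' ⟨x, s, hs, hx⟩ ⟨x', s', hs', hx'⟩
    exact ⟨x * x', s * s', mul_mem hs hs', by rw [map_mul, hx, hx', smul_mul_smul_comm]⟩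
  induction y using CliffordAlgebra.induction with
  | algebraMap a => exact hscal a
  | ι v =>
    rw [← b'.sum_repr v, map_sum]
    refine Finset.sum_induction _ (fun y ↦ ∃ x, ∃ s ∈ S, cliffMap Q Q' f hf x = s • y) hadd
      ⟨0, 1, one_mem S, by simp⟩ fun i _ ↦ ?_
    rw [map_smul, Algebra.smul_def, hb]
    exact hmul _ _ (hscal _) ⟨ι Q (b i), 1, one_mem S, by rw [cliffMap_ι, one_smul]⟩
  | mul x y hx hy => exact hmul _ _ hx hy
  | add x y hx hy => exact hadd _ _ hx hy

end Groth.Agent.QuadH13
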