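import Groth.Prelude.Def_QuadGrp2
import Mathlib.AlgebraicGeometry.Morphisms.Smooth
import Mathlib.RingTheory.RingHom.Smooth

/-!
A scheme over `Spec R` whose points in affine schemes are the algebra maps out of `U` is `Spec U`.
-/

universe u

open CategoryTheory AlgebraicGeometry Limits

namespace Groth.Agent.QuadH13

set_option backward.isDefEq.respectTransparency.types false

theorem isIso_of_affine_points {X Y : Scheme.{u}} (f : X ⟶ Y)
    (h : ∀ (A : CommRingCat.{u}) (g : Spec A ⟶ Y), ∃! g' : Spec A ⟶ X, g' ≫ f = g) : IsIso f := by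
  have hinj : ∀ {Z : Scheme.{u}} (a b : Z ⟶ X), a ≫ f = b ≫ f → a = b := by
    intro Z a b hab
    refine Scheme.Cover.hom_ext Z.affineOpenCover.openCover _ _ fun i ↦ ?_
    obtain ⟨g', -, hg'⟩ := h _ (Z.affineOpenCover.f i ≫ a ≫ f)
    exact (hg' (Z.affineOpenCover.f i ≫ a) (Category.assoc _ _ _)).trans
      (hg' (Z.affineOpenCover.f i ≫ b) ((Category.assoc _ _ _).trans (congrArg (Z.affineOpenCover.f i ≫ ·) hab.symm))).symm
  choose g hg using fun i ↦ (h (Y.affineOpenCover.X i) (Y.affineOpenCover.f i)).exists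
  let inv' : Y ⟶ X := Y.affineOpenCover.openCover.glueMorphisms g fun i j ↦
    hinj _ _ ((Category.assoc _ _ _).trans ((congrArg (pullback.fst (Y.affineOpenCover.openCover.f i)
        (Y.affineOpenCover.openCover.f j) ≫ ·) (hg i)).trans
      (pullback.condition.trans ((congrArg (pullback.snd (Y.affineOpenCover.openCover.f i)
        (Y.affineOpenCover.openCover.f j) ≫ ·) (hg j).symm).trans (Category.assoc _ _ _).symm))))
  have h1 : inv' ≫ f = 𝟙 Y := Scheme.Cover.hom_ext Y.affineOpenCover.openCover _ _ fun i ↦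
    (Category.assoc _ _ _).symm.trans ((congrArg (· ≫ f) (Scheme.Cover.ι_glueMorphisms _ _ _ i)).trans
      ((hg i).trans (Category.comp_id _).symm))
  exact ⟨inv', hinj _ _ (by rw [Category.assoc, h1, Category.comp_id, Category.id_comp]), h1⟩

variable {R : Type u} [CommRing R] (G : Over (Spec (CommRingCat.of R))) (U : Type u) [CommRing U] [Algebra R U]

theorem exists_iso_of_points
    (e : ∀ (A : Type u) [CommRing A] [Algebra R A], (QuadGrp.specOver R A ⟶ G) ≃ (U →ₐ[R] A))
    (hnat : ∀ (A B : Type u) [CommRing A] [Algebra R A] [CommRing B] [Algebra R B] (φ : A →ₐ[R] B)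
      (y : QuadGrp.specOver R A ⟶ G), e B (QuadGrp.specOverMap R φ ≫ y) = φ.comp (e A y)) :
    Nonempty (QuadGrp.specOver R U ≅ G) := by
  let y0 : QuadGrp.specOver R U ⟶ G := (e U).symm (AlgHom.id R U)
  have : IsIso y0.left := by
    refine isIso_of_affine_points _ fun A g ↦ ?_
    obtain ⟨φ0, hφ0⟩ := Spec.map_surjective (g ≫ G.hom)
    letI : Algebra R A := φ0.hom.toAlgebra
    let gy : QuadGrp.specOver R A ⟶ G := Over.homMk g hφ0.symm
    have hgy : QuadGrp.specOverMap R (e A gy) ≫ y0 = gy := (e A).injective (by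
      rw [hnat, Equiv.apply_symm_apply, AlgHom.comp_id])
    refine ⟨Spec.map (CommRingCat.ofHom (e A gy).toRingHom), congrArg (fun k ↦ k.left) hgy, fun g' hg' ↦ ?_⟩
    obtain ⟨ψ, rfl⟩ := Spec.map_surjective g'
    have hψ : CommRingCat.ofHom (algebraMap R U) ≫ ψ = φ0 := Spec.map_injective (by
      rw [Spec.map_comp, hφ0]
      exact (congrArg (fun k ↦ Spec.map ψ ≫ k) (Over.w y0)).symm.trans ((Category.assoc _ _ _).symm.trans (congrArg (· ≫ G.hom) hg')))
    let ψ' : U →ₐ[R] A := { ψ.hom with commutes' := fun r ↦ congrArg (fun k ↦ k.hom r) hψ }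
    have hψ' : QuadGrp.specOverMap R ψ' ≫ y0 = gy := Over.OverMorphism.ext hg'
    have heq : e A gy = ψ' := by
      rw [← hψ', hnat, Equiv.apply_symm_apply, AlgHom.comp_id]
    rw [heq]
    rfl
  exact ⟨Over.isoMk (asIso y0.left) (Over.w y0)⟩

theorem smooth_iff_of_points
    (e : ∀ (A : Type u) [CommRing A] [Algebra R A], (QuadGrp.specOver R A ⟶ G) ≃ (U →ₐ[R] A))
    (hnat : ∀ (A B : Type u) [CommRing A] [Algebra R A] [CommRing B] [Algebra R B] (φ : A →ₐ[R] B)
      (y : QuadGrp.specOver R A ⟶ G), e B (QuadGrp.specOverMap R φ ≫ y) = φ.comp (e A y)) :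
    Smooth G.hom ↔ Algebra.Smooth R U := by
  obtain ⟨i⟩ := exists_iso_of_points G U e hnat
  rw [← MorphismProperty.cancel_left_of_respectsIso @Smooth i.hom.left, Over.w i.hom]
  exact (HasRingHomProperty.Spec_iff (P := @Smooth) (φ := CommRingCat.ofHom (algebraMap R U))).trans
    RingHom.smooth_algebraMap

end Groth.Agent.QuadH13
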