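import Mathlib.RingTheory.Smooth.Basic
import Mathlib.RingTheory.FinitePresentation
import Mathlib.Algebra.MvPolynomial.PDeriv
import Mathlib.RingTheory.Localization.AtPrime.Basic
import Mathlib.RingTheory.Ideal.Maximal

/-!
Smoothness of an algebra given by equations whose square-zero lifting problems are solvable over local rings.
-/

universe u

namespace Groth.Agent.QuadH13

open MvPolynomial

variable {R : Type u} [CommRing R] {σ : Type} [Fintype σ] [DecidableEq σ]

theorem aeval_add_of_sq_zero {A : Type u} [CommRing A] [Algebra R A] {I : Ideal A}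
    (hI : ∀ x ∈ I, ∀ y ∈ I, x * y = 0) (G X : σ → A) (hX : ∀ i, X i ∈ I) (P : MvPolynomial σ R) :
    aeval (G + X) P = aeval G P + ∑ i, aeval G (pderiv i P) * X i := by
  induction P using MvPolynomial.induction_on with
  | C r => simp
  | add p q hp hq => simp only [map_add, hp, hq, add_mul, Finset.sum_add_distrib]; ring
  | mul_X p j hp =>
    have hz : (∑ i, aeval G (pderiv i p) * X i) * X j = 0 :=
      hI _ (I.sum_mem fun i _ ↦ I.mul_mem_left _ (hX i)) _ (hX j)
    simp only [map_mul, aeval_X, hp, Pi.add_apply, pderiv_mul, map_add, pderiv_X, add_mul, Finset.sum_add_distrib]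
    have h1 : ∑ i, aeval G p * aeval G ((Pi.single i 1 : σ → MvPolynomial σ R) j) * X i = aeval G p * X j := by
      rw [Finset.sum_eq_single j]
      · simp
      · intro i _ hij; rw [Pi.single_eq_of_ne (Ne.symm hij)]; simp
      · simp
    have h2 : ∑ i, aeval G (pderiv i p) * G j * X i = (∑ i, aeval G (pderiv i p) * X i) * G j := by
      rw [Finset.sum_mul]; exact Finset.sum_congr rfl fun i _ ↦ by ring
    rw [h1, h2]
    linear_combination hz

variable {κ : Type} [Fintype κ] (F : κ → MvPolynomial σ R)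

/-- The algebra of the equations `F`. -/
abbrev eqAlg : Type u := MvPolynomial σ R ⧸ Ideal.span (Set.range F)

instance : Algebra.FinitePresentation R (eqAlg F) :=
  Algebra.FinitePresentation.quotient (Submodule.fg_span (Set.finite_range F))

/-- Points of the algebra of the equations. -/
noncomputable def eqPoints (A : Type u) [CommRing A] [Algebra R A] :
    (eqAlg F →ₐ[R] A) ≃ {G : σ → A // ∀ k, aeval G (F k) = 0} where
  toFun f := ⟨fun i ↦ f (Ideal.Quotient.mk _ (X i)), fun k ↦ by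
    have : aeval (fun i ↦ f (Ideal.Quotient.mk _ (X i))) = f.comp (Ideal.Quotient.mkₐ R _) :=
      MvPolynomial.algHom_ext fun i ↦ by simp
    rw [this, AlgHom.comp_apply, Ideal.Quotient.mkₐ_eq_mk,
      Ideal.Quotient.eq_zero_iff_mem.2 (Ideal.subset_span (Set.mem_range_self k)), map_zero]⟩
  invFun G := Ideal.Quotient.liftₐ _ (aeval G.1) fun a ha ↦ by
    have : Ideal.span (Set.range F) ≤ RingHom.ker (aeval G.1) := Ideal.span_le.2 (by
      rintro _ ⟨k, rfl⟩; exact G.2 k)
    exact this ha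
  left_inv f := Ideal.Quotient.algHom_ext _ (MvPolynomial.algHom_ext fun i ↦ by
    change aeval _ (X i) = _
    rw [aeval_X]
    rfl)
  right_inv G := Subtype.ext (funext fun i ↦ by
    change aeval G.1 (X i) = _
    rw [aeval_X])

theorem exists_multiple {A : Type u} [CommRing A] [Algebra R A] (p : Ideal A) [p.IsPrime] {I : Ideal A}
    (hI : ∀ x ∈ I, ∀ y ∈ I, x * y = 0) (G : σ → A) (X : σ → Localization.AtPrime p)
    (hX : ∀ i, X i ∈ I.map (algebraMap A (Localization.AtPrime p)))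
    (h : ∀ k, aeval (algebraMap A (Localization.AtPrime p) ∘ G + X) (F k) = 0) :
    ∃ r ∉ p, ∃ Y : σ → A, (∀ i, Y i ∈ I) ∧
      ∀ k, ∑ i, aeval G (pderiv i (F k)) * Y i = -(r * aeval G (F k)) := by
  classical
  let ι := algebraMap A (Localization.AtPrime p)
  have hI' : ∀ x ∈ I.map ι, ∀ y ∈ I.map ι, x * y = 0 := by
    intro x hx y hy
    obtain ⟨⟨⟨a, ha⟩, s⟩, hxa⟩ := (IsLocalization.mem_map_algebraMap_iff p.primeCompl _).1 hx
    obtain ⟨⟨⟨b, hb⟩, t⟩, hyb⟩ := (IsLocalization.mem_map_algebraMap_iff p.primeCompl _).1 hy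
    refine (((IsLocalization.map_units (Localization.AtPrime p) s).mul
      (IsLocalization.map_units (Localization.AtPrime p) t)).mul_left_eq_zero).1 ?_
    calc x * y * (ι s * ι t) = (x * ι s) * (y * ι t) := by ring
      _ = _ := by rw [hxa, hyb, ← map_mul, hI a ha b hb, map_zero]
  have hα : ∀ P : MvPolynomial σ R, aeval (ι ∘ G) P = ι (aeval G P) := fun P ↦ by
    rw [← aeval_algebraMap_apply]
  choose x hx using fun i ↦ (IsLocalization.mem_map_algebraMap_iff p.primeCompl _).1 (hX i)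
  let S : p.primeCompl := ∏ i, (x i).2
  let y : σ → A := fun i ↦ ((x i).1 : A) * ∏ l ∈ Finset.univ.erase i, ((x l).2 : A)
  have hy : ∀ i, ι (y i) = X i * ι S := fun i ↦ by
    simp only [y, S, map_mul, Submonoid.coe_finsetProd]
    rw [← Finset.mul_prod_erase Finset.univ (fun l ↦ ((x l).2 : A)) (Finset.mem_univ i), map_mul, ← mul_assoc, hx i]
  have hk : ∀ k, ∃ t : p.primeCompl,
      (t : A) * (∑ i, aeval G (pderiv i (F k)) * y i + (S : A) * aeval G (F k)) = 0 := fun k ↦ by
    refine (IsLocalization.map_eq_zero_iff p.primeCompl (Localization.AtPrime p) _).1 ?_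
    have := h k
    rw [aeval_add_of_sq_zero hI' _ _ hX, hα] at this
    have hα' : ∀ P : MvPolynomial σ R, aeval (algebraMap A (Localization.AtPrime p) ∘ G) P =
        algebraMap A (Localization.AtPrime p) (aeval G P) := hα
    simp only [hα'] at this
    simp only [map_add, map_sum, map_mul]
    change ∑ i, ι (aeval G (pderiv i (F k))) * ι (y i) + ι S * ι (aeval G (F k)) = 0
    simp only [hy]
    calc _ = ι S * (ι (aeval G (F k)) + ∑ i, ι (aeval G (pderiv i (F k))) * X i) := by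
          rw [mul_add, Finset.mul_sum, add_comm]
          exact congrArg₂ _ rfl (Finset.sum_congr rfl fun i _ ↦ by ring)
      _ = 0 := by rw [this, mul_zero]
  choose t ht using hk
  refine ⟨((∏ k, t k) * S : p.primeCompl), ((∏ k, t k) * S).2,
    fun i ↦ ((∏ k, t k : p.primeCompl) : A) * y i, fun i ↦ I.mul_mem_left _ (I.mul_mem_right _ (x i).1.2), fun k ↦ ?_⟩
  have h0 : ((∏ k, t k : p.primeCompl) : A) * (∑ i, aeval G (pderiv i (F k)) * y i + (S : A) * aeval G (F k)) = 0 := by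
    rw [Submonoid.coe_finsetProd, ← Finset.mul_prod_erase _ _ (Finset.mem_univ k), mul_assoc, mul_left_comm, ht,
      mul_zero]
  rw [mul_add, Finset.mul_sum] at h0
  rw [Submonoid.coe_mul, Finset.sum_congr rfl fun i (_ : i ∈ Finset.univ) ↦
    mul_left_comm (aeval G (pderiv i (F k))) ((∏ k, t k : p.primeCompl) : A) (y i)]
  linear_combination h0

theorem exists_lift_of_local {A : Type u} [CommRing A] [Algebra R A] {I : Ideal A}
    (hI : ∀ x ∈ I, ∀ y ∈ I, x * y = 0) (G : σ → A)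
    (hloc : ∀ (p : Ideal A) [p.IsMaximal], ∃ X : σ → Localization.AtPrime p,
      (∀ i, X i ∈ I.map (algebraMap A (Localization.AtPrime p))) ∧
        ∀ k, aeval (algebraMap A (Localization.AtPrime p) ∘ G + X) (F k) = 0) :
    ∃ X : σ → A, (∀ i, X i ∈ I) ∧ ∀ k, aeval (G + X) (F k) = 0 := by
  let J : Ideal A :=
    { carrier := {r | ∃ Y : σ → A, (∀ i, Y i ∈ I) ∧
        ∀ k, ∑ i, aeval G (pderiv i (F k)) * Y i = -(r * aeval G (F k))}
      add_mem' := by
        rintro a b ⟨Y, hY, hYk⟩ ⟨Z, hZ, hZk⟩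
        exact ⟨Y + Z, fun i ↦ I.add_mem (hY i) (hZ i), fun k ↦ by
          simp only [Pi.add_apply, mul_add, Finset.sum_add_distrib, hYk, hZk]; ring⟩
      zero_mem' := ⟨0, fun _ ↦ I.zero_mem, fun k ↦ by simp⟩
      smul_mem' := by
        rintro c a ⟨Y, hY, hYk⟩
        refine ⟨fun i ↦ c * Y i, fun i ↦ I.mul_mem_left _ (hY i), fun k ↦ ?_⟩
        rw [smul_eq_mul, mul_assoc, ← mul_neg, ← hYk, Finset.mul_sum]
        exact Finset.sum_congr rfl fun i _ ↦ mul_left_comm _ _ _ }
  have hJ : J = ⊤ := by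
    by_contra hne
    obtain ⟨p, hp, hle⟩ := Ideal.exists_le_maximal J hne
    obtain ⟨X, hX, hXk⟩ := hloc p
    obtain ⟨r, hr, hY⟩ := exists_multiple F p hI G X hX hXk
    exact hr (hle hY)
  obtain ⟨Y, hY, hYk⟩ := (hJ ▸ Submodule.mem_top : (1 : A) ∈ J)
  exact ⟨Y, hY, fun k ↦ by rw [aeval_add_of_sq_zero hI G Y hY, hYk k, one_mul, add_neg_cancel]⟩

theorem smooth_eqAlg
    (H : ∀ (A : Type u) [CommRing A] [Algebra R A] [IsLocalRing A] (I : Ideal A), I ≠ ⊤ → I ^ 2 = ⊥ →
      ∀ G : σ → A, (∀ k, aeval G (F k) ∈ I) → ∃ X : σ → A, (∀ i, X i ∈ I) ∧ ∀ k, aeval (G + X) (F k) = 0) :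
    Algebra.Smooth R (eqAlg F) := by
  refine ⟨Algebra.FormallySmooth.of_comp_surjective fun B _ _ I hI f ↦ ?_, inferInstance⟩
  have hI0 : ∀ x ∈ I, ∀ y ∈ I, x * y = 0 := fun x hx y hy ↦ by
    have : x * y ∈ I ^ 2 := by rw [pow_two]; exact Ideal.mul_mem_mul hx hy
    rwa [hI, Ideal.mem_bot] at this
  choose G hG using fun i ↦ Ideal.Quotient.mk_surjective (I := I) (f (Ideal.Quotient.mk _ (X i)))
  have hGF : ∀ k, aeval G (F k) ∈ I := fun k ↦ Ideal.Quotient.eq_zero_iff_mem.1 (by
    rw [← Ideal.Quotient.mkₐ_eq_mk R, ← AlgHom.comp_apply, MvPolynomial.comp_aeval,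
      show (fun i ↦ Ideal.Quotient.mkₐ R I (G i)) = fun i ↦ f (Ideal.Quotient.mk _ (X i)) from funext hG]
    exact (eqPoints F _ f).2 k)
  obtain ⟨Y, hY, hYk⟩ := exists_lift_of_local F hI0 G fun p _ ↦ by
    by_cases htop : I.map (algebraMap B (Localization.AtPrime p)) = ⊤
    · exfalso
      have h1 : (I.map (algebraMap B (Localization.AtPrime p))) ^ 2 = ⊥ := by
        rw [← Ideal.map_pow, hI, Ideal.map_bot]
      rw [htop, Ideal.top_pow] at h1
      exact top_ne_bot h1
    · exact H _ _ htop (by rw [← Ideal.map_pow, hI, Ideal.map_bot]) _ fun k ↦ by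
        rw [show aeval (algebraMap B (Localization.AtPrime p) ∘ G) (F k) =
          algebraMap B (Localization.AtPrime p) (aeval G (F k)) by rw [← aeval_algebraMap_apply]]
        exact Ideal.mem_map_of_mem _ (hGF k)
  refine ⟨(eqPoints F B).symm ⟨G + Y, hYk⟩, Ideal.Quotient.algHom_ext _ (MvPolynomial.algHom_ext fun i ↦ ?_)⟩
  change Ideal.Quotient.mk I (aeval (G + Y) (X i)) = f (Ideal.Quotient.mk _ (X i))
  rw [aeval_X, Pi.add_apply, map_add, Ideal.Quotient.eq_zero_iff_mem.2 (hY i), add_zero, hG]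

theorem not_formallySmooth_eqAlg {A : Type u} [CommRing A] [Algebra R A] (I : Ideal A) (hI : I ^ 2 = ⊥)
    (G : σ → A) (hG : ∀ k, aeval G (F k) ∈ I)
    (h : ∀ G' : σ → A, (∀ i, G' i - G i ∈ I) → ∃ k, aeval G' (F k) ≠ 0) :
    ¬ Algebra.FormallySmooth R (eqAlg F) := by
  intro hs
  let f : eqAlg F →ₐ[R] A ⧸ I := (eqPoints F _).symm ⟨fun i ↦ Ideal.Quotient.mk I (G i), fun k ↦ by
    rw [show (fun i ↦ Ideal.Quotient.mk I (G i)) = fun i ↦ Ideal.Quotient.mkₐ R I (G i) from rfl,
      ← MvPolynomial.comp_aeval, AlgHom.comp_apply]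
    exact Ideal.Quotient.eq_zero_iff_mem.2 (hG k)⟩
  obtain ⟨g, hg⟩ := Algebra.FormallySmooth.comp_surjective R (eqAlg F) I hI f
  obtain ⟨k, hk⟩ := h (fun i ↦ g (Ideal.Quotient.mk _ (X i))) fun i ↦ by
    have := AlgHom.congr_fun hg (Ideal.Quotient.mk _ (X i))
    have h2 : f (Ideal.Quotient.mk _ (X i)) = Ideal.Quotient.mk I (G i) := by
      change aeval _ (X i) = _; rw [aeval_X]
    rw [h2, AlgHom.comp_apply] at this
    exact Ideal.Quotient.eq.1 this
  exact hk ((eqPoints F A g).2 k)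

end Groth.Agent.QuadH13
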