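import Groth.Agent.Lib.QuadH13.OrthLift
import Groth.Agent.Lib.QuadH13.RepScheme
import Groth.Agent.Lib.QuadH13.SmoothLift
import Mathlib.RingTheory.AdjoinRoot

/-!
Smoothness of the orthogonal and naive special orthogonal group schemes.
-/

universe u

open QuadraticMap Matrix TensorProduct CategoryTheory AlgebraicGeometry MonObj

namespace Groth.Agent.QuadH13

variable {R : Type u} [CommRing R] {n : ℕ}

variable (A : Type u) [CommRing A] [Algebra R A]

/-- The standard basis after base change. -/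
noncomputable abbrev bc : Module.Basis (Fin n) A (A ⊗[R] (Fin n → R)) := (Pi.basisFun R (Fin n)).baseChange A

theorem repr_rTensor {B : Type u} [CommRing B] [Algebra R B] (φ : A →ₐ[R] B) (t : A ⊗[R] (Fin n → R)) (i : Fin n) :
    (bc (R := R) B).repr (LinearMap.rTensor (Fin n → R) φ.toLinearMap t) i = φ ((bc (R := R) A).repr t i) := by
  induction t using TensorProduct.induction_on with
  | zero => simp
  | tmul a m =>
    rw [LinearMap.rTensor_tmul, Module.Basis.baseChange_repr_tmul, Module.Basis.baseChange_repr_tmul]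
    simp [Algebra.smul_def, map_mul]
  | add x y hx hy => simp only [map_add, Finsupp.add_apply, hx, hy]

/-- The matrix of an endomorphism of the base change, as a table. -/
noncomputable def table (h : (A ⊗[R] (Fin n → R)) →ₗ[A] (A ⊗[R] (Fin n → R))) : Fin n × Fin n → A :=
  fun ij ↦ LinearMap.toMatrix (bc (R := R) A) (bc (R := R) A) h ij.1 ij.2

theorem smooth_iff_of_linRep {S : ∀ (A : Type u) [CommRing A] [Algebra R A],
      Subgroup ((A ⊗[R] (Fin n → R)) ≃ₗ[A] (A ⊗[R] (Fin n → R)))}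
    {G : Over (Spec (CommRingCat.of R))} [GrpObj G] (D : QuadGrp.LinRep R (Fin n → R) S G)
    {κ : Type} [Fintype κ] (F : κ → MvPolynomial (Fin n × Fin n) R)
    (hmem : ∀ (A : Type u) [CommRing A] [Algebra R A] (h : (A ⊗[R] (Fin n → R)) ≃ₗ[A] (A ⊗[R] (Fin n → R))),
      h ∈ S A → ∀ k, MvPolynomial.aeval (table A h.toLinearMap) (F k) = 0)
    (hex : ∀ (A : Type u) [CommRing A] [Algebra R A] (v : Fin n × Fin n → A),
      (∀ k, MvPolynomial.aeval v (F k) = 0) → ∃ h ∈ S A, table A h.toLinearMap = v) :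
    Smooth G.hom ↔ Algebra.Smooth R (eqAlg F) := by
  let tab : ∀ (A : Type u) [CommRing A] [Algebra R A], ↥(S A) → {v : Fin n × Fin n → A // ∀ k, MvPolynomial.aeval v (F k) = 0} :=
    fun A _ _ h ↦ ⟨table A h.1.toLinearMap, hmem A h.1 h.2⟩
  have hb : ∀ (A : Type u) [CommRing A] [Algebra R A], Function.Bijective (tab A) := by
    intro A _ _
    constructor
    · intro h h' hh
      refine Subtype.ext (LinearEquiv.toLinearMap_injective ?_)
      refine (LinearMap.toMatrix (bc (R := R) A) (bc (R := R) A)).injective ?_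
      ext i j
      exact congrFun (congrArg Subtype.val hh) (i, j)
    · intro v
      obtain ⟨h, hh, hv⟩ := hex A v.1 v.2
      exact ⟨⟨h, hh⟩, Subtype.ext hv⟩
  let e : ∀ (A : Type u) [CommRing A] [Algebra R A], (QuadGrp.specOver R A ⟶ G) ≃ (eqAlg F →ₐ[R] A) := fun A _ _ ↦
    ((D.pts A).toEquiv.trans (Equiv.ofBijective _ (hb A))).trans (eqPoints F A).symm
  refine smooth_iff_of_points G (eqAlg F) e fun A B _ _ _ _ φ y ↦ (eqPoints F B).injective (Subtype.ext ?_)
  funext ij
  have h1 : ∀ (A : Type u) [CommRing A] [Algebra R A] (y : QuadGrp.specOver R A ⟶ G),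
      (e A y) (Ideal.Quotient.mk _ (MvPolynomial.X ij)) = table A (D.pts A y).1.toLinearMap ij := by
    intro A _ _ y
    exact congrFun (congrArg Subtype.val ((eqPoints F A).apply_symm_apply (tab A (D.pts A y)))) ij
  change (e B _) (Ideal.Quotient.mk _ (MvPolynomial.X ij)) = φ ((e A y) (Ideal.Quotient.mk _ (MvPolynomial.X ij)))
  rw [h1, h1, table, table, LinearMap.toMatrix_apply, LinearMap.toMatrix_apply, LinearEquiv.coe_coe, LinearEquiv.coe_coe,
    Module.Basis.baseChange_apply, Module.Basis.baseChange_apply, D.natural, repr_rTensor]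

variable (Q : QuadraticForm R (Fin n → R))

/-- The equations of the isometries. -/
noncomputable def isoEqn : Sym2 (Fin n) → MvPolynomial (Fin n × Fin n) R :=
  Sym2.lift ⟨fun i j ↦
    (if i = j then triSum (MvPolynomial.C ∘ QuadGrp.coeffs (Pi.basisFun R (Fin n)) (LinearEquiv.refl R R) Q) (fun k ↦ MvPolynomial.X (k, i))
      else triSum (MvPolynomial.C ∘ QuadGrp.coeffs (Pi.basisFun R (Fin n)) (LinearEquiv.refl R R) Q)
          ((fun k ↦ MvPolynomial.X (k, i)) + fun k ↦ MvPolynomial.X (k, j)) -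
        triSum (MvPolynomial.C ∘ QuadGrp.coeffs (Pi.basisFun R (Fin n)) (LinearEquiv.refl R R) Q) (fun k ↦ MvPolynomial.X (k, i)) -
        triSum (MvPolynomial.C ∘ QuadGrp.coeffs (Pi.basisFun R (Fin n)) (LinearEquiv.refl R R) Q) (fun k ↦ MvPolynomial.X (k, j))) -
      MvPolynomial.C (QuadGrp.coeffs (Pi.basisFun R (Fin n)) (LinearEquiv.refl R R) Q s(i, j)),
    fun i j ↦ by
      by_cases h : i = j
      · subst h; rfl
      · dsimp only
        rw [if_neg h, if_neg (Ne.symm h), Sym2.eq_swap, add_comm (fun k ↦ (MvPolynomial.X (k, i) : MvPolynomial (Fin n × Fin n) R))]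
        ring⟩

/-- The isometry equations together with the determinant. -/
noncomputable def sIsoEqn : Option (Sym2 (Fin n)) → MvPolynomial (Fin n × Fin n) R
  | none => (Matrix.of fun i j ↦ (MvPolynomial.X (i, j) : MvPolynomial (Fin n × Fin n) R)).det - 1
  | some s => isoEqn Q s

theorem aeval_isoEqn (g : (A ⊗[R] (Fin n → R)) →ₗ[A] (A ⊗[R] (Fin n → R))) (s : Sym2 (Fin n)) :
    MvPolynomial.aeval (table A g) (isoEqn Q s) =
      QuadGrp.coeffs (bc (R := R) A) (LinearEquiv.refl A A) ((QuadGrp.baseChangeForm A Q).comp g) s -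
      QuadGrp.coeffs (bc (R := R) A) (LinearEquiv.refl A A) (QuadGrp.baseChangeForm A Q) s := by
  induction s using Sym2.ind with
  | _ i j =>
    have ha : ⇑(MvPolynomial.aeval (table A g) : MvPolynomial (Fin n × Fin n) R →ₐ[R] A).toRingHom ∘
        (MvPolynomial.C ∘ QuadGrp.coeffs (Pi.basisFun R (Fin n)) (LinearEquiv.refl R R) Q) =
        algebraMap R A ∘ QuadGrp.coeffs (Pi.basisFun R (Fin n)) (LinearEquiv.refl R R) Q := by
      funext s; simp
    simp only [isoEqn, Sym2.lift_mk, map_sub, apply_ite (MvPolynomial.aeval (table A g))]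
    rw [coeffs_comp_eq, coeffs_baseChange]
    congr 1
    · let φ : MvPolynomial (Fin n × Fin n) R →+* A := (MvPolynomial.aeval (table A g)).toRingHom
      change (if i = j then φ _ else φ _ - φ _ - φ _) = _
      have hX : ∀ l, φ ∘ (fun k ↦ MvPolynomial.X (k, l)) = fun k ↦ LinearMap.toMatrix (bc (R := R) A) (bc (R := R) A) g k l :=
        fun l ↦ funext fun k ↦ MvPolynomial.aeval_X _ _
      have hX2 : φ ∘ ((fun k ↦ MvPolynomial.X (k, i)) + fun k ↦ MvPolynomial.X (k, j)) =
          (fun k ↦ LinearMap.toMatrix (bc (R := R) A) (bc (R := R) A) g k i) +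
            fun k ↦ LinearMap.toMatrix (bc (R := R) A) (bc (R := R) A) g k j := by
        rw [← hX, ← hX]; exact funext fun k ↦ map_add φ _ _
      rw [map_triSum, map_triSum, map_triSum, ha, hX, hX, hX2]
    · simp

theorem aeval_det (g : (A ⊗[R] (Fin n → R)) →ₗ[A] (A ⊗[R] (Fin n → R))) :
    MvPolynomial.aeval (table A g) (Matrix.of fun i j ↦ (MvPolynomial.X (i, j) : MvPolynomial (Fin n × Fin n) R)).det =
      LinearMap.det g := by
  rw [AlgHom.map_det, ← LinearMap.det_toMatrix (bc (R := R) A)]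
  congr 1
  ext i j
  simp [table]

theorem table_toLin (v : Fin n × Fin n → A) :
    table A (Matrix.toLin (bc (R := R) A) (bc (R := R) A) (Matrix.of fun i j ↦ v (i, j))) = v := by
  funext ij; simp [table]

theorem isometry_of_table (g : (A ⊗[R] (Fin n → R)) →ₗ[A] (A ⊗[R] (Fin n → R)))
    (h : ∀ s, MvPolynomial.aeval (table A g) (isoEqn Q s) = 0) (v : A ⊗[R] (Fin n → R)) :
    QuadGrp.baseChangeForm A Q (g v) = QuadGrp.baseChangeForm A Q v :=
  QuadraticMap.congr_fun (ext_of_coeffs (bc (R := R) A) (funext fun s ↦ sub_eq_zero.1 ((aeval_isoEqn A Q g s).symm.trans (h s)))) v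

theorem table_of_isometry (g : (A ⊗[R] (Fin n → R)) →ₗ[A] (A ⊗[R] (Fin n → R)))
    (hg : ∀ v, QuadGrp.baseChangeForm A Q (g v) = QuadGrp.baseChangeForm A Q v) (s : Sym2 (Fin n)) :
    MvPolynomial.aeval (table A g) (isoEqn Q s) = 0 := by
  rw [aeval_isoEqn, show (QuadGrp.baseChangeForm A Q).comp g = QuadGrp.baseChangeForm A Q from QuadraticMap.ext hg,
    sub_self]

theorem sub_mem_of_table {I : Ideal A} (g : (A ⊗[R] (Fin n → R)) →ₗ[A] (A ⊗[R] (Fin n → R)))
    (h : ∀ s, MvPolynomial.aeval (table A g) (isoEqn Q s) ∈ I) (v : A ⊗[R] (Fin n → R)) :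
    QuadGrp.baseChangeForm A Q (g v) - QuadGrp.baseChangeForm A Q v ∈ I := by
  rw [← (bc (R := R) A).sum_repr v, ← QuadraticMap.comp_apply, apply_eq_triSum, apply_eq_triSum, triSum, triSum,
    ← Finset.sum_sub_distrib]
  refine I.sum_mem fun i _ ↦ ?_
  rw [← Finset.sum_sub_distrib]
  refine I.sum_mem fun j _ ↦ ?_
  split_ifs
  · rw [← sub_mul]
    exact I.mul_mem_right _ (aeval_isoEqn A Q g _ ▸ h _)
  · rw [sub_zero]; exact I.zero_mem

variable {Q}

theorem isUnit_det_of_regular (hQ : QuadGrp.IsRegular Q) :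
    IsUnit (polarMat (Pi.basisFun R (Fin n)) Q).det := by
  choose z hz using fun i ↦ hQ.2 ((Pi.basisFun R (Fin n)).coord i)
  refine Matrix.isUnit_det_of_left_inverse (B := Matrix.of fun i k ↦ (Pi.basisFun R (Fin n)).repr (z i) k) ?_
  ext i j
  have := LinearMap.congr_fun (hz i) (Pi.basisFun R (Fin n) j)
  rw [polarBilin_apply_apply, Module.Basis.coord_apply, Module.Basis.repr_self, Finsupp.single_apply] at this
  rw [Matrix.mul_apply, Matrix.one_apply]
  simp only [polarMat_apply, Matrix.of_apply]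
  have e : polar Q (z i) (Pi.basisFun R (Fin n) j) =
      ∑ k, (Pi.basisFun R (Fin n)).repr (z i) k * polar Q (Pi.basisFun R (Fin n) k) (Pi.basisFun R (Fin n) j) := by
    rw [← polarBilin_apply_apply]
    conv_lhs => rw [← (Pi.basisFun R (Fin n)).sum_repr (z i)]
    rw [LinearMap.map_sum₂]
    exact Finset.sum_congr rfl fun k _ ↦ by rw [LinearMap.map_smul₂, polarBilin_apply_apply, smul_eq_mul]
  rw [← e, this]
  simp [eq_comm]

theorem isUnit_det_baseChange (hP : IsUnit (algebraMap R A (polarMat (Pi.basisFun R (Fin n)) Q).det)) :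
    IsUnit (polarMat (bc (R := R) A) (QuadGrp.baseChangeForm A Q)).det := by
  convert hP
  rw [RingHom.map_det]
  congr 1
  ext i j
  rw [RingHom.mapMatrix_apply, Matrix.map_apply, polarMat_eq_coeffs, polarMat_eq_coeffs, coeffs_baseChange]
  split_ifs <;> simp [map_mul, map_ofNat]

theorem semiregular_baseChange (hQ : QuadGrp.IsSemiregular (Pi.basisFun R (Fin n)) (LinearEquiv.refl R R) Q) :
    QuadGrp.IsSemiregular (bc (R := R) A) (LinearEquiv.refl A A) (QuadGrp.baseChangeForm A Q) := by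
  rw [QuadGrp.IsSemiregular, map_halfDisc (algebraMap R A) (bc (R := R) A) _ (Pi.basisFun R (Fin n)) Q (coeffs_baseChange A _ Q)]
  exact hQ.map (algebraMap R A)

theorem det_isometry_sq (hQ : QuadGrp.IsNondeg (Pi.basisFun R (Fin n)) (LinearEquiv.refl R R) Q)
    (g : (A ⊗[R] (Fin n → R)) →ₗ[A] (A ⊗[R] (Fin n → R)))
    (hg : ∀ v, QuadGrp.baseChangeForm A Q (g v) = QuadGrp.baseChangeForm A Q v) :
    LinearMap.det g * LinearMap.det g = 1 := by
  rcases Nat.even_or_odd n with he | ho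
  · exact det_sq_of_isUnit _ _ (isUnit_det_baseChange A ((isUnit_det_of_regular (hQ.1 he)).map _)) g hg
  · exact det_sq_eq_one ho (bc (R := R) A) _ (semiregular_baseChange A (hQ.2 ho)) g hg

theorem exists_equiv_of_table (hQ : QuadGrp.IsNondeg (Pi.basisFun R (Fin n)) (LinearEquiv.refl R R) Q)
    (v : Fin n × Fin n → A) (hv : ∀ s, MvPolynomial.aeval v (isoEqn Q s) = 0) :
    ∃ h ∈ QuadGrp.orth Q A, table A (h : (A ⊗[R] (Fin n → R)) ≃ₗ[A] (A ⊗[R] (Fin n → R))).toLinearMap = v := by
  let g := Matrix.toLin (bc (R := R) A) (bc (R := R) A) (Matrix.of fun i j ↦ v (i, j))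
  have hg := isometry_of_table A Q g fun s ↦ by rw [table_toLin (R := R)]; exact hv s
  have hu : IsUnit (LinearMap.det g) := IsUnit.of_mul_eq_one _ (det_isometry_sq A hQ g hg)
  haveI := Module.Free.of_basis (bc A : Module.Basis (Fin n) A (A ⊗[R] (Fin n → R)))
  haveI := Module.Finite.of_basis (bc A : Module.Basis (Fin n) A (A ⊗[R] (Fin n → R)))
  refine ⟨LinearMap.equivOfIsUnitDet hu, (baseChangeForm_isometry_iff A Q _).2 fun w ↦ ?_, ?_⟩
  · rw [LinearMap.equivOfIsUnitDet_apply]; exact hg w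
  · rw [LinearMap.coe_equivOfIsUnitDet]; exact table_toLin (R := R) A v

theorem isUnit_det_of_two (hQ : QuadGrp.IsNondeg (Pi.basisFun R (Fin n)) (LinearEquiv.refl R R) Q)
    (h : Even n ∨ IsUnit (2 : A)) : IsUnit (polarMat (bc (R := R) A) (QuadGrp.baseChangeForm A Q)).det := by
  rcases Nat.even_or_odd n with he | ho
  · exact isUnit_det_baseChange A ((isUnit_det_of_regular (hQ.1 he)).map _)
  · rw [← two_mul_halfDisc ho]
    exact (h.resolve_left (Nat.not_even_iff_odd.2 ho)).mul (semiregular_baseChange A (hQ.2 ho))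

variable {G : Over (Spec (CommRingCat.of R))} [GrpObj G]

theorem smooth_orth (hQ : QuadGrp.IsNondeg (Pi.basisFun R (Fin n)) (LinearEquiv.refl R R) Q)
    (D : QuadGrp.OrthRep Q G) (h : Even n ∨ IsUnit (2 : R)) : Smooth G.hom := by
  rw [smooth_iff_of_linRep D (isoEqn Q) (fun A _ _ g hg s ↦ table_of_isometry A Q _
    ((baseChangeForm_isometry_iff A Q g).1 hg) s) (fun A _ _ v hv ↦ exists_equiv_of_table A hQ v hv)]
  refine smooth_eqAlg (isoEqn Q) fun A _ _ _ I hI hI2 v hv ↦ ?_
  have hI0 : ∀ x ∈ I, ∀ y ∈ I, x * y = 0 := fun x hx y hy ↦ by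
    have : x * y ∈ I ^ 2 := by rw [pow_two]; exact Ideal.mul_mem_mul hx hy
    rwa [hI2, Ideal.mem_bot] at this
  obtain ⟨g', hg', hgg⟩ := exists_lift_of_isUnit (QuadGrp.baseChangeForm A Q) (bc (R := R) A) hI0
    (isUnit_det_of_two A hQ (h.imp_right fun h ↦ by simpa [map_ofNat] using h.map (algebraMap R A)))
    (Matrix.toLin (bc (R := R) A) (bc (R := R) A) (Matrix.of fun i j ↦ v (i, j)))
    (sub_mem_of_table A Q _ fun s ↦ by rw [table_toLin (R := R)]; exact hv s)
  refine ⟨fun ij ↦ table A g' ij - v ij, fun ij ↦ ?_, fun s ↦ ?_⟩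
  · have := sub_mem_of_mem_smul_top (bc (R := R) A) (hgg (bc (R := R) A ij.2)) ij.1
    rw [map_sub, Finsupp.sub_apply, ← LinearMap.toMatrix_apply (bc (R := R) A) (bc (R := R) A),
      ← LinearMap.toMatrix_apply (bc (R := R) A) (bc (R := R) A), LinearMap.toMatrix_toLin] at this
    exact this
  · rw [show v + (fun ij ↦ table A g' ij - v ij) = table A g' by funext ij; simp]
    exact table_of_isometry A Q g' hg' s

theorem smooth_sorth' (hQ : QuadGrp.IsNondeg (Pi.basisFun R (Fin n)) (LinearEquiv.refl R R) Q)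
    (D : QuadGrp.SOrth'Rep Q G) (h : Odd n ∨ IsUnit (2 : R)) : Smooth G.hom := by
  rw [smooth_iff_of_linRep D (sIsoEqn Q) ?_ ?_]
  rotate_left
  · intro A _ _ g hg k
    rcases k with _ | s
    · rw [sIsoEqn, map_sub, map_one, aeval_det, sub_eq_zero]
      exact (LinearEquiv.coe_det g).symm.trans ((congrArg Units.val (MonoidHom.mem_ker.1 hg.2)).trans Units.val_one)
    · exact table_of_isometry A Q _ ((baseChangeForm_isometry_iff A Q g).1 hg.1) s
  · intro A _ _ v hv
    obtain ⟨g, hg, rfl⟩ := exists_equiv_of_table A hQ v fun s ↦ hv (some s)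
    refine ⟨g, ⟨hg, MonoidHom.mem_ker.2 (Units.ext ?_)⟩, rfl⟩
    have := hv none
    rw [sIsoEqn, map_sub, map_one, aeval_det, sub_eq_zero] at this
    rw [Units.val_one, LinearEquiv.coe_det]
    exact this
  refine smooth_eqAlg (sIsoEqn Q) fun A _ _ _ I hI hI2 v hv ↦ ?_
  have hI0 : ∀ x ∈ I, ∀ y ∈ I, x * y = 0 := fun x hx y hy ↦ by
    have : x * y ∈ I ^ 2 := by rw [pow_two]; exact Ideal.mul_mem_mul hx hy
    rwa [hI2, Ideal.mem_bot] at this
  have hdet : LinearMap.det (Matrix.toLin (bc (R := R) A) (bc (R := R) A) (Matrix.of fun i j ↦ v (i, j))) - 1 ∈ I := by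
    have := hv none
    rw [sIsoEqn, map_sub, map_one, ← table_toLin (R := R) A v, aeval_det] at this
    exact this
  obtain ⟨g', hg', hd, hgg⟩ := exists_lift_det (QuadGrp.baseChangeForm A Q) (bc (R := R) A) hI hI0
    (fun h2 ↦ isUnit_det_of_two A hQ (.inr h2))
    (fun h2 ↦ by
      have ho : Odd n := h.resolve_right fun h' ↦ h2 (by simpa [map_ofNat] using h'.map (algebraMap R A))
      exact ⟨ho, semiregular_baseChange A (hQ.2 ho)⟩)
    (Matrix.toLin (bc (R := R) A) (bc (R := R) A) (Matrix.of fun i j ↦ v (i, j)))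
    (sub_mem_of_table A Q _ fun s ↦ by rw [table_toLin (R := R)]; exact hv (some s)) hdet
  refine ⟨fun ij ↦ table A g' ij - v ij, fun ij ↦ ?_, fun k ↦ ?_⟩
  · have := sub_mem_of_mem_smul_top (bc (R := R) A) (hgg (bc (R := R) A ij.2)) ij.1
    rw [map_sub, Finsupp.sub_apply, ← LinearMap.toMatrix_apply (bc (R := R) A) (bc (R := R) A),
      ← LinearMap.toMatrix_apply (bc (R := R) A) (bc (R := R) A), LinearMap.toMatrix_toLin] at this
    exact this
  · rw [show v + (fun ij ↦ table A g' ij - v ij) = table A g' by funext ij; simp]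
    rcases k with _ | s
    · rw [sIsoEqn, map_sub, map_one, aeval_det, hd, sub_self]
    · exact table_of_isometry A Q g' hg' s

theorem not_smooth_orth (hQ : QuadGrp.IsNondeg (Pi.basisFun R (Fin n)) (LinearEquiv.refl R R) Q) (hn : Odd n)
    (D : QuadGrp.OrthRep Q G) (h2 : ¬ IsUnit (2 : R)) : ¬ Smooth G.hom := by
  rw [smooth_iff_of_linRep D (isoEqn Q) (fun A _ _ g hg s ↦ table_of_isometry A Q _
    ((baseChangeForm_isometry_iff A Q g).1 hg) s) (fun A _ _ v hv ↦ exists_equiv_of_table A hQ v hv)]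
  intro hs
  obtain ⟨p, hp, hp2⟩ := exists_max_ideal_of_mem_nonunits h2
  let B := AdjoinRoot ((Polynomial.X : Polynomial (R ⧸ p)) ^ 3)
  let t : B := AdjoinRoot.root _
  have h20 : (2 : B) = 0 := by
    rw [← map_ofNat (algebraMap R B) 2, IsScalarTower.algebraMap_apply R (R ⧸ p) B,
      Ideal.Quotient.algebraMap_eq, Ideal.Quotient.eq_zero_iff_mem.2 hp2, map_zero]
  have ht3 : t ^ 3 = 0 := by
    have h := AdjoinRoot.eval₂_root ((Polynomial.X : Polynomial (R ⧸ p)) ^ 3)
    rwa [Polynomial.eval₂_X_pow] at h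
  have ht2 : t ^ 2 ≠ 0 := by
    intro h
    rw [show t = AdjoinRoot.root _ from rfl, ← AdjoinRoot.mk_X, ← map_pow, AdjoinRoot.mk_eq_zero] at h
    haveI : Nontrivial (R ⧸ p) := Ideal.Quotient.nontrivial_iff.2 hp.ne_top
    rw [Polynomial.X_pow_dvd_iff] at h
    simpa using h 2 (by norm_num)
  let I : Ideal B := Ideal.span {t ^ 2}
  have hI : I ^ 2 = ⊥ := by
    rw [pow_two, Ideal.span_singleton_mul_span_singleton, Ideal.span_singleton_eq_bot]
    linear_combination t * ht3
  let g₀ : (B ⊗[R] (Fin n → R)) →ₗ[B] (B ⊗[R] (Fin n → R)) := (1 + t) • LinearMap.id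
  refine not_formallySmooth_eqAlg (isoEqn Q) I hI (table B g₀) (fun s ↦ ?_) (fun v hv ↦ ?_) hs.formallySmooth
  · rw [aeval_isoEqn]
    have : (QuadGrp.baseChangeForm B Q).comp g₀ = ((1 + t) * (1 + t)) • QuadGrp.baseChangeForm B Q := by
      refine QuadraticMap.ext fun w ↦ ?_
      simp [g₀, QuadraticMap.map_smul]
    rw [this]
    have hsm : QuadGrp.coeffs (bc (R := R) B) (LinearEquiv.refl B B) (((1 + t) * (1 + t)) • QuadGrp.baseChangeForm B Q) s =
        ((1 + t) * (1 + t)) * QuadGrp.coeffs (bc (R := R) B) (LinearEquiv.refl B B) (QuadGrp.baseChangeForm B Q) s := by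
      induction s using Sym2.ind with
      | _ i j =>
        simp only [QuadGrp.coeffs_mk, LinearEquiv.refl_apply, polar, _root_.smul_apply, smul_eq_mul]
        split_ifs <;> ring
    rw [hsm, Ideal.mem_span_singleton]
    exact ⟨QuadGrp.coeffs (bc (R := R) B) (LinearEquiv.refl B B) (QuadGrp.baseChangeForm B Q) s, by linear_combination (t * QuadGrp.coeffs (bc (R := R) B) (LinearEquiv.refl B B) (QuadGrp.baseChangeForm B Q) s) * h20⟩
  · by_contra hcon
    push Not at hcon
    let g := Matrix.toLin (bc (R := R) B) (bc (R := R) B) (Matrix.of fun i j ↦ v (i, j))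
    have hsq := det_isometry_sq B hQ g (isometry_of_table B Q g fun s ↦ by rw [table_toLin (R := R)]; exact hcon s)
    have hgg : ∀ w, g w - g₀ w ∈ I • (⊤ : Submodule B (B ⊗[R] (Fin n → R))) := by
      intro w
      have hgm : g - g₀ = Matrix.toLin (bc (R := R) B) (bc (R := R) B)
          ((Matrix.of fun i j ↦ v (i, j)) - LinearMap.toMatrix (bc (R := R) B) (bc (R := R) B) g₀) := by
        rw [map_sub, Matrix.toLin_toMatrix]
      rw [← LinearMap.sub_apply, hgm]
      exact toLin_mem_smul (bc (R := R) B) (fun i j ↦ by rw [Matrix.sub_apply, Matrix.of_apply]; exact hv (i, j)) w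
    haveI : Nontrivial B := ⟨⟨t ^ 2, 0, ht2⟩⟩
    obtain ⟨c, hc⟩ := Ideal.mem_span_singleton.1 (det_sub_mem (bc (R := R) B) hgg)
    have hd0 : LinearMap.det g₀ = (1 + t) ^ n := by
      rw [LinearMap.det_smul, LinearMap.det_id, _root_.mul_one, Module.finrank_eq_card_basis (bc (R := R) B), Fintype.card_fin]
    rw [hd0, sub_eq_iff_eq_add] at hc
    obtain ⟨m, rfl⟩ := hn
    have hpow : ((1 + t) ^ (2 * m + 1)) ^ 2 = 1 + t ^ 2 := by
      rw [pow_right_comm, show (1 + t) ^ 2 = 1 + t ^ 2 by linear_combination t * h20, pow_succ, pow_mul,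
        show (1 + t ^ 2) ^ 2 = 1 by linear_combination (t ^ 2) * h20 + t * ht3, one_pow, _root_.one_mul]
    rw [hc] at hsq
    refine ht2 ?_
    linear_combination hsq - hpow - ((1 + t) ^ (2 * m + 1) * t ^ 2 * c) * h20 - c ^ 2 * t * ht3

end Groth.Agent.QuadH13
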