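import Groth.Agent.Lib.QuadH13.CliffMap
import Groth.Agent.Lib.QuadH13.OrthScheme
import Mathlib.LinearAlgebra.ExteriorAlgebra.OfAlternating
import Mathlib.RingTheory.Smooth.Flat
import Mathlib.RingTheory.Flat.Localization
import Mathlib.RingTheory.Localization.AtPrime.Basic

/-!
The determinant of an isometry of a regular form of even rank and the parity of a Clifford lift.
-/

universe u v

open QuadraticMap CliffordAlgebra

namespace Groth.Agent.QuadH13

set_option backward.isDefEq.respectTransparency.types false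

/-- The sign of a parity. -/
def sgn (R : Type*) [CommRing R] (p : ZMod 2) : R := if p = 0 then 1 else -1

theorem map_sgn {R S : Type*} [CommRing R] [CommRing S] (φ : R →+* S) (p : ZMod 2) : φ (sgn R p) = sgn S p := by
  unfold sgn; split_ifs <;> simp

variable {R : Type u} [CommRing R] {n : ℕ} {M : Type v} [AddCommGroup M] [Module R M]
variable {Q : QuadraticForm R M}

theorem sgn_comm_of_anticomm {ω : CliffordAlgebra Q} (hω : ∀ v, ι Q v * ω = -(ω * ι Q v)) {p : ZMod 2}
    {x : CliffordAlgebra Q} (hx : x ∈ evenOdd Q p) : x * ω = sgn R p • (ω * x) := by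
  have step : ∀ (m₁ m₂ : M), ι Q m₁ * ι Q m₂ * ω = ω * (ι Q m₁ * ι Q m₂) := fun m₁ m₂ ↦ by
    rw [mul_assoc, hω, mul_neg, ← mul_assoc, hω, neg_mul, neg_neg, mul_assoc]
  rcases (show ∀ i : ZMod 2, i = 0 ∨ i = 1 by decide) p with rfl | rfl
  · rw [sgn, if_pos rfl, one_smul]
    induction x, hx using CliffordAlgebra.even_induction with
    | algebraMap r => exact Algebra.commutes r ω
    | add a c _ _ ha hc => rw [add_mul, ha, hc, mul_add]
    | ι_mul_ι_mul m₁ m₂ y hy ih => rw [mul_assoc _ y, ih, ← mul_assoc, step, mul_assoc]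
  · rw [sgn, if_neg (by decide), neg_smul, one_smul]
    induction x, hx using CliffordAlgebra.odd_induction with
    | ι v => exact hω v
    | add a c _ _ ha hc => rw [add_mul, ha, hc, mul_add, neg_add]
    | ι_mul_ι_mul m₁ m₂ y hy ih => rw [mul_assoc _ y, ih, mul_neg, ← mul_assoc, step, mul_assoc]

/-- With `2` invertible the determinant is the parity of a lift. -/
theorem det_of_two (b : Module.Basis (Fin n) R M) (hn : Even n) (h2 : IsUnit (2 : R)) (g : M →ₗ[R] M)
    (hg : ∀ v, Q (g v) = Q v) (u : (CliffordAlgebra Q)ˣ) {p : ZMod 2} (hu : (u : CliffordAlgebra Q) ∈ evenOdd Q p)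
    (hc : ∀ v, (u : CliffordAlgebra Q) * ι Q v = ι Q (g v) * u) : LinearMap.det g = sgn R p := by
  obtain ⟨t, ht⟩ := h2.exists_right_inv
  let T : LinearMap.BilinForm R M := -(t • polarBilin Q)
  have hT : T.toQuadraticMap = (0 : QuadraticForm R M) - Q := by
    ext m
    simp only [T, LinearMap.BilinMap.toQuadraticMap_apply, LinearMap.neg_apply, LinearMap.smul_apply,
      polarBilin_apply_apply, polar_self, smul_eq_mul, nsmul_eq_mul, Nat.cast_ofNat, _root_.sub_apply,
      _root_.zero_apply, _root_.neg_apply, zero_sub]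
    linear_combination (-(Q m)) * ht
  let Ψ := changeFormEquiv hT
  let gQ : Q →qᵢ Q := { g with map_app' := hg }
  let g0 : (0 : QuadraticForm R M) →qᵢ (0 : QuadraticForm R M) := { g with map_app' := fun m ↦ by simp }
  have hEd : ∀ (d : Module.Dual R M) (x : CliffordAlgebra (0 : QuadraticForm R M)),
      contractLeft d (CliffordAlgebra.map g0 x) = CliffordAlgebra.map g0 (contractLeft (d ∘ₗ g) x) := by
    intro d x
    induction x using CliffordAlgebra.left_induction with
    | algebraMap r => rw [AlgHom.commutes, contractLeft_algebraMap, contractLeft_algebraMap, map_zero]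
    | add a c ha hc => simp only [map_add, ha, hc]
    | ι_mul y m hy =>
      rw [map_mul, map_apply_ι, contractLeft_ι_mul, contractLeft_ι_mul, hy, map_sub, map_smul, map_mul, map_apply_ι]
      rfl
  have hE : ∀ x, Ψ (CliffordAlgebra.map gQ x) = CliffordAlgebra.map g0 (Ψ x) := by
    intro x
    induction x using CliffordAlgebra.left_induction with
    | algebraMap r =>
      rw [AlgHom.commutes]
      change changeForm hT _ = CliffordAlgebra.map g0 (changeForm hT _)
      rw [changeForm_algebraMap, AlgHom.commutes]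
    | add a c ha hc => simp only [map_add, ha, hc]
    | ι_mul y m hy =>
      rw [map_mul, map_apply_ι]
      change changeForm hT (ι Q (g m) * _) = CliffordAlgebra.map g0 (changeForm hT (ι Q m * y))
      rw [changeForm_ι_mul, changeForm_ι_mul, map_sub, map_mul, map_apply_ι]
      change _ - contractLeft (T (g m)) (Ψ _) = _
      change ι 0 (g m) * Ψ _ - _ = _
      rw [hy, hEd, show T (g m) ∘ₗ g = T m from LinearMap.ext fun y ↦ by
        simp [T, polar_map hg]]
      rfl
  let top : CliffordAlgebra (0 : QuadraticForm R M) := ExteriorAlgebra.ιMulti R n b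
  have halt : (ExteriorAlgebra.ιMulti R n : M [⋀^Fin n]→ₗ[R] ExteriorAlgebra R M) =
      (LinearMap.toSpanSingleton R (ExteriorAlgebra R M) top).compAlternatingMap b.det := by
    refine b.ext_alternating fun v hv ↦ ?_
    let σ : Equiv.Perm (Fin n) := Equiv.ofBijective v (Finite.injective_iff_bijective.1 hv)
    change _ = (b.det (b ∘ σ)) • top
    rw [AlternatingMap.map_perm b.det, show (fun i ↦ b (v i)) = b ∘ σ from rfl,
      AlternatingMap.map_perm (ExteriorAlgebra.ιMulti R n), b.det_self, smul_assoc, one_smul]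
  have hEtop : CliffordAlgebra.map g0 top = LinearMap.det g • top := by
    change CliffordAlgebra.map g0 (ExteriorAlgebra.ιMulti R n b) = _
    rw [ExteriorAlgebra.ιMulti_apply, map_list_prod, List.map_ofFn]
    have h := congrArg (fun f : M [⋀^Fin n]→ₗ[R] ExteriorAlgebra R M ↦ f (g ∘ b)) halt
    simp only [LinearMap.compAlternatingMap_apply, LinearMap.toSpanSingleton_apply, Module.Basis.det_comp, b.det_self,
      mul_one] at h
    rw [← h, ExteriorAlgebra.ιMulti_apply]
    congr 2
    funext i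
    exact map_apply_ι g0 (b i)
  have hιtop : ∀ v, ι (0 : QuadraticForm R M) v * top = 0 := by
    intro v
    rw [← b.sum_repr v, map_sum, Finset.sum_mul]
    refine Finset.sum_eq_zero fun j _ ↦ ?_
    rw [map_smul, smul_mul_assoc]
    have : ExteriorAlgebra.ιMulti R (n + 1) (Matrix.vecCons (b j) b) = 0 :=
      AlternatingMap.map_eq_zero_of_eq _ _ (i := 0) (j := j.succ) (by simp) (Fin.succ_ne_zero j).symm
    rw [ExteriorAlgebra.ιMulti_succ_apply, Matrix.cons_val_zero, Matrix.tail_cons] at this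
    exact smul_eq_zero_of_right _ this
  have htop : top ∈ evenOdd (0 : QuadraticForm R M) 0 := by
    have := SetLike.list_prod_ofFn_mem_graded (A := evenOdd (0 : QuadraticForm R M)) (fun _ : Fin n ↦ (1 : ZMod 2))
      (fun i ↦ ι (0 : QuadraticForm R M) (b i)) (fun i ↦ ι_mem_evenOdd_one _ _)
    rw [List.sum_ofFn, Finset.sum_const, Finset.card_univ, Fintype.card_fin, nsmul_eq_mul, mul_one,
      (ZMod.natCast_eq_zero_iff_even).2 hn] at this
    exact this
  have htop0 : ∀ r : R, r • top = 0 → r = 0 := fun r hr ↦ by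
    have := congrArg (ExteriorAlgebra.liftAlternating (R := R) (M := M) (N := R) (Pi.single n b.det)) hr
    rw [map_smul, map_zero] at this
    change r • ExteriorAlgebra.liftAlternating (Pi.single n b.det) (ExteriorAlgebra.ιMulti R n b) = 0 at this
    rw [ExteriorAlgebra.liftAlternating_apply_ιMulti, Pi.single_eq_same, b.det_self, smul_eq_mul, mul_one] at this
    exact this
  let ω := Ψ.symm top
  have hω0 : ω ∈ evenOdd Q 0 := by
    change changeForm (changeForm.neg_proof hT) top ∈ _
    exact changeForm_mem _ htop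
  have hωΨ : Ψ ω = top := Ψ.apply_symm_apply top
  have hωv : ∀ v, ι Q v * ω = -(ω * ι Q v) := by
    intro v
    have hd := polar_contract (Q := Q) v ω
    rw [involute_eq_of_mem_even hω0] at hd
    rw [show ω * ι Q v = ι Q v * ω - contractLeft (polarBilin Q v) ω by rw [hd]; abel, neg_sub]
    rw [eq_sub_iff_add_eq, ← two_smul R]
    refine Ψ.injective ?_
    rw [map_smul]
    change (2 : R) • changeForm hT (ι Q v * ω) = changeForm hT (contractLeft (polarBilin Q v) ω)
    rw [changeForm_ι_mul, changeForm_contractLeft]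
    change (2 : R) • (ι 0 v * Ψ ω - contractLeft (T v) (Ψ ω)) = contractLeft (polarBilin Q v) (Ψ ω)
    rw [hωΨ, hιtop, zero_sub]
    simp only [T, LinearMap.neg_apply, LinearMap.smul_apply, map_neg, map_smul, neg_neg, smul_smul, ht, one_smul]
  have hGω : CliffordAlgebra.map gQ ω = LinearMap.det g • ω :=
    Ψ.injective (by rw [hE, hωΨ, hEtop, map_smul, hωΨ])
  have hG : ∀ x, CliffordAlgebra.map gQ x * u = (u : CliffordAlgebra Q) * x := by
    intro x
    induction x using CliffordAlgebra.induction with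
    | algebraMap r => rw [AlgHom.commutes, Algebra.commutes]
    | ι v => rw [map_apply_ι, hc]; rfl
    | mul x y hx hy => rw [map_mul, mul_assoc, hy, ← mul_assoc, hx, mul_assoc]
    | add x y hx hy => rw [map_add, add_mul, hx, hy, mul_add]
  have h := hG ω
  rw [hGω, sgn_comm_of_anticomm hωv hu, smul_mul_assoc, ← sub_eq_zero, ← sub_smul, ← smul_mul_assoc] at h
  refine sub_eq_zero.1 (htop0 _ ?_)
  rw [← hωΨ, ← map_smul, u.isUnit.mul_left_eq_zero.1 h, map_zero]

theorem isUnit_det_polarMat (b : Module.Basis (Fin n) R M) (hQ : QuadGrp.IsRegular Q) : IsUnit (polarMat b Q).det := by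
  obtain ⟨w, hw, _⟩ := exists_coord_dual b hQ
  refine Matrix.isUnit_det_of_left_inverse (B := Matrix.of fun i k ↦ b.repr (w i) k) ?_
  ext i j
  rw [Matrix.mul_apply, Matrix.one_apply]
  simp only [polarMat_apply, Matrix.of_apply]
  have h := LinearMap.congr_fun (hw i) (b j)
  rw [polarBilin_apply_apply, Module.Basis.coord_apply, Module.Basis.repr_self, Finsupp.single_apply] at h
  rw [← show polar Q (w i) (b j) = ∑ k, b.repr (w i) k * polar Q (b k) (b j) by
    rw [← polarBilin_apply_apply]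
    conv_lhs => rw [← b.sum_repr (w i)]
    rw [LinearMap.map_sum₂]
    exact Finset.sum_congr rfl fun k _ ↦ by rw [LinearMap.map_smul₂, polarBilin_apply_apply, smul_eq_mul], h]
  simp [eq_comm]

theorem isRegular_of_isUnit_det (b : Module.Basis (Fin n) R M) (hP : IsUnit (polarMat b Q).det) :
    QuadGrp.IsRegular Q := by
  have hkey : ∀ x j, Matrix.vecMul (b.repr x) (polarMat b Q) j = polar Q x (b j) := by
    intro x j
    simp only [Matrix.vecMul, dotProduct, polarMat_apply]
    rw [← polarBilin_apply_apply]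
    conv_rhs => rw [← b.sum_repr x]
    rw [LinearMap.map_sum₂]
    exact Finset.sum_congr rfl fun k _ ↦ by rw [LinearMap.map_smul₂, polarBilin_apply_apply, smul_eq_mul]
  constructor
  · refine (injective_iff_map_eq_zero _).2 fun x hx ↦ b.repr.injective (Finsupp.ext fun k ↦ ?_)
    have h0 : Matrix.vecMul (b.repr x) (polarMat b Q) = 0 := funext fun j ↦ by
      rw [hkey, ← polarBilin_apply_apply, hx]; rfl
    have := congrArg (fun y ↦ Matrix.vecMul y (polarMat b Q)⁻¹) h0
    simp only [Matrix.vecMul_vecMul, Matrix.mul_nonsing_inv _ hP, Matrix.vecMul_one, Matrix.zero_vecMul] at this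
    rw [map_zero]; exact congrFun this k
  · intro d
    refine ⟨b.equivFun.symm (Matrix.vecMul (fun j ↦ d (b j)) (polarMat b Q)⁻¹), b.ext fun j ↦ ?_⟩
    rw [polarBilin_apply_apply, ← hkey, show ⇑(b.repr (b.equivFun.symm _)) = _ from b.equivFun.apply_symm_apply _,
      Matrix.vecMul_vecMul, Matrix.nonsing_inv_mul _ hP, Matrix.vecMul_one]

section Push

variable {A : Type*} [CommRing A] [Algebra R A] {V : Type*} [AddCommGroup V] [Module A V] [Module R V]
  [IsScalarTower R A V] {Q' : QuadraticForm A V} (f : M →ₗ[R] V) (hf : ∀ m, Q' (f m) = algebraMap R A (Q m))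
  (b : Module.Basis (Fin n) R M) (b' : Module.Basis (Fin n) A V) (hb : ∀ i, b' i = f (b i))

include hf b b' hb in
theorem isRegular_push (hQ : QuadGrp.IsRegular Q) : QuadGrp.IsRegular Q' := by
  refine isRegular_of_isUnit_det b' ?_
  have : polarMat b' Q' = (algebraMap R A).mapMatrix (polarMat b Q) := by
    ext i j
    rw [RingHom.mapMatrix_apply, Matrix.map_apply, polarMat_apply, polarMat_apply, hb, hb, polar, polar, ← map_add f,
      hf, hf, hf, map_sub, map_sub]
  rw [this, ← RingHom.map_det]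
  exact (isUnit_det_polarMat b hQ).map _

variable {g : M →ₗ[R] M} {g' : V →ₗ[A] V} (hfg : ∀ i, g' (b' i) = f (g (b i)))

include hb hfg in
theorem comm_push (m : M) : g' (f m) = f (g m) := by
  conv_lhs => rw [← b.sum_repr m]
  conv_rhs => rw [← b.sum_repr m]
  simp only [map_sum, map_smul, ← hb, LinearMap.map_smul_of_tower, hfg]

include hf hb hfg in
theorem isometry_push (hg : ∀ v, Q (g v) = Q v) : ∀ v, Q' (g' v) = Q' v := by
  have : Q'.comp g' = Q' := by
    refine ext_of_coeffs b' (funext fun s ↦ ?_)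
    induction s using Sym2.ind with
    | _ i j =>
      simp only [QuadGrp.coeffs_mk, LinearEquiv.refl_apply, polar, QuadraticMap.comp_apply, map_add, hfg]
      simp only [← map_add f, hb, hf, hg, ← map_add g]
  exact fun v ↦ QuadraticMap.congr_fun this v

include hb hfg in
theorem det_push : LinearMap.det g' = algebraMap R A (LinearMap.det g) := by
  rw [← LinearMap.det_toMatrix b' g', ← LinearMap.det_toMatrix b g, RingHom.map_det]
  congr 1
  ext i j
  rw [RingHom.mapMatrix_apply, Matrix.map_apply, LinearMap.toMatrix_apply, LinearMap.toMatrix_apply, hfg,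
    repr_cliff f b b' hb]

include hb hfg in
theorem conj_push (x : CliffordAlgebra Q) (hx : ∀ v, x * ι Q v = ι Q (g v) * x) (v : V) :
    cliffMap Q Q' f hf x * ι Q' v = ι Q' (g' v) * cliffMap Q Q' f hf x := by
  rw [← b'.sum_repr v]
  simp only [map_sum, map_smul, Finset.mul_sum, Finset.sum_mul, mul_smul_comm, smul_mul_assoc]
  refine Finset.sum_congr rfl fun i _ ↦ ?_
  rw [hfg, hb, ← cliffMap_ι Q Q' f hf, ← cliffMap_ι Q Q' f hf, ← map_mul, ← map_mul, hx]

end Push

/-- When `2` is a non-zero-divisor the determinant is the parity of a lift. -/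
theorem det_of_regular_two {R : Type u} [CommRing R] {Q : QuadraticForm R (Fin n → R)} (hn : Even n)
    (h2 : IsSMulRegular R (2 : R)) (g : (Fin n → R) →ₗ[R] (Fin n → R)) (hg : ∀ v, Q (g v) = Q v)
    (u : (CliffordAlgebra Q)ˣ) {p : ZMod 2} (hu : (u : CliffordAlgebra Q) ∈ evenOdd Q p)
    (hc : ∀ v, (u : CliffordAlgebra Q) * ι Q v = ι Q (g v) * u) : LinearMap.det g = sgn R p := by
  let A := Localization.Away (2 : R)
  let b := Pi.basisFun R (Fin n)
  let b' := b.baseChange A
  let f : (Fin n → R) →ₗ[R] TensorProduct R A (Fin n → R) := TensorProduct.mk R A (Fin n → R) 1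
  have hf : ∀ m, QuadGrp.baseChangeForm A Q (f m) = algebraMap R A (Q m) := baseChangeForm_one_tmul A Q
  have hb : ∀ i, b' i = f (b i) := fun i ↦ Module.Basis.baseChange_apply ..
  have hfg : ∀ i, (g.baseChange A) (b' i) = f (g (b i)) := fun i ↦ by rw [hb]; exact LinearMap.baseChange_tmul ..
  have h := det_of_two b' hn (by simpa [map_ofNat] using IsLocalization.Away.algebraMap_isUnit (S := A) (2 : R))
    (g.baseChange A) (isometry_push f hf b b' hb hfg hg) (Units.map (cliffMap Q (QuadGrp.baseChangeForm A Q) f hf).toRingHom.toMonoidHom u)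
    (cliffMap_mem Q _ f hf hu) (conj_push f hf b b' hb hfg _ hc)
  rw [det_push f b b' hb hfg, ← map_sgn (algebraMap R A)] at h
  refine IsLocalization.injective A (M := Submonoid.powers (2 : R)) (fun x hx ↦ ?_) h
  obtain ⟨k, rfl⟩ := hx
  exact pow_mem (mem_nonZeroDivisors_iff_right.2 fun z hz ↦ h2 (by simpa [mul_comm] using hz)) k

theorem hom_isoEqn {B : Type*} [CommRing B] (QB : QuadraticForm B (Fin n → B))
    (φ : MvPolynomial (Fin n × Fin n) B →+* R) (b : Module.Basis (Fin n) R M) (g : M →ₗ[R] M)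
    (hφC : φ ∘ (MvPolynomial.C ∘ QuadGrp.coeffs (Pi.basisFun B (Fin n)) (LinearEquiv.refl B B) QB) =
      QuadGrp.coeffs b (LinearEquiv.refl R R) Q)
    (hφX : ∀ k l, φ (MvPolynomial.X (k, l)) = LinearMap.toMatrix b b g k l) (s : Sym2 (Fin n)) :
    φ (isoEqn QB s) = QuadGrp.coeffs b (LinearEquiv.refl R R) (Q.comp g) s -
      QuadGrp.coeffs b (LinearEquiv.refl R R) Q s := by
  induction s using Sym2.ind with
  | _ i j =>
    simp only [isoEqn, Sym2.lift_mk, map_sub, apply_ite φ]
    rw [coeffs_comp_eq]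
    have hX : ∀ l, φ ∘ (fun k ↦ MvPolynomial.X (k, l)) = fun k ↦ LinearMap.toMatrix b b g k l :=
      fun l ↦ funext fun k ↦ hφX k l
    have hX2 : φ ∘ ((fun k ↦ MvPolynomial.X (k, i)) + fun k ↦ MvPolynomial.X (k, j)) =
        (fun k ↦ LinearMap.toMatrix b b g k i) + fun k ↦ LinearMap.toMatrix b b g k j := by
      rw [← hX, ← hX]; exact funext fun k ↦ map_add φ _ _
    rw [map_triSum, map_triSum, map_triSum, hφC, hX, hX, hX2]
    congr 1
    exact congrFun hφC s(i, j)

theorem map_discUniv {S : Type*} [CommRing S] (φ : MvPolynomial (Sym2 (Fin n)) ℤ →+* S) (b : Module.Basis (Fin n) R M)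
    (ψ : R →+* S) (h : ∀ s, φ (MvPolynomial.X s) = ψ (QuadGrp.coeffs b (LinearEquiv.refl R R) Q s)) :
    φ (QuadGrp.discUniv n) = ψ (polarMat b Q).det := by
  rw [QuadGrp.discUniv, RingHom.map_det, RingHom.map_det]
  congr 1
  ext i j
  simp only [RingHom.mapMatrix_apply, Matrix.map_apply, QuadGrp.univPolarMat, Matrix.of_apply, polarMat_eq_coeffs,
    apply_ite φ, apply_ite ψ, map_mul, map_ofNat, h]

theorem det_of_model {B A : Type*} [CommRing B] [CommRing A] [IsLocalRing A] [IsLocalRing R]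
    (QB : QuadraticForm B (Fin n → B)) (hPB : IsUnit (polarMat (Pi.basisFun B (Fin n)) QB).det)
    (π : MvPolynomial (Fin n × Fin n) B →+* A) (hπ : ∀ s, π (isoEqn QB s) = 0)
    (h2A : IsSMulRegular A (2 : A)) (φA : A →+* R)
    (b : Module.Basis (Fin n) R M) (hn : Even n) (hQ : QuadGrp.IsRegular Q)
    (g : M ≃ₗ[R] M) (hg : g ∈ QuadGrp.O Q) (u : (CliffordAlgebra Q)ˣ) {p : ZMod 2}
    (hu : (u : CliffordAlgebra Q) ∈ evenOdd Q p) (hc : ∀ v, (u : CliffordAlgebra Q) * ι Q v = ι Q (g v) * u)
    (hC : ∀ s, φA (π (MvPolynomial.C (QuadGrp.coeffs (Pi.basisFun B (Fin n)) (LinearEquiv.refl B B) QB s))) =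
      QuadGrp.coeffs b (LinearEquiv.refl R R) Q s)
    (hX : ∀ k l, φA (π (MvPolynomial.X (k, l))) = LinearMap.toMatrix b b (g : M →ₗ[R] M) k l) :
    LinearMap.det (g : M →ₗ[R] M) = sgn R p := by
  let cA := π ∘ (MvPolynomial.C ∘ QuadGrp.coeffs (Pi.basisFun B (Fin n)) (LinearEquiv.refl B B) QB)
  let QA := ofCoeffs cA
  let gA : (Fin n → A) →ₗ[A] (Fin n → A) :=
    Matrix.toLin (Pi.basisFun A (Fin n)) (Pi.basisFun A (Fin n)) (Matrix.of fun k l ↦ π (MvPolynomial.X (k, l)))
  have hgA : ∀ v, QA (gA v) = QA v := by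
    refine fun v ↦ QuadraticMap.congr_fun (ext_of_coeffs (V := Fin n → A) (Pi.basisFun A (Fin n)) (funext fun s ↦ ?_) : QA.comp gA = QA) v
    rw [← sub_eq_zero, ← hom_isoEqn (M := Fin n → A) (Q := QA) QB π (Pi.basisFun A (Fin n)) gA (coeffs_ofCoeffs cA).symm
      (fun k l ↦ by simp only [gA, LinearMap.toMatrix_toLin, Matrix.of_apply])]
    exact hπ s
  have hPA : IsUnit (polarMat (M := Fin n → A) (Pi.basisFun A (Fin n)) QA).det := by
    convert hPB.map (π.comp MvPolynomial.C)
    rw [RingHom.map_det]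
    congr 1
    ext i j
    rw [RingHom.mapMatrix_apply, Matrix.map_apply, polarMat_eq_coeffs, polarMat_eq_coeffs, coeffs_ofCoeffs]
    split_ifs
    · rw [map_mul, map_ofNat]; rfl
    · rfl
  let gA' := LinearMap.equivOfIsUnitDet
    (IsUnit.of_mul_eq_one _ (det_sq_of_isUnit QA (Pi.basisFun A (Fin n)) hPA gA hgA))
  have hgA' : ∀ v, gA' v = gA v := fun v ↦ LinearMap.equivOfIsUnitDet_apply ..
  obtain ⟨p', u', hu', hc'⟩ := exists_conj (Pi.basisFun A (Fin n)) hn (isRegular_of_isUnit_det _ hPA) gA'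
    (fun v ↦ by rw [hgA']; exact hgA v)
  have hdet : LinearMap.det gA = sgn A p' :=
    det_of_regular_two hn h2A gA hgA u' hu' fun v ↦ by rw [← hgA']; exact hc' v
  letI := φA.toAlgebra
  letI : Module A M := Module.compHom M φA
  haveI : IsScalarTower A R M := IsScalarTower.of_algebraMap_smul fun _ _ ↦ rfl
  let f : (Fin n → A) →ₗ[A] M := (Pi.basisFun A (Fin n)).constr A b
  have hb : ∀ i, b i = f (Pi.basisFun A (Fin n) i) := fun i ↦ ((Pi.basisFun A (Fin n)).constr_basis A b i).symm
  have hfr : ∀ v : Fin n → A, f v = ∑ i, φA (v i) • b i := fun v ↦ by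
    simp only [f, Module.Basis.constr_apply_fintype, Pi.basisFun_equivFun, LinearEquiv.refl_apply]
    rfl
  have hf : ∀ v, Q (f v) = algebraMap A R (QA v) := by
    intro v
    rw [hfr, apply_eq_triSum b Q]
    conv_rhs => rw [show v = ∑ i, v i • Pi.basisFun A (Fin n) i by
      conv_lhs => rw [← (Pi.basisFun A (Fin n)).sum_repr v]
      simp]
    rw [apply_eq_triSum (Pi.basisFun A (Fin n)) QA, map_triSum, coeffs_ofCoeffs]
    congr 1
    · funext s
      rw [← hC]
      rfl
  have hfg : ∀ i, (g : M →ₗ[R] M) (b i) = f (gA (Pi.basisFun A (Fin n) i)) := by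
    intro i
    simp only [gA, Matrix.toLin_self, map_sum, map_smul, ← hb]
    conv_lhs => rw [← b.sum_repr ((g : M →ₗ[R] M) (b i))]
    refine Finset.sum_congr rfl fun k _ ↦ ?_
    change _ = φA (π (MvPolynomial.X (k, i))) • b k
    rw [hX, LinearMap.toMatrix_apply]
  have hd := det_push f (Pi.basisFun A (Fin n)) b hb hfg
  rw [hdet, map_sgn] at hd
  have h1 := isDicksonTrivial_iff b hn hQ g hg p u hu hc
  have h2 := isDicksonTrivial_iff b hn hQ g hg p' (Units.map (cliffMap QA Q f hf).toRingHom.toMonoidHom u') (cliffMap_mem QA Q f hf hu')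
    (conj_push f hf (Pi.basisFun A (Fin n)) b hb hfg _ fun v ↦ by rw [← hgA']; exact hc' v)
  rw [hd, sgn, sgn]
  exact if_congr (h2.symm.trans h1) rfl rfl


/-- Over a local ring the determinant is the parity of a lift. -/
theorem det_of_isLocalRing [IsLocalRing R] (b : Module.Basis (Fin n) R M) (hn : Even n) (hQ : QuadGrp.IsRegular Q)
    (g : M ≃ₗ[R] M) (hg : g ∈ QuadGrp.O Q) (u : (CliffordAlgebra Q)ˣ) {p : ZMod 2}
    (hu : (u : CliffordAlgebra Q) ∈ evenOdd Q p) (hc : ∀ v, (u : CliffordAlgebra Q) * ι Q v = ι Q (g v) * u) :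
    LinearMap.det (g : M →ₗ[R] M) = sgn R p := by
  classical
  let φ : MvPolynomial (Sym2 (Fin n)) ℤ →+* R :=
    MvPolynomial.eval₂Hom (Int.castRingHom R) (QuadGrp.coeffs b (LinearEquiv.refl R R) Q)
  have hφd : φ (QuadGrp.discUniv n) = (polarMat b Q).det :=
    map_discUniv φ b (RingHom.id R) fun s ↦ MvPolynomial.eval₂Hom_X' ..
  have hdu : IsUnit (φ (QuadGrp.discUniv n)) := hφd ▸ isUnit_det_polarMat b hQ
  let B := Localization.Away (QuadGrp.discUniv n)
  let φB : B →+* R := IsLocalization.Away.lift (QuadGrp.discUniv n) hdu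
  let QB := ofCoeffs fun s ↦ algebraMap (MvPolynomial (Sym2 (Fin n)) ℤ) B (MvPolynomial.X s)
  have hcB : ∀ s, φB (QuadGrp.coeffs (Pi.basisFun B (Fin n)) (LinearEquiv.refl B B) QB s) =
      QuadGrp.coeffs b (LinearEquiv.refl R R) Q s := fun s ↦ by
    rw [coeffs_ofCoeffs, IsLocalization.Away.lift_eq]; exact MvPolynomial.eval₂Hom_X' ..
  have hPB : IsUnit (polarMat (Pi.basisFun B (Fin n)) QB).det := by
    rw [← RingHom.id_apply (polarMat (Pi.basisFun B (Fin n)) QB).det,
      ← map_discUniv (algebraMap _ B) (Pi.basisFun B (Fin n)) (RingHom.id B) fun s ↦ by rw [coeffs_ofCoeffs]; rfl]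
    exact IsLocalization.Away.algebraMap_isUnit _
  have hQB : QuadGrp.IsNondeg (Pi.basisFun B (Fin n)) (LinearEquiv.refl B B) QB :=
    ⟨fun _ ↦ isRegular_of_isUnit_det _ hPB, fun ho ↦ absurd hn (Nat.not_even_iff_odd.2 ho)⟩
  haveI hsm : Algebra.Smooth B (eqAlg (isoEqn QB)) := by
    refine smooth_eqAlg (isoEqn QB) fun A _ _ _ I hI hI2 v hv ↦ ?_
    have hI0 : ∀ x ∈ I, ∀ y ∈ I, x * y = 0 := fun x hx y hy ↦ by
      have : x * y ∈ I ^ 2 := by rw [pow_two]; exact Ideal.mul_mem_mul hx hy
      rwa [hI2, Ideal.mem_bot] at this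
    obtain ⟨g', hg', hgg⟩ := exists_lift_of_isUnit (QuadGrp.baseChangeForm A QB) (bc (R := B) A) hI0
      (isUnit_det_of_two A hQB (.inl hn))
      (Matrix.toLin (bc (R := B) A) (bc (R := B) A) (Matrix.of fun i j ↦ v (i, j)))
      (sub_mem_of_table A QB _ fun s ↦ by rw [table_toLin (R := B)]; exact hv s)
    refine ⟨fun ij ↦ table A g' ij - v ij, fun ij ↦ ?_, fun s ↦ ?_⟩
    · have := sub_mem_of_mem_smul_top (bc (R := B) A) (hgg (bc (R := B) A ij.2)) ij.1
      rw [map_sub, Finsupp.sub_apply, ← LinearMap.toMatrix_apply (bc (R := B) A) (bc (R := B) A),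
        ← LinearMap.toMatrix_apply (bc (R := B) A) (bc (R := B) A), LinearMap.toMatrix_toLin] at this
      exact this
    · rw [show v + (fun ij ↦ table A g' ij - v ij) = table A g' by funext ij; simp]
      exact table_of_isometry A QB g' hg' s
  let φ' : MvPolynomial (Fin n × Fin n) B →+* R :=
    MvPolynomial.eval₂Hom φB fun kl ↦ LinearMap.toMatrix b b (g : M →ₗ[R] M) kl.1 kl.2
  have hφ' : ∀ s, φ' (isoEqn QB s) = 0 := fun s ↦ by
    rw [hom_isoEqn (Q := Q) QB φ' b (g : M →ₗ[R] M) (funext fun s ↦ by simp [φ', hcB])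
      (fun k l ↦ MvPolynomial.eval₂Hom_X' ..), show Q.comp (g : M →ₗ[R] M) = Q from QuadraticMap.ext hg, sub_self]
  let φE : eqAlg (isoEqn QB) →+* R := Ideal.Quotient.lift _ φ' fun x hx ↦
    RingHom.mem_ker.1 (Ideal.span_le.2 (by rintro _ ⟨s, rfl⟩; exact RingHom.mem_ker.2 (hφ' s)) hx)
  let q : Ideal (eqAlg (isoEqn QB)) := (IsLocalRing.maximalIdeal R).comap φE
  let A := Localization.AtPrime q
  let φA : A →+* R := IsLocalization.lift (M := q.primeCompl) (g := φE) fun y ↦
    IsLocalRing.notMem_maximalIdeal.1 y.2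
  let π : MvPolynomial (Fin n × Fin n) B →+* A := (algebraMap (eqAlg (isoEqn QB)) A).comp (Ideal.Quotient.mk _)
  haveI : Module.Flat B A := Module.Flat.trans B (eqAlg (isoEqn QB)) A
  have h2B : IsSMulRegular B (2 : B) := by
    have hd : QuadGrp.discUniv n ≠ 0 := fun h ↦ hdu.ne_zero (by rw [h, map_zero])
    intro x y hxy
    haveI : IsDomain B := IsLocalization.isDomain_localization (powers_le_nonZeroDivisors_of_noZeroDivisors hd)
    have : (2 : B) ≠ 0 := by
      rw [← map_ofNat (algebraMap (MvPolynomial (Sym2 (Fin n)) ℤ) B) 2, Ne,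
        IsLocalization.to_map_eq_zero_iff B (powers_le_nonZeroDivisors_of_noZeroDivisors hd)]
      exact two_ne_zero
    exact mul_left_cancel₀ this hxy
  have h2A : IsSMulRegular A (2 : A) := by
    have := h2B.of_flat (S := A)
    rwa [map_ofNat] at this
  refine det_of_model (A := A) QB hPB π (fun s ↦ ?_) h2A φA b hn hQ g hg u hu hc (fun s ↦ ?_) fun k l ↦ ?_
  · change algebraMap (eqAlg (isoEqn QB)) A (Ideal.Quotient.mk (Ideal.span (Set.range (isoEqn QB))) (isoEqn QB s)) = 0
    rw [Ideal.Quotient.eq_zero_iff_mem.2 (Ideal.subset_span (Set.mem_range_self s)), map_zero]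
  · change φA (algebraMap (eqAlg (isoEqn QB)) A (Ideal.Quotient.mk (Ideal.span (Set.range (isoEqn QB))) _)) = _
    rw [IsLocalization.lift_eq]
    exact (MvPolynomial.eval₂Hom_C φB _ _).trans (hcB s)
  · change φA (algebraMap (eqAlg (isoEqn QB)) A (Ideal.Quotient.mk (Ideal.span (Set.range (isoEqn QB))) _)) = _
    rw [IsLocalization.lift_eq]
    exact MvPolynomial.eval₂Hom_X' φB _ _

end Groth.Agent.QuadH13
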