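import Groth.Agent.Lib.QuadH13.DetParity
import Mathlib.RingTheory.Spectrum.Prime.Topology

/-!
The Dickson condition and the determinant over an arbitrary base.
-/

universe u v

open QuadraticMap CliffordAlgebra

namespace Groth.Agent.QuadH13

set_option backward.isDefEq.respectTransparency.types false

variable {R : Type u} [CommRing R] {n : ℕ} {M : Type v} [AddCommGroup M] [Module R M]
variable {Q : QuadraticForm R M}

/-- The linear map `g` is conjugation by an element of parity `p` invertible where `s` is. -/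
def LiftsAt (Q : QuadraticForm R M) (g : M →ₗ[R] M) (p : ZMod 2) (s : R) : Prop :=
  ∃ x y : CliffordAlgebra Q, x ∈ evenOdd Q p ∧ (∀ v, x * ι Q v = ι Q (g v) * x) ∧
    x * y = algebraMap R _ s ∧ y * x = algebraMap R _ s

section Local

variable [Module.Free R M] (q : Ideal R) [q.IsPrime]

/-- The form over the local ring at a prime. -/
noncomputable abbrev locQ (Q : QuadraticForm R M) :
    QuadraticForm (Localization.AtPrime q) (TensorProduct R (Localization.AtPrime q) M) :=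
  QuadGrp.baseChangeForm (Localization.AtPrime q) Q

theorem loc_hf (Q : QuadraticForm R M) (m : M) :
    locQ q Q (TensorProduct.mk R (Localization.AtPrime q) M 1 m) = algebraMap R (Localization.AtPrime q) (Q m) :=
  baseChangeForm_one_tmul (Localization.AtPrime q) Q m

/-- The map to the Clifford algebra at a prime. -/
noncomputable abbrev locMap (Q : QuadraticForm R M) : CliffordAlgebra Q →ₐ[R] CliffordAlgebra (locQ q Q) :=
  cliffMap Q (locQ q Q) (TensorProduct.mk R (Localization.AtPrime q) M 1) (loc_hf q Q)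

variable (b : Module.Basis (Fin n) R M)

theorem loc_hb (i : Fin n) :
    b.baseChange (Localization.AtPrime q) i = TensorProduct.mk R (Localization.AtPrime q) M 1 (b i) :=
  Module.Basis.baseChange_apply ..

include b in
theorem exists_smul_eq_zero_of_loc {x : CliffordAlgebra Q} (hx : locMap q Q x = 0) : ∃ s, s ∉ q ∧ s • x = 0 := by
  obtain ⟨s, hs, h⟩ := exists_smul_eq_zero_of_cliffMap Q (locQ q Q) _ _ b (b.baseChange _) (loc_hb q b) q.primeCompl
    (fun r hr ↦ by
      obtain ⟨m, hm⟩ := (IsLocalization.map_eq_zero_iff q.primeCompl (Localization.AtPrime q) r).1 hr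
      exact ⟨m, m.2, hm⟩) hx
  exact ⟨s, hs, h⟩

include b in
theorem exists_loc_eq_smul (y : CliffordAlgebra (locQ q Q)) : ∃ x s, s ∉ q ∧ locMap q Q x = s • y := by
  obtain ⟨x, s, hs, h⟩ := exists_cliffMap_eq_smul Q (locQ q Q) _ _ b (b.baseChange _) (loc_hb q b) q.primeCompl
    (fun a ↦ by
      obtain ⟨⟨r, m⟩, h⟩ := IsLocalization.surj q.primeCompl a
      exact ⟨r, m, m.2, by rw [mul_comm]; exact h⟩) y
  exact ⟨x, s, hs, h⟩

include b in
theorem isUnit_loc {s : R} (hs : s ∉ q) : IsUnit (algebraMap R (CliffordAlgebra (locQ q Q)) s) := by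
  rw [IsScalarTower.algebraMap_apply R (Localization.AtPrime q)]
  exact (IsLocalization.map_units (Localization.AtPrime q) (⟨s, hs⟩ : q.primeCompl)).map _

/-- The base change of an automorphism. -/
noncomputable abbrev locEquiv (g : M ≃ₗ[R] M) :
    TensorProduct R (Localization.AtPrime q) M ≃ₗ[Localization.AtPrime q] TensorProduct R (Localization.AtPrime q) M :=
  LinearEquiv.baseChange R (Localization.AtPrime q) M M g

include b in
theorem loc_hfg (g : M ≃ₗ[R] M) (i : Fin n) :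
    (locEquiv q g).toLinearMap (b.baseChange (Localization.AtPrime q) i) =
      TensorProduct.mk R (Localization.AtPrime q) M 1 ((g : M →ₗ[R] M) (b i)) := by
  rw [loc_hb q b i]; rfl

include b in
theorem loc_mem_O {g : M ≃ₗ[R] M} (hg : g ∈ QuadGrp.O Q) : locEquiv q g ∈ QuadGrp.O (locQ q Q) := fun v ↦
  isometry_push (Q' := locQ q Q) (TensorProduct.mk R (Localization.AtPrime q) M 1) (loc_hf q Q) b (b.baseChange (Localization.AtPrime q)) (loc_hb q b) (loc_hfg q b g)
    (fun w ↦ hg w) v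

include b in
theorem loc_regular (hQ : QuadGrp.IsRegular Q) : QuadGrp.IsRegular (locQ q Q) :=
  isRegular_push (Q' := locQ q Q) (TensorProduct.mk R (Localization.AtPrime q) M 1) (loc_hf q Q) b (b.baseChange (Localization.AtPrime q)) (loc_hb q b) hQ

include b in
theorem exists_loc_unit {g : M ≃ₗ[R] M} {p : ZMod 2} {s : R} (hs : s ∉ q) (h : LiftsAt Q (g : M →ₗ[R] M) p s) :
    ∃ u : (CliffordAlgebra (locQ q Q))ˣ, (u : CliffordAlgebra (locQ q Q)) ∈ evenOdd (locQ q Q) p ∧
      ∀ v, (u : CliffordAlgebra (locQ q Q)) * ι (locQ q Q) v = ι (locQ q Q) (locEquiv q g v) * u := by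
  obtain ⟨x, y, hx, hc, hxy, hyx⟩ := h
  obtain ⟨c, hc'⟩ := isUnit_loc q b (Q := Q) hs
  refine ⟨⟨locMap q Q x, locMap q Q y * ↑c⁻¹, ?_, ?_⟩, cliffMap_mem _ _ _ _ hx,
    conj_push _ _ b _ (loc_hb q b) (loc_hfg q b g) x hc⟩
  · rw [← mul_assoc, ← map_mul, hxy, AlgHom.commutes, ← hc', c.mul_inv]
  · have hcomm : Commute (↑c⁻¹ : CliffordAlgebra (locQ q Q)) (locMap q Q x) :=
      Commute.units_inv_left (by rw [hc']; exact Algebra.commute_algebraMap_left _ _)
    rw [mul_assoc, hcomm.eq, ← mul_assoc, ← map_mul, hyx, AlgHom.commutes, ← hc', c.mul_inv]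

include b in
theorem exists_liftsAt (hn : Even n) (hQ : QuadGrp.IsRegular Q) (g : M ≃ₗ[R] M) (hg : g ∈ QuadGrp.O Q) :
    ∃ p s, s ∉ q ∧ LiftsAt Q (g : M →ₗ[R] M) p s := by
  obtain ⟨p, u, hu, hc⟩ := exists_conj (b.baseChange (Localization.AtPrime q)) hn (loc_regular q b hQ) (locEquiv q g)
    (loc_mem_O q b hg)
  obtain ⟨x₀, s₀, hs₀, hx₀⟩ := exists_loc_eq_smul q b (u : CliffordAlgebra (locQ q Q))
  obtain ⟨x₁, hx₁, hFx₁⟩ : ∃ x ∈ evenOdd Q p, locMap q Q x = s₀ • (u : CliffordAlgebra (locQ q Q)) := by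
    obtain ⟨e, he, o, ho, rfl⟩ := exists_even_odd x₀
    rw [map_add] at hx₀
    rcases (show ∀ i : ZMod 2, i = 0 ∨ i = 1 by decide) p with rfl | rfl
    · refine ⟨e, he, ?_⟩
      have h1 : locMap q Q o ∈ evenOdd (locQ q Q) 0 := by
        rw [eq_sub_of_add_eq' hx₀, Algebra.smul_def, IsScalarTower.algebraMap_apply R (Localization.AtPrime q), ← Algebra.smul_def]
        exact sub_mem (Submodule.smul_mem _ _ hu) (cliffMap_mem _ _ _ _ he)
      rwa [eq_zero_of_mem_both h1 (cliffMap_mem _ _ _ _ ho), add_zero] at hx₀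
    · refine ⟨o, ho, ?_⟩
      have h1 : locMap q Q e ∈ evenOdd (locQ q Q) 1 := by
        rw [eq_sub_of_add_eq hx₀, Algebra.smul_def, IsScalarTower.algebraMap_apply R (Localization.AtPrime q), ← Algebra.smul_def]
        exact sub_mem (Submodule.smul_mem _ _ hu) (cliffMap_mem _ _ _ _ ho)
      rwa [eq_zero_of_mem_both (cliffMap_mem _ _ _ _ he) h1, zero_add] at hx₀
  obtain ⟨y₀, t₀, ht₀, hy₀⟩ := exists_loc_eq_smul q b (↑u⁻¹ : CliffordAlgebra (locQ q Q))
  obtain ⟨r, hr, hr'⟩ := exists_smul_eq_zero_of_loc q b (x := x₁ * y₀ - algebraMap R _ (s₀ * t₀)) (by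
    rw [map_sub, map_mul, hFx₁, hy₀, AlgHom.commutes, smul_mul_smul_comm, Units.mul_inv, Algebra.smul_def, mul_one, sub_self])
  obtain ⟨r', hr2, hr2'⟩ := exists_smul_eq_zero_of_loc q b (x := y₀ * x₁ - algebraMap R _ (s₀ * t₀)) (by
    rw [map_sub, map_mul, hFx₁, hy₀, AlgHom.commutes, smul_mul_smul_comm, Units.inv_mul, Algebra.smul_def, mul_one,
      mul_comm t₀, sub_self])
  have hcomm : ∀ i, ∃ t, t ∉ q ∧ t • (x₁ * ι Q (b i) - ι Q ((g : M →ₗ[R] M) (b i)) * x₁) = 0 := fun i ↦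
    exists_smul_eq_zero_of_loc q b (by
      rw [map_sub, map_mul, map_mul, hFx₁, cliffMap_ι, cliffMap_ι, smul_mul_assoc, mul_smul_comm, ← smul_sub,
        hc, ← loc_hb q b i, ← loc_hfg q b g i, LinearEquiv.coe_coe, sub_self, smul_zero])
  choose t ht ht' using hcomm
  let T := ∏ i, t i
  have hT : T ∉ q := fun h ↦ by
    obtain ⟨i, _, hi⟩ := (Ideal.IsPrime.prod_mem_iff (p := q)).1 h
    exact ht i hi
  refine ⟨p, T * r * r' * s₀ * t₀,
    fun h ↦ by
      rcases (‹q.IsPrime›).mem_or_mem h with h | h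
      · rcases (‹q.IsPrime›).mem_or_mem h with h | h
        · rcases (‹q.IsPrime›).mem_or_mem h with h | h
          · rcases (‹q.IsPrime›).mem_or_mem h with h | h
            exacts [hT h, hr h]
          · exact hr2 h
        · exact hs₀ h
      · exact ht₀ h,
    T • x₁, (r * r') • y₀, Submodule.smul_mem _ _ hx₁, ?_, ?_, ?_⟩
  · intro v
    refine LinearMap.congr_fun (b.ext fun i ↦ ?_ : (LinearMap.mulLeft R (T • x₁)).comp (ι Q) =
      (LinearMap.mulRight R (T • x₁)).comp ((ι Q).comp (g : M →ₗ[R] M))) v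
    simp only [LinearMap.comp_apply, LinearMap.mulLeft_apply, LinearMap.mulRight_apply, smul_mul_assoc, mul_smul_comm]
    rw [← sub_eq_zero, ← smul_sub, show T = (∏ j ∈ Finset.univ.erase i, t j) * t i from
      (Finset.prod_erase_mul _ _ (Finset.mem_univ i)).symm, mul_smul, ht', smul_zero]
  · rw [smul_mul_smul_comm, show T * (r * r') = T * r' * r by ring, mul_smul,
      show r • (x₁ * y₀) = r • algebraMap R (CliffordAlgebra Q) (s₀ * t₀) by rw [← sub_eq_zero, ← smul_sub, hr'],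
      Algebra.smul_def r, ← map_mul, Algebra.smul_def, ← map_mul]
    congr 1; ring
  · rw [smul_mul_smul_comm, show r * r' * T = T * r * r' by ring, mul_smul,
      show r' • (y₀ * x₁) = r' • algebraMap R (CliffordAlgebra Q) (s₀ * t₀) by rw [← sub_eq_zero, ← smul_sub, hr2'],
      Algebra.smul_def r', ← map_mul, Algebra.smul_def, ← map_mul]
    congr 1; ring

include b in
theorem liftsAt_det (hn : Even n) (hQ : QuadGrp.IsRegular Q) {g : M ≃ₗ[R] M} (hg : g ∈ QuadGrp.O Q) {p : ZMod 2}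
    {s : R} (hs : s ∉ q) (h : LiftsAt Q (g : M →ₗ[R] M) p s) :
    ∃ t, t ∉ q ∧ t * (LinearMap.det (g : M →ₗ[R] M) - sgn R p) = 0 := by
  obtain ⟨u, hu, hc⟩ := exists_loc_unit q b hs h
  have hd := det_of_isLocalRing (b.baseChange (Localization.AtPrime q)) hn (loc_regular q b hQ) (locEquiv q g)
    (loc_mem_O q b hg) u hu hc
  rw [det_push _ b _ (loc_hb q b) (loc_hfg q b g), ← map_sgn (algebraMap R (Localization.AtPrime q)), ← sub_eq_zero,
    ← map_sub] at hd
  obtain ⟨m, hm⟩ := (IsLocalization.map_eq_zero_iff q.primeCompl _ _).1 hd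
  exact ⟨m, m.2, hm⟩

include b in
theorem liftsAt_unique (hn : Even n) (hQ : QuadGrp.IsRegular Q) {g : M ≃ₗ[R] M} (hg : g ∈ QuadGrp.O Q) {p p' : ZMod 2}
    {s s' : R} (hs : s ∉ q) (hs' : s' ∉ q) (h : LiftsAt Q (g : M →ₗ[R] M) p s) (h' : LiftsAt Q (g : M →ₗ[R] M) p' s') :
    p = p' := by
  obtain ⟨u, hu, hc⟩ := exists_loc_unit q b hs h
  obtain ⟨u', hu', hc'⟩ := exists_loc_unit q b hs' h'
  have hg' := loc_mem_O q b hg
  have h1 := isDicksonTrivial_iff (b.baseChange (Localization.AtPrime q)) hn (loc_regular q b hQ) _ hg' p u hu hc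
  have h2 := isDicksonTrivial_iff (b.baseChange (Localization.AtPrime q)) hn (loc_regular q b hQ) _ hg' p' u' hu' hc'
  rcases (show ∀ i : ZMod 2, i = 0 ∨ i = 1 by decide) p with rfl | rfl <;>
    rcases (show ∀ i : ZMod 2, i = 0 ∨ i = 1 by decide) p' with rfl | rfl
  · rfl
  · exact absurd ((h2.symm.trans h1).2 rfl) (by decide)
  · exact absurd ((h1.symm.trans h2).2 rfl) (by decide)
  · rfl

include b in
theorem liftsAt_even_of_dickson (hn : Even n) (hQ : QuadGrp.IsRegular Q) {g : M ≃ₗ[R] M} (hg : g ∈ QuadGrp.O Q)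
    (hd : QuadGrp.IsDicksonTrivial Q g hg) {p : ZMod 2} {s : R} (hs : s ∉ q)
    (h : LiftsAt Q (g : M →ₗ[R] M) p s) : p = 0 := by
  obtain ⟨u, hu, hc⟩ := exists_loc_unit q b hs h
  have hg' := loc_mem_O q b hg
  refine (isDicksonTrivial_iff (b.baseChange (Localization.AtPrime q)) hn (loc_regular q b hQ) _ hg' p u hu hc).1 ?_
  intro z hz
  obtain ⟨x₀, s₀, hs₀, hx₀⟩ := exists_loc_eq_smul q b (z : CliffordAlgebra (locQ q Q))
  obtain ⟨e, he, o, ho, rfl⟩ := exists_even_odd x₀
  have hFe : locMap q Q e = s₀ • (z : CliffordAlgebra (locQ q Q)) := by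
    rw [map_add] at hx₀
    have h1 : locMap q Q o ∈ evenOdd (locQ q Q) 0 := by
      rw [eq_sub_of_add_eq' hx₀, Algebra.smul_def, IsScalarTower.algebraMap_apply R (Localization.AtPrime q), ← Algebra.smul_def]
      exact sub_mem (Submodule.smul_mem _ _ z.2) (cliffMap_mem _ _ _ _ he)
    rwa [eq_zero_of_mem_both h1 (cliffMap_mem _ _ _ _ ho), add_zero] at hx₀
  have hcomm : ∀ ij : Fin n × Fin n, ∃ t, t ∉ q ∧
      t • (ι Q (b ij.1) * ι Q (b ij.2) * e - e * (ι Q (b ij.1) * ι Q (b ij.2))) = 0 := fun ij ↦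
    exists_smul_eq_zero_of_loc q b (by
      have := congrArg Subtype.val (Subalgebra.mem_center_iff.1 hz
        ⟨_, ι_mul_ι_mem_evenOdd_zero (locQ q Q) (b.baseChange (Localization.AtPrime q) ij.1) (b.baseChange (Localization.AtPrime q) ij.2)⟩)
      change _ * (z : CliffordAlgebra (locQ q Q)) = (z : CliffordAlgebra (locQ q Q)) * _ at this
      rw [map_sub, map_mul, map_mul, map_mul, map_mul, cliffMap_ι, cliffMap_ι, hFe, mul_smul_comm, smul_mul_assoc,
        ← smul_sub, ← loc_hb q b ij.1, ← loc_hb q b ij.2, this, sub_self, smul_zero])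
  choose t ht ht' using hcomm
  let T := ∏ ij, t ij
  have hT : T ∉ q := fun h ↦ by
    obtain ⟨i, _, hi⟩ := (Ideal.IsPrime.prod_mem_iff (p := q)).1 h
    exact ht i hi
  have hgen : ∀ m₁ m₂ : M, ι Q m₁ * ι Q m₂ * (T • e) = T • e * (ι Q m₁ * ι Q m₂) := by
    intro m₁ m₂
    have hb' : ∀ i m, ι Q (b i) * ι Q m * (T • e) = T • e * (ι Q (b i) * ι Q m) := by
      intro i m
      refine LinearMap.congr_fun (b.ext fun j ↦ ?_ : (LinearMap.mulRight R (T • e)).comp ((LinearMap.mulLeft R (ι Q (b i))).comp (ι Q)) =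
        (LinearMap.mulLeft R (T • e)).comp ((LinearMap.mulLeft R (ι Q (b i))).comp (ι Q))) m
      simp only [LinearMap.comp_apply, LinearMap.mulLeft_apply, LinearMap.mulRight_apply, smul_mul_assoc, mul_smul_comm]
      rw [← sub_eq_zero, ← smul_sub, show T = (∏ k ∈ Finset.univ.erase (i, j), t k) * t (i, j) from
        (Finset.prod_erase_mul _ _ (Finset.mem_univ (i, j))).symm, mul_smul, ht', smul_zero]
    exact LinearMap.congr_fun (b.ext fun i ↦ hb' i m₂ :
      (LinearMap.mulRight R (T • e)).comp ((LinearMap.mulRight R (ι Q m₂)).comp (ι Q)) =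
        (LinearMap.mulLeft R (T • e)).comp ((LinearMap.mulRight R (ι Q m₂)).comp (ι Q))) m₁
  have hfix := hd ⟨T • e, Submodule.smul_mem _ _ he⟩ (Subalgebra.mem_center_iff.2 fun y ↦ Subtype.ext (by
    change (y : CliffordAlgebra Q) * (T • e) = T • e * y
    obtain ⟨y, hy⟩ := y
    induction y, hy using CliffordAlgebra.even_induction with
    | algebraMap r => exact Algebra.commutes r _
    | add a c _ _ ha hc => rw [add_mul, ha, hc, mul_add]
    | ι_mul_ι_mul m₁ m₂ y hy ih => rw [mul_assoc _ y, ih, ← mul_assoc, hgen, mul_assoc]))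
  have hnat : ∀ x, CliffordAlgebra.map (QuadGrp.isometryOfMem (locQ q Q) (locEquiv q g) hg') (locMap q Q x) =
      locMap q Q (CliffordAlgebra.map (QuadGrp.isometryOfMem Q g hg) x) := by
    intro x
    induction x using CliffordAlgebra.induction with
    | algebraMap r =>
      rw [AlgHom.commutes, AlgHom.commutes, AlgHom.commutes, IsScalarTower.algebraMap_apply R (Localization.AtPrime q),
        AlgHom.commutes]
    | ι v => rw [map_apply_ι, cliffMap_ι, cliffMap_ι, map_apply_ι]; rfl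
    | mul x y hx hy => simp only [map_mul, hx, hy]
    | add x y hx hy => simp only [map_add, hx, hy]
  have h2 := hnat (T • e)
  rw [show CliffordAlgebra.map (QuadGrp.isometryOfMem Q g hg) (T • e) = T • e from hfix, map_smul, hFe, smul_smul,
    Algebra.smul_def, IsScalarTower.algebraMap_apply R (Localization.AtPrime q), map_mul, AlgHom.commutes] at h2
  refine ((IsScalarTower.algebraMap_apply R (Localization.AtPrime q) (CliffordAlgebra (locQ q Q)) _).symm ▸
    isUnit_loc q b (Q := Q) (s := T * s₀) ?_).mul_left_cancel h2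
  exact fun h ↦ ((‹q.IsPrime›).mem_or_mem h).elim hT hs₀

end Local

theorem eq_zero_of_forall_prime {N : Type*} [AddCommGroup N] [Module R N] {a : N}
    (h : ∀ q : Ideal R, q.IsPrime → ∃ t, t ∉ q ∧ t • a = 0) : a = 0 := by
  by_contra ha
  obtain ⟨q, hq, hle⟩ := Ideal.exists_le_maximal (LinearMap.ker (LinearMap.toSpanSingleton R N a))
    (fun he ↦ ha (by
      have : (1 : R) ∈ LinearMap.ker (LinearMap.toSpanSingleton R N a) := he ▸ Submodule.mem_top
      simpa using this))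
  obtain ⟨t, ht, ht'⟩ := h q hq.isPrime
  exact ht (hle (by simpa using ht'))

theorem map_fix_of_liftsAt {g : M ≃ₗ[R] M} (hg : g ∈ QuadGrp.O Q) {s : R} (h : LiftsAt Q (g : M →ₗ[R] M) 0 s)
    (z : ↥(CliffordAlgebra.even Q)) (hz : z ∈ Subalgebra.center R ↥(CliffordAlgebra.even Q)) :
    s • (CliffordAlgebra.map (QuadGrp.isometryOfMem Q g hg) (z : CliffordAlgebra Q) - z) = 0 := by
  obtain ⟨x, y, hx, hc, hxy, _⟩ := h
  have hG : ∀ w, CliffordAlgebra.map (QuadGrp.isometryOfMem Q g hg) w * x = x * w := by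
    intro w
    induction w using CliffordAlgebra.induction with
    | algebraMap r => rw [AlgHom.commutes, Algebra.commutes]
    | ι v => rw [map_apply_ι, hc]; rfl
    | mul a c ha hb => rw [map_mul, mul_assoc, hb, ← mul_assoc, ha, mul_assoc]
    | add a c ha hb => rw [map_add, add_mul, ha, hb, mul_add]
  have hcz : x * (z : CliffordAlgebra Q) = z * x :=
    congrArg Subtype.val (Subalgebra.mem_center_iff.1 hz ⟨x, hx⟩)
  rw [Algebra.smul_def, Algebra.commutes, ← hxy, ← mul_assoc, sub_mul, hG, hcz, sub_self, zero_mul]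

/-- An isometry satisfying the Dickson condition has determinant one. -/
theorem det_eq_one_of_dickson (b : Module.Basis (Fin n) R M) (hn : Even n) (hQ : QuadGrp.IsRegular Q) {g : M ≃ₗ[R] M}
    (hg : g ∈ QuadGrp.O Q) (hd : QuadGrp.IsDicksonTrivial Q g hg) : LinearMap.det (g : M →ₗ[R] M) = 1 := by
  haveI := Module.Free.of_basis b
  refine sub_eq_zero.1 (eq_zero_of_forall_prime (R := R) fun q hq ↦ ?_)
  obtain ⟨p, s, hs, h⟩ := exists_liftsAt q b hn hQ g hg
  obtain rfl := liftsAt_even_of_dickson q b hn hQ hg hd hs h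
  obtain ⟨t, ht, ht'⟩ := liftsAt_det q b hn hQ hg hs h
  exact ⟨t, ht, by rwa [sgn, if_pos rfl] at ht'⟩

/-- With `2` invertible determinant one implies the Dickson condition. -/
theorem dickson_of_det_eq_one (b : Module.Basis (Fin n) R M) (hn : Even n) (hQ : QuadGrp.IsRegular Q)
    (h2 : IsUnit (2 : R)) {g : M ≃ₗ[R] M} (hg : g ∈ QuadGrp.O Q) (hd : LinearMap.det (g : M →ₗ[R] M) = 1) :
    QuadGrp.IsDicksonTrivial Q g hg := by
  haveI := Module.Free.of_basis b
  intro z hz
  refine sub_eq_zero.1 (eq_zero_of_forall_prime (R := R) fun q hq ↦ ?_)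
  obtain ⟨p, s, hs, h⟩ := exists_liftsAt q b hn hQ g hg
  obtain ⟨t, ht, ht'⟩ := liftsAt_det q b hn hQ hg hs h
  rcases (show ∀ i : ZMod 2, i = 0 ∨ i = 1 by decide) p with rfl | rfl
  · exact ⟨s, hs, map_fix_of_liftsAt hg h z hz⟩
  · rw [hd, sgn, if_neg (by decide), sub_neg_eq_add, one_add_one_eq_two] at ht'
    exact absurd (h2.mul_left_eq_zero.1 ht') fun h ↦ ht (h ▸ q.zero_mem)

/-- In characteristic two every isometry has determinant one. -/
theorem det_eq_one_of_two_eq_zero (b : Module.Basis (Fin n) R M) (hn : Even n) (hQ : QuadGrp.IsRegular Q)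
    (h2 : (2 : R) = 0) {g : M ≃ₗ[R] M} (hg : g ∈ QuadGrp.O Q) : LinearMap.det (g : M →ₗ[R] M) = 1 := by
  haveI := Module.Free.of_basis b
  refine sub_eq_zero.1 (eq_zero_of_forall_prime (R := R) fun q hq ↦ ?_)
  obtain ⟨p, s, hs, h⟩ := exists_liftsAt q b hn hQ g hg
  obtain ⟨t, ht, ht'⟩ := liftsAt_det q b hn hQ hg hs h
  refine ⟨t, ht, ?_⟩
  have : sgn R p = 1 := by
    unfold sgn; split_ifs
    · rfl
    · linear_combination -h2
  rwa [this] at ht'

/-- Over a connected base an isometry not satisfying the Dickson condition has determinant minus one. -/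
theorem det_eq_neg_one_of_not_dickson (b : Module.Basis (Fin n) R M) (hn : Even n) (hQ : QuadGrp.IsRegular Q)
    [PreconnectedSpace (PrimeSpectrum R)] {g : M ≃ₗ[R] M} (hg : g ∈ QuadGrp.O Q)
    (hd : ¬ QuadGrp.IsDicksonTrivial Q g hg) : LinearMap.det (g : M →ₗ[R] M) = -1 := by
  haveI := Module.Free.of_basis b
  let U : ZMod 2 → Set (PrimeSpectrum R) := fun p ↦
    ⋃ (s : R) (_ : LiftsAt Q (g : M →ₗ[R] M) p s), (PrimeSpectrum.basicOpen s : Set (PrimeSpectrum R))
  have hmem : ∀ p x, x ∈ U p ↔ ∃ s, LiftsAt Q (g : M →ₗ[R] M) p s ∧ s ∉ x.asIdeal := fun p x ↦ by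
    simp [U, PrimeSpectrum.mem_basicOpen]
  have hopen : ∀ p, IsOpen (U p) := fun p ↦ isOpen_iUnion fun s ↦ isOpen_iUnion fun _ ↦ (PrimeSpectrum.basicOpen s).2
  have hcompl : (U 1)ᶜ = U 0 := by
    ext x
    rw [Set.mem_compl_iff, hmem, hmem]
    constructor
    · intro hx
      obtain ⟨p, s, hs, h⟩ := exists_liftsAt x.asIdeal b hn hQ g hg
      rcases (show ∀ i : ZMod 2, i = 0 ∨ i = 1 by decide) p with rfl | rfl
      · exact ⟨s, h, hs⟩
      · exact absurd ⟨s, h, hs⟩ hx
    · rintro ⟨s, h, hs⟩ ⟨s', h', hs'⟩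
      exact absurd (liftsAt_unique x.asIdeal b hn hQ hg hs hs' h h') (by decide)
  have hclopen : IsClopen (U 1) := ⟨⟨hcompl ▸ hopen 0⟩, hopen 1⟩
  rcases isClopen_iff.1 hclopen with he | hu
  · refine absurd ?_ hd
    intro z hz
    refine sub_eq_zero.1 (eq_zero_of_forall_prime (R := R) fun q hq ↦ ?_)
    have : (⟨q, hq⟩ : PrimeSpectrum R) ∈ U 0 := by rw [← hcompl, he]; simp
    obtain ⟨s, h, hs⟩ := (hmem _ _).1 this
    exact ⟨s, hs, map_fix_of_liftsAt hg h z hz⟩
  · refine sub_eq_zero.1 (eq_zero_of_forall_prime (R := R) fun q hq ↦ ?_)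
    have : (⟨q, hq⟩ : PrimeSpectrum R) ∈ U 1 := by rw [hu]; trivial
    obtain ⟨s, h, hs⟩ := (hmem _ _).1 this
    obtain ⟨t, ht, ht'⟩ := liftsAt_det q b hn hQ hg hs h
    exact ⟨t, ht, by rwa [sgn, if_neg (by decide)] at ht'⟩

end Groth.Agent.QuadH13
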