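import Groth.Prelude.Def_QuadGrp
import Mathlib.LinearAlgebra.Matrix.ToLin
import Mathlib.LinearAlgebra.Matrix.SesquilinearForm
import Mathlib.LinearAlgebra.Matrix.BilinearForm
import Mathlib.GroupTheory.Perm.Cycle.Type
import Mathlib.Data.ZMod.Basic
import Mathlib.RingTheory.MvPolynomial.Basic

/-!
The half-discriminant: twice it is the discriminant in odd rank; behaviour under endomorphisms.
-/

universe u v

open QuadraticMap Matrix

namespace Groth.Agent.QuadH13

variable {R : Type u} [CommRing R] {n : ℕ}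

theorem det_eq_zero_of_alternating (h2 : ∀ x : R, x + x = 0) (A : Matrix (Fin n) (Fin n) R)
    (hs : ∀ i j, A i j = A j i) (hd : ∀ i, A i i = 0) (hn : Odd n) : A.det = 0 := by
  rw [Matrix.det_apply]
  refine Finset.sum_involution (fun σ _ ↦ σ⁻¹) ?_ ?_ (fun _ _ ↦ Finset.mem_univ _) fun σ _ ↦ inv_inv σ
  · intro σ _
    have : ∏ i, A (σ⁻¹ i) i = ∏ i, A (σ i) i := by
      rw [← Equiv.prod_comp σ (fun i ↦ A (σ⁻¹ i) i)]
      exact Finset.prod_congr rfl fun i _ ↦ by simp [hs]
    rw [this, Equiv.Perm.sign_inv]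
    exact h2 _
  · intro σ _ hne heq
    haveI : Fact (Nat.Prime 2) := ⟨Nat.prime_two⟩
    obtain ⟨a, ha⟩ := Equiv.Perm.exists_fixed_point_of_prime (p := 2) (n := 1) (σ := σ)
      (by rw [Fintype.card_fin]; exact hn.not_two_dvd_nat)
      (by rw [pow_one, pow_two]; conv_lhs => rw [← heq, heq]
          nth_rw 1 [← heq]; exact inv_mul_cancel σ)
    exact hne (by rw [Finset.prod_eq_zero (Finset.mem_univ a) (by rw [ha, hd]), smul_zero])

theorem two_mul_halfDiscUniv (hn : Odd n) : 2 * QuadGrp.halfDiscUniv n = QuadGrp.discUniv n := by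
  have h0 : MvPolynomial.map (Int.castRingHom (ZMod 2)) (QuadGrp.discUniv n) = 0 := by
    have h2 : (2 : MvPolynomial (Sym2 (Fin n)) (ZMod 2)) = 0 := by
      rw [← map_ofNat MvPolynomial.C 2, show (2 : ZMod 2) = 0 from rfl, map_zero]
    rw [QuadGrp.discUniv, RingHom.map_det]
    refine det_eq_zero_of_alternating (fun x ↦ by rw [← two_mul, h2, zero_mul]) _ (fun i j ↦ ?_) (fun i ↦ ?_) hn
    · simp only [RingHom.mapMatrix_apply, Matrix.map_apply, QuadGrp.univPolarMat, Matrix.of_apply]
      by_cases h : i = j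
      · subst h; rfl
      · rw [if_neg h, if_neg (Ne.symm h), Sym2.eq_swap]
    · simp only [RingHom.mapMatrix_apply, Matrix.map_apply, QuadGrp.univPolarMat, Matrix.of_apply, if_true,
        map_mul, map_ofNat, h2, zero_mul]
  refine MvPolynomial.ext _ _ fun s ↦ ?_
  have hs := congrArg (MvPolynomial.coeff s) h0
  rw [MvPolynomial.coeff_map, MvPolynomial.coeff_zero, eq_intCast, ZMod.intCast_zmod_eq_zero_iff_dvd] at hs
  rw [← map_ofNat MvPolynomial.C 2, MvPolynomial.coeff_C_mul, QuadGrp.coeff_halfDiscUniv]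
  exact Int.mul_ediv_cancel' hs

variable {M : Type v} [AddCommGroup M] [Module R M]

/-- The matrix of the polar form. -/
noncomputable def polarMat (b : Module.Basis (Fin n) R M) (Q : QuadraticForm R M) : Matrix (Fin n) (Fin n) R :=
  LinearMap.toMatrix₂ b b (polarBilin Q)

theorem polarMat_apply (b : Module.Basis (Fin n) R M) (Q : QuadraticForm R M) (i j : Fin n) :
    polarMat b Q i j = polar Q (b i) (b j) := by
  rw [polarMat, LinearMap.toMatrix₂_apply]; rfl

theorem two_mul_halfDisc (hn : Odd n) (b : Module.Basis (Fin n) R M) (Q : QuadraticForm R M) :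
    2 * QuadGrp.halfDisc b (LinearEquiv.refl R R) Q = (polarMat b Q).det := by
  rw [QuadGrp.halfDisc, ← MvPolynomial.coe_eval₂Hom,
    ← map_ofNat (MvPolynomial.eval₂Hom (Int.castRingHom R) (QuadGrp.coeffs b (LinearEquiv.refl R R) Q)) 2,
    ← map_mul, two_mul_halfDiscUniv hn, QuadGrp.discUniv, RingHom.map_det]
  congr 1
  ext i j
  rw [RingHom.mapMatrix_apply, Matrix.map_apply, QuadGrp.univPolarMat, Matrix.of_apply, polarMat_apply]
  by_cases h : i = j
  · subst h
    rw [if_pos rfl, map_mul, map_ofNat, MvPolynomial.eval₂Hom_X', QuadGrp.coeffs_mk, if_pos rfl, polar_self]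
    simp
  · rw [if_neg h, MvPolynomial.eval₂Hom_X', QuadGrp.coeffs_mk, if_neg h]
    rfl

theorem polarMat_comp (b : Module.Basis (Fin n) R M) (Q : QuadraticForm R M) (g : M →ₗ[R] M) :
    polarMat b (Q.comp g) = (LinearMap.toMatrix b b g).transpose * polarMat b Q * LinearMap.toMatrix b b g := by
  rw [polarMat, polarMat, ← LinearMap.toMatrix₂_compl₁₂ b b b b]
  congr 1
  refine LinearMap.ext fun x ↦ LinearMap.ext fun y ↦ ?_
  simp [polar, map_add]

/-- The value of the quadratic form with coefficient table `a` at `x`. -/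
def triSum (a : Sym2 (Fin n) → R) (x : Fin n → R) : R :=
  ∑ i, ∑ j, if i ≤ j then a s(i, j) * (x i * x j) else 0

theorem apply_eq_triSum (b : Module.Basis (Fin n) R M) (Q : QuadraticForm R M) (x : Fin n → R) :
    Q (∑ i, x i • b i) = triSum (QuadGrp.coeffs b (LinearEquiv.refl R R) Q) x := by
  conv_lhs => rw [← QuadraticMap.toQuadraticMap_toBilin Q b]
  rw [LinearMap.BilinMap.toQuadraticMap_apply, LinearMap.map_sum₂, triSum]
  refine Finset.sum_congr rfl fun i _ ↦ ?_
  rw [map_sum]
  refine Finset.sum_congr rfl fun j _ ↦ ?_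
  rw [map_smul, map_smul, LinearMap.smul_apply, QuadraticMap.toBilin_apply, QuadGrp.coeffs_mk]
  rcases lt_trichotomy i j with h | h | h
  · simp [h.ne, h, h.le]; ring
  · subst h; simp; ring
  · simp [h.ne', h.not_gt, h.not_ge]

theorem map_triSum {S : Type*} [CommRing S] (φ : S →+* R) (a : Sym2 (Fin n) → S) (x : Fin n → S) :
    φ (triSum a x) = triSum (φ ∘ a) (φ ∘ x) := by
  simp only [triSum, map_sum, apply_ite φ, map_mul, map_zero, Function.comp_apply]

theorem map_halfDisc {S : Type*} [CommRing S] {M' : Type*} [AddCommGroup M'] [Module S M'] (φ : S →+* R)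
    (b : Module.Basis (Fin n) R M) (Q : QuadraticForm R M) (b' : Module.Basis (Fin n) S M') (Q' : QuadraticForm S M')
    (h : QuadGrp.coeffs b (LinearEquiv.refl R R) Q = φ ∘ QuadGrp.coeffs b' (LinearEquiv.refl S S) Q') :
    QuadGrp.halfDisc b (LinearEquiv.refl R R) Q = φ (QuadGrp.halfDisc b' (LinearEquiv.refl S S) Q') := by
  rw [QuadGrp.halfDisc, QuadGrp.halfDisc, h, MvPolynomial.eval₂_comp_left, RingHom.ext_int (φ.comp _) (Int.castRingHom R)]

theorem coeffs_comp_eq (b : Module.Basis (Fin n) R M) (Q : QuadraticForm R M) (g : M →ₗ[R] M) (i j : Fin n) :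
    QuadGrp.coeffs b (LinearEquiv.refl R R) (Q.comp g) s(i, j) =
      if i = j then triSum (QuadGrp.coeffs b (LinearEquiv.refl R R) Q) (fun k ↦ LinearMap.toMatrix b b g k i)
      else triSum (QuadGrp.coeffs b (LinearEquiv.refl R R) Q)
          ((fun k ↦ LinearMap.toMatrix b b g k i) + fun k ↦ LinearMap.toMatrix b b g k j) -
        triSum (QuadGrp.coeffs b (LinearEquiv.refl R R) Q) (fun k ↦ LinearMap.toMatrix b b g k i) -
        triSum (QuadGrp.coeffs b (LinearEquiv.refl R R) Q) (fun k ↦ LinearMap.toMatrix b b g k j) := by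
  have hg : ∀ l, g (b l) = ∑ k, LinearMap.toMatrix b b g k l • b k := fun l ↦ by
    simp only [LinearMap.toMatrix_apply]; exact (b.sum_repr _).symm
  rw [QuadGrp.coeffs_mk]
  split_ifs with h
  · rw [LinearEquiv.refl_apply, QuadraticMap.comp_apply, hg, apply_eq_triSum]
  · rw [LinearEquiv.refl_apply, polar, QuadraticMap.comp_apply, QuadraticMap.comp_apply, QuadraticMap.comp_apply,
      map_add, hg, hg, ← Finset.sum_add_distrib]
    simp only [← add_smul, apply_eq_triSum]
    rfl

theorem halfDisc_comp (hn : Odd n) (b : Module.Basis (Fin n) R M) (Q : QuadraticForm R M) (g : M →ₗ[R] M) :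
    QuadGrp.halfDisc b (LinearEquiv.refl R R) (Q.comp g) =
      LinearMap.det g ^ 2 * QuadGrp.halfDisc b (LinearEquiv.refl R R) Q := by
  classical
  let aU : Sym2 (Fin n) → MvPolynomial (Sym2 (Fin n) ⊕ Fin n × Fin n) ℤ := fun s ↦ MvPolynomial.X (.inl s)
  let GU : Matrix (Fin n) (Fin n) (MvPolynomial (Sym2 (Fin n) ⊕ Fin n × Fin n) ℤ) :=
    Matrix.of fun k l ↦ MvPolynomial.X (.inr (k, l))
  let bU := Pi.basisFun (MvPolynomial (Sym2 (Fin n) ⊕ Fin n × Fin n) ℤ) (Fin n)
  let QU : QuadraticForm (MvPolynomial (Sym2 (Fin n) ⊕ Fin n × Fin n) ℤ) (Fin n → MvPolynomial (Sym2 (Fin n) ⊕ Fin n × Fin n) ℤ) :=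
    LinearMap.BilinMap.toQuadraticMap (Matrix.toBilin' (Matrix.of fun i j ↦ if i ≤ j then aU s(i, j) else 0))
  let gU := Matrix.toLin' GU
  let φ : MvPolynomial (Sym2 (Fin n) ⊕ Fin n × Fin n) ℤ →+* R := MvPolynomial.eval₂Hom (Int.castRingHom R)
    (Sum.elim (QuadGrp.coeffs b (LinearEquiv.refl R R) Q) fun kl ↦ LinearMap.toMatrix b b g kl.1 kl.2)
  have haU : QuadGrp.coeffs bU (LinearEquiv.refl _ _) QU = aU := by
    funext s
    induction s using Sym2.ind with
    | _ i j =>
      rw [QuadGrp.coeffs_mk]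
      simp only [bU, QU, Pi.basisFun_apply, LinearEquiv.refl_apply, polar, LinearMap.BilinMap.toQuadraticMap_apply,
        map_add, LinearMap.add_apply, Matrix.toBilin'_single, Matrix.of_apply]
      rcases lt_trichotomy i j with h | h | h
      · simp [h.ne, h.le, h.not_ge]
      · subst h; simp
      · simp [h.ne', h.le, h.not_ge, Sym2.eq_swap]; ring
  have hGU : LinearMap.toMatrix bU bU gU = GU := by
    simp only [bU, gU, LinearMap.toMatrix_eq_toMatrix', LinearMap.toMatrix'_toLin']
  have ha : QuadGrp.coeffs b (LinearEquiv.refl R R) Q = φ ∘ QuadGrp.coeffs bU (LinearEquiv.refl _ _) QU := by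
    rw [haU]; funext s; simp [φ, aU]
  have hG : ∀ l, (fun k ↦ LinearMap.toMatrix b b g k l) = φ ∘ fun k ↦ LinearMap.toMatrix bU bU gU k l := fun l ↦ by
    rw [hGU]; funext k; simp [φ, GU]
  have hc : QuadGrp.coeffs b (LinearEquiv.refl R R) (Q.comp g) =
      φ ∘ QuadGrp.coeffs bU (LinearEquiv.refl _ _) (QU.comp gU) := by
    funext s
    induction s using Sym2.ind with
    | _ i j =>
      rw [Function.comp_apply, coeffs_comp_eq, coeffs_comp_eq]
      split_ifs with h
      · rw [map_triSum, ← ha, ← hG]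
      · rw [map_sub, map_sub, map_triSum, map_triSum, map_triSum, ← ha, ← hG, ← hG, hG i, hG j]
        congr
        funext k
        simp
  have hdet : φ (LinearMap.det gU) = LinearMap.det g := by
    rw [← LinearMap.det_toMatrix bU gU, ← LinearMap.det_toMatrix b g, hGU, RingHom.map_det]
    congr 1
    ext k l
    simp [φ, GU]
  have key : QuadGrp.halfDisc bU (LinearEquiv.refl _ _) (QU.comp gU) =
      LinearMap.det gU ^ 2 * QuadGrp.halfDisc bU (LinearEquiv.refl _ _) QU := by
    refine mul_left_cancel₀ (two_ne_zero (α := MvPolynomial (Sym2 (Fin n) ⊕ Fin n × Fin n) ℤ)) ?_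
    rw [two_mul_halfDisc hn, mul_left_comm, two_mul_halfDisc hn, polarMat_comp, Matrix.det_mul, Matrix.det_mul,
      Matrix.det_transpose, LinearMap.det_toMatrix, _root_.sq]
    ring
  rw [map_halfDisc φ b _ bU _ hc, key, map_mul, map_pow, hdet, ← map_halfDisc φ b _ bU _ ha]

theorem det_sq_eq_one (hn : Odd n) (b : Module.Basis (Fin n) R M) (Q : QuadraticForm R M)
    (hQ : QuadGrp.IsSemiregular b (LinearEquiv.refl R R) Q) (g : M →ₗ[R] M) (hg : ∀ v, Q (g v) = Q v) :
    LinearMap.det g * LinearMap.det g = 1 := by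
  have h := halfDisc_comp hn b Q g
  rw [show Q.comp g = Q from QuadraticMap.ext hg, eq_comm] at h
  rw [← _root_.sq]
  exact hQ.mul_eq_right.1 h

end Groth.Agent.QuadH13
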