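import Groth.Agent.Lib.QuadH13.SmoothLift
import Mathlib.RingTheory.Smooth.StandardSmoothOfFree
import Mathlib.RingTheory.Smooth.StandardSmoothCotangent
import Mathlib.RingTheory.Etale.Kaehler
import Mathlib.RingTheory.DualNumber
import Mathlib.AlgebraicGeometry.Morphisms.Smooth
import Mathlib.FieldTheory.IsAlgClosed.AlgebraicClosure

/-!
The relative dimension of a smooth algebra given by equations, from its tangent spaces at geometric points.
-/

universe u

open MvPolynomial TensorProduct CategoryTheory AlgebraicGeometry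

namespace Groth.Agent.QuadH13

set_option backward.isDefEq.respectTransparency.types false

variable {R : Type u} [CommRing R] {σ : Type} [Fintype σ] [DecidableEq σ] {κ : Type} [Fintype κ]
  (F : κ → MvPolynomial σ R)

/-- The tangent space at a solution of the equations. -/
def tanSpace {L : Type u} [CommRing L] [Algebra R L] (v : σ → L) : Submodule L (σ → L) where
  carrier := {w | ∀ k, ∑ i, aeval v (pderiv i (F k)) * w i = 0}
  add_mem' := fun {a b} ha hb k ↦ by simp only [Pi.add_apply, mul_add, Finset.sum_add_distrib, ha k, hb k, add_zero]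
  zero_mem' := fun k ↦ by simp
  smul_mem' := fun c a ha k ↦ by
    simp only [Pi.smul_apply, smul_eq_mul, mul_left_comm _ c, ← Finset.mul_sum, ha k, mul_zero]

theorem mem_tanSpace {L : Type u} [CommRing L] [Algebra R L] {v w : σ → L} :
    w ∈ tanSpace F v ↔ ∀ k, ∑ i, aeval v (pderiv i (F k)) * w i = 0 := Iff.rfl

open TrivSqZeroExt in
theorem aeval_dualNumber {L : Type u} [CommRing L] [Algebra R L] (v w : σ → L) (p : MvPolynomial σ R) :
    aeval (fun i ↦ (inl (v i) + inr (w i) : DualNumber L)) p =
      inl (aeval v p) + inr (∑ i, aeval v (pderiv i p) * w i) := by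
  let I : Ideal (DualNumber L) := RingHom.ker (TrivSqZeroExt.fstHom L L L).toRingHom
  have hI : ∀ x ∈ I, ∀ y ∈ I, x * y = 0 := by
    intro x hx y hy
    have hx' : x.fst = 0 := hx
    have hy' : y.fst = 0 := hy
    ext <;> simp [hx', hy']
  have hinl : ∀ q : MvPolynomial σ R, aeval (fun i ↦ (inl (v i) : DualNumber L)) q = inl (aeval v q) := fun q ↦ by
    have h : aeval (fun i ↦ (inl (v i) : DualNumber L)) =
        ((TrivSqZeroExt.inlAlgHom L L L).restrictScalars R).comp (aeval v) :=
      MvPolynomial.algHom_ext fun i ↦ by simp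
    rw [h]; rfl
  have := aeval_add_of_sq_zero hI (fun i ↦ (inl (v i) : DualNumber L)) (fun i ↦ inr (w i))
    (fun i ↦ by simp [I]) p
  rw [show (fun i ↦ (inl (v i) + inr (w i) : DualNumber L)) =
    (fun i ↦ (inl (v i) : DualNumber L)) + fun i ↦ inr (w i) from rfl, this]
  simp only [hinl, inl_mul_inr, smul_eq_mul]
  refine congrArg _ ?_
  ext <;> simp [fst_sum, snd_sum]

section Deriv

variable (L : Type u) [CommRing L] [Algebra R L] [Algebra (eqAlg F) L] [IsScalarTower R (eqAlg F) L]

/-- The coordinates of the point. -/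
noncomputable abbrev ptOf : σ → L := fun i ↦ algebraMap (eqAlg F) L (Ideal.Quotient.mk _ (X i))

theorem aeval_ptOf (p : MvPolynomial σ R) :
    aeval (ptOf F L) p = algebraMap (eqAlg F) L (Ideal.Quotient.mk _ p) := by
  have h : aeval (ptOf F L) = ((IsScalarTower.toAlgHom R (eqAlg F) L).comp (Ideal.Quotient.mkₐ R _)) :=
    MvPolynomial.algHom_ext fun i ↦ by simp [ptOf]
  rw [h]; rfl

theorem deriv_mk (D : Derivation R (eqAlg F) L) (p : MvPolynomial σ R) :
    D (Ideal.Quotient.mk _ p) = ∑ i, aeval (ptOf F L) (pderiv i p) * D (Ideal.Quotient.mk _ (X i)) := by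
  induction p using MvPolynomial.induction_on with
  | C r =>
    rw [show Ideal.Quotient.mk (Ideal.span (Set.range F)) (C r) = algebraMap R (eqAlg F) r from rfl,
      Derivation.map_algebraMap]
    simp
  | add p q hp hq => rw [map_add, map_add, hp, hq, ← Finset.sum_add_distrib]; simp [add_mul]
  | mul_X p j hp =>
    rw [map_mul, Derivation.leibniz, hp, Algebra.smul_def, Algebra.smul_def, ← aeval_ptOf F L, Finset.mul_sum,
      show D (Ideal.Quotient.mk _ (X j)) = ∑ i, (if i = j then D (Ideal.Quotient.mk _ (X i)) else 0) by simp,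
      Finset.mul_sum, ← Finset.sum_add_distrib]
    refine Finset.sum_congr rfl fun i _ ↦ ?_
    by_cases hij : i = j
    · subst hij; simp [pderiv_mul, ptOf]; ring
    · simp [pderiv_mul, pderiv_X_of_ne (Ne.symm hij), hij, ptOf]; ring

open TrivSqZeroExt in
/-- Derivations are the vectors of the tangent space. -/
theorem finrank_derivation :
    Module.finrank L (Derivation R (eqAlg F) L) = Module.finrank L (tanSpace F (ptOf F L)) := by
  let f : Derivation R (eqAlg F) L →ₗ[L] tanSpace F (ptOf F L) :=
    { toFun := fun D ↦ ⟨fun i ↦ D (Ideal.Quotient.mk _ (X i)), fun k ↦ by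
        rw [← deriv_mk, Ideal.Quotient.eq_zero_iff_mem.2 (Ideal.subset_span (Set.mem_range_self k)), map_zero]⟩
      map_add' := fun D D' ↦ rfl
      map_smul' := fun c D ↦ rfl }
  refine LinearEquiv.finrank_eq (LinearEquiv.ofBijective f ⟨fun D D' h ↦ ?_, fun ⟨w, hw⟩ ↦ ?_⟩)
  · ext u
    obtain ⟨p, rfl⟩ := Ideal.Quotient.mk_surjective u
    rw [deriv_mk, deriv_mk]
    exact Finset.sum_congr rfl fun i _ ↦ by rw [show D (Ideal.Quotient.mk _ (X i)) = _ from congrFun (congrArg Subtype.val h) i]; rfl
  · let ψ : eqAlg F →ₐ[R] DualNumber L := (eqPoints F _).symm ⟨fun i ↦ inl (ptOf F L i) + inr (w i), fun k ↦ by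
      rw [aeval_dualNumber, hw k, aeval_ptOf, Ideal.Quotient.eq_zero_iff_mem.2 (Ideal.subset_span (Set.mem_range_self k)),
        map_zero, inl_zero, inr_zero, add_zero]⟩
    have hψ : ∀ p, ψ (Ideal.Quotient.mk _ p) =
        inl (aeval (ptOf F L) p) + inr (∑ i, aeval (ptOf F L) (pderiv i p) * w i) := fun p ↦ by
      rw [← aeval_dualNumber]; rfl
    have hfst : ∀ u, (ψ u).fst = algebraMap (eqAlg F) L u := fun u ↦ by
      obtain ⟨p, rfl⟩ := Ideal.Quotient.mk_surjective u
      rw [hψ, aeval_ptOf]; simp
    let D : Derivation R (eqAlg F) L := Derivation.mk'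
      { toFun := fun u ↦ (ψ u).snd
        map_add' := fun a b ↦ by simp
        map_smul' := fun r a ↦ by simp }
      fun a b ↦ by
        simp only [LinearMap.coe_mk, AddHom.coe_mk, map_mul, TrivSqZeroExt.snd_mul, hfst, smul_eq_mul,
          op_smul_eq_smul, Algebra.smul_def]
    refine ⟨D, Subtype.ext (funext fun i ↦ ?_)⟩
    change (ψ (Ideal.Quotient.mk _ (X i))).snd = w i
    rw [hψ]
    simp [pderiv_X, Pi.single_apply, apply_ite (aeval (ptOf F L))]

end Deriv

theorem finrank_derivation_eq {U : Type u} [CommRing U] [Algebra R U] (L : Type u) [Field L] [Algebra R L]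
    [Algebra U L] [IsScalarTower R U L] :
    Module.finrank L (Derivation R U L) = Module.finrank L (L ⊗[U] Ω[U⁄R]) := by
  let e₁ : (Ω[U⁄R] →ₗ[U] L) ≃ₗ[L] Derivation R U L :=
    { (KaehlerDifferential.linearMapEquivDerivation R U).toEquiv with
      map_add' := fun a b ↦ map_add (KaehlerDifferential.linearMapEquivDerivation R U) a b
      map_smul' := fun c f ↦ by ext u; rfl }
  rw [← Subspace.dual_finrank_eq (V := L ⊗[U] Ω[U⁄R]), ← e₁.finrank_eq]
  exact LinearEquiv.finrank_eq (LinearMap.liftBaseChangeEquiv L)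

/-- A smooth algebra given by equations is of relative dimension `d` if its tangent spaces at geometric points are. -/
theorem smoothOfRelativeDimension_eqAlg [Algebra.Smooth R (eqAlg F)] (d : ℕ)
    (h : ∀ (L : Type u) [Field L] [IsAlgClosed L] [Algebra R L] (v : σ → L), (∀ k, aeval v (F k) = 0) →
      Module.finrank L (tanSpace F v) = d) :
    SmoothOfRelativeDimension d (Spec.map (CommRingCat.ofHom (algebraMap R (eqAlg F)))) := by
  rw [HasRingHomProperty.Spec_iff (P := @SmoothOfRelativeDimension d)]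
  refine ⟨{f | Algebra.IsStandardSmoothOfRelativeDimension d R (Localization.Away f)}, ?_, fun f hf ↦ ?_⟩
  · by_contra hne
    obtain ⟨M, hM, hle⟩ := Ideal.exists_le_maximal _ hne
    haveI : Algebra.IsSmoothAt R M := inferInstance
    obtain ⟨f, hfM, hf⟩ := Algebra.IsSmoothAt.exists_notMem_isStandardSmooth R M
    refine hfM (hle (Ideal.subset_span ?_))
    change Algebra.IsStandardSmoothOfRelativeDimension d R (Localization.Away f)
    let Uf := Localization.Away f
    letI := Ideal.Quotient.field M
    let L := AlgebraicClosure (eqAlg F ⧸ M)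
    haveI : IsScalarTower R (eqAlg F) L := IsScalarTower.of_algebraMap_eq (R := R) (S := eqAlg F) (A := L) fun r ↦ by
      rw [IsScalarTower.algebraMap_apply R (eqAlg F ⧸ M) L r, IsScalarTower.algebraMap_apply R (eqAlg F) (eqAlg F ⧸ M) r,
        ← IsScalarTower.algebraMap_apply (eqAlg F) (eqAlg F ⧸ M) L]
    let φ : Uf →+* L := IsLocalization.Away.lift f (g := algebraMap (eqAlg F) L) (by
      refine (IsUnit.mk0 _ fun h0 ↦ hfM (Ideal.Quotient.eq_zero_iff_mem.1 ?_))
      refine (algebraMap (eqAlg F ⧸ M) L).injective ?_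
      rw [map_zero, ← h0, IsScalarTower.algebraMap_apply (eqAlg F) (eqAlg F ⧸ M) L]; rfl)
    letI : Algebra Uf L := φ.toAlgebra
    haveI : IsScalarTower (eqAlg F) Uf L := IsScalarTower.of_algebraMap_eq fun u ↦
      (IsLocalization.Away.lift_eq f _ u).symm
    haveI : Nontrivial Uf := φ.domain_nontrivial
    haveI : Algebra.FormallyEtale (eqAlg F) Uf := Algebra.FormallyEtale.of_isLocalization (Submonoid.powers f)
    rw [Algebra.IsStandardSmoothOfRelativeDimension.iff_of_isStandardSmooth]
    have hd : Module.finrank L (L ⊗[eqAlg F] Ω[eqAlg F⁄R]) = d := by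
      rw [← finrank_derivation_eq, finrank_derivation]
      exact h L _ fun k ↦ by
        rw [aeval_ptOf, Ideal.Quotient.eq_zero_iff_mem.2 (Ideal.subset_span (Set.mem_range_self k)), map_zero]
    have e : L ⊗[Uf] Ω[Uf⁄R] ≃ₗ[L] L ⊗[eqAlg F] Ω[eqAlg F⁄R] :=
      (AlgebraTensorModule.congr (LinearEquiv.refl L L)
        (KaehlerDifferential.tensorKaehlerEquivOfFormallyEtale R (eqAlg F) Uf).symm).trans
        (AlgebraTensorModule.cancelBaseChange (eqAlg F) Uf L L Ω[eqAlg F⁄R])
    rw [← e.finrank_eq, Module.finrank_baseChange] at hd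
    rw [← Module.finrank_eq_rank, hd]
  · rw [CommRingCat.hom_ofHom, ← IsScalarTower.algebraMap_eq]
    change RingHom.IsStandardSmoothOfRelativeDimension d (algebraMap R (Localization.Away f))
    rw [RingHom.isStandardSmoothOfRelativeDimension_algebraMap]
    exact hf

end Groth.Agent.QuadH13
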