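import Groth.Agent.Lib.QuadH13.EvenFppf28

/-!
The centre of the even Clifford algebra of a regular form of even rank, and the Azumaya property over it.
-/

universe u v w

open CliffordAlgebra Groth.Agent.QuadH13 TensorProduct

namespace Groth.Agent.EvenCliff28

section Centre

variable {A : Type u} [CommRing A] (A' : Type w) [CommRing A'] [Algebra A A'] {C : Type v} [Ring C] [Algebra A C]
  {Z : Type v} [CommRing Z] [Algebra A Z] [Algebra Z C] [IsScalarTower A Z C]

/-- Base change of the centre. -/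
noncomputable def centerMap : A' ⊗[A] Z →ₐ[A'] A' ⊗[A] C :=
  Algebra.TensorProduct.map (AlgHom.id A' A') (IsScalarTower.toAlgHom A Z C)

theorem centerMap_injective [Module.Flat A A'] (hz : Function.Injective (algebraMap Z C)) : Function.Injective (centerMap A' (A := A) (C := C) (Z := Z)) :=
  Module.Flat.lTensor_preserves_injective_linearMap (M := A') (IsScalarTower.toAlgHom A Z C).toLinearMap
    hz

theorem centerMap_comm (ζ : A' ⊗[A] Z) (ξ : A' ⊗[A] C) :
    centerMap (A := A) (C := C) (Z := Z) A' ζ * ξ = ξ * centerMap (A := A) (C := C) (Z := Z) A' ζ := by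
  induction ζ using TensorProduct.induction_on with
  | zero => simp
  | add a b ha hb => rw [map_add, add_mul, mul_add, ha, hb]
  | tmul a z =>
    induction ξ using TensorProduct.induction_on with
    | zero => simp
    | add x y hx hy => rw [mul_add, add_mul, hx, hy]
    | tmul c y =>
      simp only [centerMap, Algebra.TensorProduct.map_tmul, AlgHom.id_apply, IsScalarTower.coe_toAlgHom',
        Algebra.TensorProduct.tmul_mul_tmul]
      rw [mul_comm a c, Algebra.commutes z y]

theorem exists_centerMap [Module.Flat A A'] [Module.Finite A C]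
    (hc : ∀ x : C, (∀ y, y * x = x * y) → ∃ z, algebraMap Z C z = x) {ξ : A' ⊗[A] C} (h : ∀ η, η * ξ = ξ * η) :
    ∃ ζ, centerMap (A := A) (C := C) (Z := Z) A' ζ = ξ := by
  classical
  obtain ⟨k, g, hg⟩ := Module.Finite.exists_fin (R := A) (M := C)
  let ψ : C →ₗ[A] (Fin k → C) := LinearMap.pi fun i ↦ LinearMap.mulLeft A (g i) - LinearMap.mulRight A (g i)
  have hex : Function.Exact (IsScalarTower.toAlgHom A Z C).toLinearMap ψ := by
    intro x
    constructor
    · intro hx
      refine hc x fun y ↦ ?_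
      have hy : y ∈ Submodule.span A (Set.range g) := hg ▸ Submodule.mem_top
      induction hy using Submodule.span_induction with
      | mem y hy => obtain ⟨i, rfl⟩ := hy; exact sub_eq_zero.1 (congrFun hx i)
      | zero => simp
      | add a b _ _ ha hb => rw [add_mul, mul_add, ha, hb]
      | smul r a _ ha => rw [smul_mul_assoc, mul_smul_comm, ha]
    · rintro ⟨z, rfl⟩
      funext i
      exact sub_eq_zero.2 (Algebra.commutes z (g i)).symm
  have hξ : ψ.lTensor A' ξ = 0 := by
    apply (TensorProduct.piRight A A A' fun _ : Fin k ↦ C).injective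
    rw [map_zero]
    funext i
    have key : ∀ η, TensorProduct.piRight A A A' (fun _ : Fin k ↦ C) (ψ.lTensor A' η) i =
        ((1 : A') ⊗ₜ g i) * η - η * (1 ⊗ₜ g i) := by
      intro η
      induction η using TensorProduct.induction_on with
      | zero => simp
      | add a b ha hb => rw [map_add, map_add, Pi.add_apply, ha, hb, mul_add, add_mul]; abel
      | tmul a x => simp [ψ, tmul_sub]
    rw [key, h, sub_self]
    rfl
  exact (Module.Flat.lTensor_exact A' hex ξ).1 hξ

end Centre

section Main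

variable {A : Type u} [CommRing A] {C : Type v} [Ring C] [Algebra A C]

/-- Central elements of a matrix algebra are scalar. -/
theorem eq_scalar_of_comm {S : Type*} [CommRing S] {N : Type*} [Fintype N] [DecidableEq N] (i₀ : N)
    {M : Matrix N N S} (h : ∀ T, T * M = M * T) : M = Matrix.scalar N (M i₀ i₀) := by
  obtain ⟨c, hc⟩ := Matrix.mem_range_scalar_of_commute_single (M := M) fun i j _ ↦ h _
  rw [← hc]
  simp

set_option maxHeartbeats 1000000 in
theorem center_of_split {N : Type} [Fintype N] [DecidableEq N] (i₀ : N) (A' : Type w) [CommRing A'] [Algebra A A']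
    [Module.FaithfullyFlat A A'] [Module.Finite A C] [Module.Projective A C]
    (Φ : (A' ⊗[A] C) ≃ₐ[A'] Matrix N N A' × Matrix N N A') {Z : Type v} [CommRing Z] [Algebra A Z] [Algebra Z C]
    [IsScalarTower A Z C] (hz : Function.Injective (algebraMap Z C))
    (hc : ∀ x : C, (∀ y, y * x = x * y) → ∃ z, algebraMap Z C z = x) :
    Algebra.Etale A Z ∧
      Module.Finite A Z ∧
      Module.Projective A Z ∧
      (∀ p : PrimeSpectrum A, Module.rankAtStalk Z p = 2) ∧
      IsAzumaya Z C := by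
  classical
  let ι' : A' ⊗[A] Z →ₐ[A'] A' ⊗[A] C := centerMap A'
  let π : A' ⊗[A] Z →ₗ[A'] A' × A' :=
    { toFun := fun ζ ↦ ((Φ (ι' ζ)).1 i₀ i₀, (Φ (ι' ζ)).2 i₀ i₀)
      map_add' := fun x y ↦ by simp
      map_smul' := fun c x ↦ by simp }
  have hsc : ∀ ζ, Φ (ι' ζ) = (Matrix.scalar N (π ζ).1, Matrix.scalar N (π ζ).2) := by
    intro ζ
    have hcomm : ∀ p, p * Φ (ι' ζ) = Φ (ι' ζ) * p := fun p ↦ by
      obtain ⟨ξ, rfl⟩ := Φ.surjective p
      rw [← map_mul, ← map_mul, centerMap_comm]
    exact Prod.ext (eq_scalar_of_comm i₀ fun T ↦ congrArg Prod.fst (hcomm (T, 0)))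
      (eq_scalar_of_comm i₀ fun T ↦ congrArg Prod.snd (hcomm (0, T)))
  let π' : A' ⊗[A] Z →ₐ[A'] A' × A' := AlgHom.ofLinearMap π
    (by simp [π])
    (fun x y ↦ by
      have h : Φ (ι' (x * y)) = Φ (ι' x) * Φ (ι' y) := by rw [map_mul, map_mul]
      rw [hsc x, hsc y] at h
      refine Prod.ext ?_ ?_
      · show (Φ (ι' (x * y))).1 i₀ i₀ = _
        rw [h]; simp
      · show (Φ (ι' (x * y))).2 i₀ i₀ = _
        rw [h]; simp)
  have hπ : Function.Bijective π' := by
    refine ⟨fun x y h ↦ centerMap_injective A' hz (Φ.injective ?_), fun p ↦ ?_⟩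
    · have h' : π x = π y := h
      rw [hsc, hsc, h']
    · obtain ⟨ξ, hξ⟩ := Φ.surjective (Matrix.scalar N p.1, Matrix.scalar N p.2)
      obtain ⟨ζ, hζ⟩ := exists_centerMap A' hc (ξ := ξ) fun η ↦ Φ.injective (by
        rw [map_mul, map_mul, hξ]
        exact Prod.ext ((Matrix.scalar_commute p.1 (fun r ↦ Commute.all _ _) _).symm)
          ((Matrix.scalar_commute p.2 (fun r ↦ Commute.all _ _) _).symm))
      refine ⟨ζ, ?_⟩
      have hζ' : ι' ζ = ξ := hζ
      show π ζ = p
      simp [π, hζ', hξ]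
  let eZ : (A' ⊗[A] Z) ≃ₐ[A'] A' × A' := AlgEquiv.ofBijective π' hπ
  haveI : Module.Finite A' (A' ⊗[A] Z) := Module.Finite.equiv eZ.symm.toLinearEquiv
  haveI : Module.Projective A' (A' ⊗[A] Z) := Module.Projective.of_equiv eZ.symm.toLinearEquiv
  obtain ⟨hZf, hZp⟩ := Brauer25.finite_projective_descend (R := A) (S := A') (M := Z)
  haveI : Algebra.Etale A' (A' ⊗[A] Z) := by
    haveI : Algebra.Etale A' (A' × A') :=
      Algebra.Etale.of_equiv ({ (LinearEquiv.finTwoArrow A' A') with
        map_mul' := fun _ _ ↦ rfl, commutes' := fun _ ↦ rfl } : (Fin 2 → A') ≃ₐ[A'] A' × A')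
    exact Algebra.Etale.of_equiv eZ.symm
  have hZet : Algebra.Etale A Z := Algebra.Etale.of_etale_tensorProduct_of_faithfullyFlat A'
  refine ⟨hZet, hZf, hZp, fun p ↦ ?_, ?_⟩
  · obtain ⟨q, rfl⟩ := PrimeSpectrum.comap_surjective_of_faithfullyFlat (A := A) (B := A') p
    haveI : Nontrivial A' := ⟨⟨0, 1, fun h ↦ q.2.ne_top (Ideal.eq_top_iff_one _ |>.2 (h ▸ q.asIdeal.zero_mem))⟩⟩
    rw [← Module.rankAtStalk_baseChange, Module.rankAtStalk_eq_of_equiv eZ.toLinearEquiv,
      Module.rankAtStalk_eq_finrank_of_free]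
    simp
  -- Azumaya over the centre
  let Z' := A' ⊗[A] Z
  letI : Algebra Z Z' := Algebra.TensorProduct.rightAlgebra
  let cE : (Z ⊗[A] A') ≃ₗ[Z] Z' :=
    { toAddEquiv := (Algebra.TensorProduct.comm A Z A').toAddEquiv
      map_smul' := fun c x ↦ by
        induction x using TensorProduct.induction_on with
        | zero => simp
        | add a b ha hb =>
          change Algebra.TensorProduct.comm A Z A' (c • (a + b)) = c • Algebra.TensorProduct.comm A Z A' (a + b)
          change Algebra.TensorProduct.comm A Z A' (c • a) = c • Algebra.TensorProduct.comm A Z A' a at ha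
          change Algebra.TensorProduct.comm A Z A' (c • b) = c • Algebra.TensorProduct.comm A Z A' b at hb
          rw [smul_add, map_add, map_add, ha, hb, smul_add]
        | tmul z a =>
          simp only [TensorProduct.smul_tmul', smul_eq_mul, RingHom.id_apply]
          show a ⊗ₜ (c * z) = _
          rw [Algebra.smul_def]
          show a ⊗ₜ (c * z) = ((1 : A') ⊗ₜ c) * (a ⊗ₜ z)
          rw [Algebra.TensorProduct.tmul_mul_tmul, one_mul] }
  haveI : Module.FaithfullyFlat Z Z' := Module.FaithfullyFlat.of_linearEquiv _ _ cE.symm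
  let incC : C →ₐ[A] A' ⊗[A] C := Algebra.TensorProduct.includeRight
  let zmap : Z' →+* Matrix N N (A' × A') := (Matrix.scalar N).comp π'.toRingHom
  let zip : (Matrix N N A' × Matrix N N A') ≃+* Matrix N N (A' × A') :=
    { toFun := fun p ↦ Matrix.of fun i j ↦ (p.1 i j, p.2 i j)
      invFun := fun M ↦ (M.map Prod.fst, M.map Prod.snd)
      left_inv := fun p ↦ rfl
      right_inv := fun M ↦ rfl
      map_mul' := fun p q ↦ by
        ext i j <;> simp [Matrix.mul_apply, Prod.fst_sum, Prod.snd_sum]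
      map_add' := fun p q ↦ rfl }
  let S : Matrix N N (A' × A') ≃+* Matrix N N Z' := eZ.symm.toRingEquiv.mapMatrix
  let Θ : A' ⊗[A] C ≃+* Matrix N N Z' := (Φ.toRingEquiv.trans zip).trans S
  have hΘ : ∀ ζ : Z', Θ (ι' ζ) = Matrix.scalar N ζ := by
    intro ζ
    show S (zip (Φ (ι' ζ))) = _
    rw [hsc]
    refine Matrix.ext fun i j ↦ ?_
    show eZ.symm (Matrix.scalar N (π ζ).1 i j, Matrix.scalar N (π ζ).2 i j) = Matrix.scalar N ζ i j
    rcases eq_or_ne i j with rfl | hij
    · simp only [Matrix.scalar_apply, Matrix.diagonal_apply_eq]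
      exact eZ.symm_apply_apply ζ
    · simp only [Matrix.scalar_apply, Matrix.diagonal_apply_ne _ hij]
      exact map_zero eZ.symm
  let toM : C →ₐ[Z] Matrix N N Z' :=
    { toRingHom := Θ.toRingHom.comp incC.toRingHom
      commutes' := fun z ↦ by
        show Θ ((1 : A') ⊗ₜ (algebraMap Z C z)) = _
        exact (hΘ ((1 : A') ⊗ₜ z)).trans (by rw [Matrix.algebraMap_eq_diagonal]; rfl) }
  let L : Z' ⊗[Z] C →ₐ[Z'] Matrix N N Z' := AlgHom.liftEquiv Z Z' C (Matrix N N Z') toM
  have hL : ∀ ζ c, L (ζ ⊗ₜ c) = ζ • toM c := fun _ _ ↦ rfl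
  have hLΘ : ∀ a c, L ((a ⊗ₜ (1 : Z)) ⊗ₜ c) = Θ (a ⊗ₜ c) := by
    intro a c
    rw [hL, Algebra.smul_def, Matrix.algebraMap_eq_diagonal]
    show Matrix.scalar N (a ⊗ₜ (1 : Z)) * Θ ((1 : A') ⊗ₜ c) = _
    rw [← hΘ, ← map_mul]
    congr 1
    simp [ι', centerMap]
  let back : A' ⊗[A] C →ₗ[A] Z' ⊗[Z] C := TensorProduct.lift
    (LinearMap.mk₂ A (fun a c ↦ (a ⊗ₜ[A] (1 : Z)) ⊗ₜ[Z] c) (fun a a' c ↦ by simp [add_tmul])
      (fun r a c ↦ by rw [← TensorProduct.smul_tmul', ← TensorProduct.smul_tmul']) (fun a c c' ↦ by simp [tmul_add])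
      (fun r a c ↦ by rw [TensorProduct.tmul_smul]))
  have hbs : Function.Surjective back := by
    intro y
    induction y using TensorProduct.induction_on with
    | zero => exact ⟨0, map_zero _⟩
    | add x y hx hy => obtain ⟨p, rfl⟩ := hx; obtain ⟨q, rfl⟩ := hy; exact ⟨p + q, map_add _ _ _⟩
    | tmul ζ c =>
      induction ζ using TensorProduct.induction_on with
      | zero => exact ⟨0, by simp⟩
      | add x y hx hy =>
        obtain ⟨p, hp⟩ := hx; obtain ⟨q, hq⟩ := hy; exact ⟨p + q, by rw [map_add, hp, hq, ← add_tmul]⟩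
      | tmul a z =>
        refine ⟨a ⊗ₜ (algebraMap Z C z * c), ?_⟩
        show ((a ⊗ₜ (1 : Z) : Z') ⊗ₜ[Z] (algebraMap Z C z * c)) = _
        rw [← Algebra.smul_def, TensorProduct.tmul_smul, TensorProduct.smul_tmul', Algebra.smul_def]
        congr 1
        show ((1 : A') ⊗ₜ z) * (a ⊗ₜ (1 : Z)) = _
        rw [Algebra.TensorProduct.tmul_mul_tmul, one_mul, mul_one]
  have hLb : ∀ ξ, L (back ξ) = Θ ξ := by
    intro ξ
    induction ξ using TensorProduct.induction_on with
    | zero => simp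
    | add x y hx hy => simp only [map_add, hx, hy]
    | tmul a c => exact hLΘ a c
  have hLbij : Function.Bijective L := by
    refine ⟨fun x y h ↦ ?_, fun M ↦ ?_⟩
    · obtain ⟨p, rfl⟩ := hbs x; obtain ⟨q, rfl⟩ := hbs y
      rw [hLb, hLb] at h
      rw [Θ.injective h]
    · obtain ⟨ξ, rfl⟩ := Θ.surjective M; exact ⟨back ξ, hLb ξ⟩
  let E := AlgEquiv.ofBijective L hLbij
  haveI : Nonempty N := ⟨i₀⟩
  haveI : IsAzumaya Z' (Matrix N N Z') := IsAzumaya.matrix _ _
  haveI : IsAzumaya Z' (Z' ⊗[Z] C) := IsAzumaya.of_AlgEquiv _ _ _ E.symm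
  obtain ⟨hCfZ, hCpZ⟩ := Brauer25.finite_projective_descend (R := Z) (S := Z') (M := C)
  exact Brauer25.isAzumaya_descend_comap (R := Z) (B := C) Z'
    (PrimeSpectrum.comap_surjective_of_faithfullyFlat (A := Z) (B := Z'))

end Main

end Groth.Agent.EvenCliff28
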