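import Groth.Agent.Lib.QuadH13.SplitFppf
import Groth.Agent.Lib.SmoothSection.Scheme
import Mathlib.RingTheory.Spectrum.Prime.Chevalley

/-!
Forms with unimodular polar matrices are isometric étale-locally as soon as they are so on geometric points.
-/

universe u

open QuadraticMap CategoryTheory AlgebraicGeometry

namespace Groth.Agent.QuadH13

set_option backward.isDefEq.respectTransparency.types false
set_option linter.style.haveILetI false

variable {R : Type u} [CommRing R] {n : ℕ} (a s : Sym2 (Fin n) → R)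

/-- The equations of an isometry. -/
noncomputable def twoFormEqn (q : Sym2 (Fin n)) : MvPolynomial (Fin n × Fin n) R := pairEqn a s 0 (some q)

theorem twoFormEqn_iff {A : Type u} [CommRing A] [Algebra R A] (v : Fin n × Fin n → A) :
    (∀ k, MvPolynomial.aeval v (twoFormEqn a s k) = 0) ↔
      (ofCoeffs (algebraMap R A ∘ a)).comp (gPair v) = ofCoeffs (algebraMap R A ∘ s) := by
  simp only [twoFormEqn, aeval_pairEqn_some, sub_eq_zero]
  refine ⟨fun h ↦ ext_of_coeffs (Pi.basisFun A (Fin n)) (funext fun q ↦ ?_), fun h q ↦ ?_⟩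
  · rw [h, coeffs_ofCoeffs]; rfl
  · rw [h, coeffs_ofCoeffs]; rfl

theorem polarMat_map (A : Type u) [CommRing A] [Algebra R A] :
    polarMat (Pi.basisFun A (Fin n)) (ofCoeffs (algebraMap R A ∘ s)) =
      (algebraMap R A).mapMatrix (polarMat (Pi.basisFun R (Fin n)) (ofCoeffs s)) := by
  refine Matrix.ext fun i j ↦ ?_
  rw [RingHom.mapMatrix_apply, Matrix.map_apply, polarMat_eq_coeffs, polarMat_eq_coeffs, coeffs_ofCoeffs,
    coeffs_ofCoeffs]
  split_ifs <;> simp [map_mul, map_ofNat]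

theorem smooth_twoFormAlg (hs : IsUnit (polarMat (Pi.basisFun R (Fin n)) (ofCoeffs s)).det) :
    Algebra.Smooth R (eqAlg (twoFormEqn a s)) := by
  classical
  refine smooth_eqAlg (twoFormEqn a s) fun A _ _ _ I _ hI2 v hv ↦ ?_
  have hI0 : ∀ x ∈ I, ∀ y ∈ I, x * y = 0 := fun x hx y hy ↦ by
    have : x * y ∈ I ^ 2 := by rw [pow_two]; exact Ideal.mul_mem_mul hx hy
    rwa [hI2, Ideal.mem_bot] at this
  let b := Pi.basisFun A (Fin n)
  let Qs : QuadraticForm A (Fin n → A) := ofCoeffs (algebraMap R A ∘ s)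
  let g := gPair v
  let Q₁ : QuadraticForm A (Fin n → A) := (ofCoeffs (algebraMap R A ∘ a)).comp g
  have hd : ∀ q, QuadGrp.coeffs b (LinearEquiv.refl A A) Q₁ q -
      QuadGrp.coeffs b (LinearEquiv.refl A A) Qs q ∈ I := fun q ↦ by
    rw [show QuadGrp.coeffs b (LinearEquiv.refl A A) Qs = algebraMap R A ∘ s from coeffs_ofCoeffs _,
      Function.comp_apply, ← aeval_pairEqn_some a s 0 v]
    exact hv _
  have hg : ∀ w, Q₁ w - Qs w ∈ I := by
    intro w
    rw [← b.sum_repr w, apply_eq_triSum, apply_eq_triSum, triSum, triSum, ← Finset.sum_sub_distrib]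
    refine I.sum_mem fun i _ ↦ ?_
    rw [← Finset.sum_sub_distrib]
    refine I.sum_mem fun j _ ↦ ?_
    split_ifs
    · rw [← sub_mul]
      exact I.mul_mem_right _ (hd _)
    · rw [sub_zero]; exact I.zero_mem
  have hP : IsUnit (polarMat b Qs).det := by
    rw [polarMat_map, ← RingHom.map_det]; exact hs.map _
  let β : Matrix (Fin n) (Fin n) A := Matrix.of fun i j ↦
    if i ≤ j then QuadGrp.coeffs b (LinearEquiv.refl A A) Qs s(i, j) -
      QuadGrp.coeffs b (LinearEquiv.refl A A) Q₁ s(i, j) else 0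
  have hβ : ∀ i j, β i j ∈ I := fun i j ↦ by
    simp only [β, Matrix.of_apply]; split_ifs
    · rw [← neg_sub]; exact I.neg_mem (hd _)
    · exact I.zero_mem
  let Y := (polarMat b Qs)⁻¹ * β
  have hPY : polarMat b Qs * Y = β := Matrix.mul_nonsing_inv_cancel_left _ _ hP
  let g' : (Fin n → A) →ₗ[A] (Fin n → A) := g ∘ₗ (LinearMap.id + Matrix.toLin b b Y)
  let v' : Fin n × Fin n → A := fun ij ↦ LinearMap.toMatrix b b g' ij.1 ij.2
  have hv' : gPair v' = g' := Matrix.toLin_toMatrix _ _ g'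
  have hcomp : (ofCoeffs (algebraMap R A ∘ a)).comp g' = Qs := by
    rw [show (ofCoeffs (algebraMap R A ∘ a)).comp g' = Q₁.comp (LinearMap.id + Matrix.toLin b b Y) from
      QuadraticMap.ext fun _ ↦ rfl]
    refine ext_of_coeffs b (funext fun q ↦ ?_)
    induction q using Sym2.ind with
    | _ i j =>
      rw [coeffs_comp_one_add Qs b hI0 Q₁ hg Y (inv_mul_mem hβ) i j, hPY]
      simp only [β, Matrix.of_apply]
      rcases lt_trichotomy i j with h | h | h
      · simp [h.ne, h.le, h.not_ge]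
      · subst h; simp
      · simp [h.ne', h.le, h.not_ge, Sym2.eq_swap]
  refine ⟨v' - v, fun ij ↦ ?_, ?_⟩
  · have h1 : LinearMap.toMatrix b b g' = Matrix.of (fun i j ↦ v (i, j)) +
        Matrix.of (fun i j ↦ v (i, j)) * Y := by
      rw [LinearMap.toMatrix_comp b b b, map_add, LinearMap.toMatrix_id, LinearMap.toMatrix_toLin,
        LinearMap.toMatrix_toLin, mul_add, mul_one]
    change LinearMap.toMatrix b b g' ij.1 ij.2 - v ij ∈ I
    rw [h1, Matrix.add_apply, Matrix.of_apply, add_sub_cancel_left, Matrix.mul_apply]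
    exact I.sum_mem fun k _ ↦ I.mul_mem_left _ (inv_mul_mem hβ k ij.2)
  · rw [add_sub_cancel]
    exact (twoFormEqn_iff a s v').2 (by rw [hv']; exact hcomp)

theorem isUnit_det_of_comp_eq {A : Type u} [CommRing A] (v : Fin n × Fin n → A)
    (Q Q' : QuadraticForm A (Fin n → A)) (h : Q.comp (gPair v) = Q')
    (hQ' : IsUnit (polarMat (Pi.basisFun A (Fin n)) Q').det) :
    IsUnit (Matrix.of fun i j ↦ v (i, j)).det := by
  rw [← h, polarMat_comp, Matrix.det_mul, Matrix.det_mul, Matrix.det_transpose, LinearMap.toMatrix_toLin] at hQ'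
  exact (IsUnit.mul_iff.1 hQ').2

/-- Two forms, the second with unimodular polar matrix, which become isometric at every geometric point, become
isometric on a finite étale covering. -/
theorem exists_etale_isometry (hs : IsUnit (polarMat (Pi.basisFun R (Fin n)) (ofCoeffs s)).det)
    (hpts : ∀ p : PrimeSpectrum R, ∃ v : Fin n × Fin n → AlgebraicClosure p.asIdeal.ResidueField,
      (ofCoeffs (algebraMap R (AlgebraicClosure p.asIdeal.ResidueField) ∘ a)).comp (gPair v) =
        ofCoeffs (algebraMap R (AlgebraicClosure p.asIdeal.ResidueField) ∘ s)) :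
    ∃ (N : ℕ) (B : Fin N → Type u) (_ : ∀ t, CommRing (B t)) (_ : ∀ t, Algebra R (B t)),
      (∀ t, Algebra.Etale R (B t)) ∧
      (∀ p : PrimeSpectrum R, ∃ (t : Fin N) (q : PrimeSpectrum (B t)),
        q.asIdeal.comap (algebraMap R (B t)) = p.asIdeal) ∧
      ∀ t, ∃ v : Fin n × Fin n → B t, IsUnit (Matrix.of fun i j ↦ v (i, j)).det ∧
        (ofCoeffs (algebraMap R (B t) ∘ a)).comp (gPair v) = ofCoeffs (algebraMap R (B t) ∘ s) := by
  classical
  let S := eqAlg (twoFormEqn a s)
  haveI : Algebra.Smooth R S := smooth_twoFormAlg a s hs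
  let f : Spec (CommRingCat.of S) ⟶ Spec (CommRingCat.of R) :=
    Spec.map (CommRingCat.ofHom (algebraMap R S))
  haveI : Smooth f :=
    (HasRingHomProperty.Spec_iff (P := @Smooth)).2 (RingHom.smooth_algebraMap.2 inferInstance)
  have key : ∀ p : PrimeSpectrum R, ∃ (B : Type u) (_ : CommRing B) (_ : Algebra R B) (_ : S →ₐ[R] B),
      Algebra.Etale R B ∧ ∃ q : PrimeSpectrum B, PrimeSpectrum.comap (algebraMap R B) q = p := by
    intro p
    obtain ⟨v, hv⟩ := hpts p
    let φ := (eqPoints (twoFormEqn a s) _).symm ⟨v, (twoFormEqn_iff a s v).2 hv⟩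
    let P : PrimeSpectrum S := ⟨RingHom.ker φ, RingHom.ker_isPrime φ⟩
    have hP : f P = p := by
      refine PrimeSpectrum.ext (Ideal.ext fun r ↦ ?_)
      change φ (algebraMap R S r) = 0 ↔ _
      rw [AlgHom.commutes, IsScalarTower.algebraMap_apply R p.asIdeal.ResidueField
        (AlgebraicClosure p.asIdeal.ResidueField), map_eq_zero, Ideal.algebraMap_residueField_eq_zero]
    obtain ⟨S', g, s', hg, hs', h, hh⟩ := SmoothSection.exists_etale_section f P
    obtain ⟨_, ⟨W, hW, rfl⟩, hs'W, -⟩ :=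
      S'.isBasis_affineOpens.exists_subset_of_mem_open (Set.mem_univ s') isOpen_univ
    obtain ⟨z, hz⟩ : ∃ z, hW.fromSpec z = s' := by
      have : s' ∈ Set.range hW.fromSpec := by rw [hW.range_fromSpec]; exact hs'W
      exact this
    obtain ⟨φB, hφB⟩ : ∃ φB : CommRingCat.of R ⟶ Γ(S', W), Spec.map φB = hW.fromSpec ≫ g :=
      ⟨_, Spec.map_preimage _⟩
    obtain ⟨ψ, hψ⟩ : ∃ ψ : CommRingCat.of S ⟶ Γ(S', W), Spec.map ψ = hW.fromSpec ≫ h :=
      ⟨_, Spec.map_preimage _⟩
    letI : Algebra R Γ(S', W) := φB.hom.toAlgebra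
    have hc : CommRingCat.ofHom (algebraMap R S) ≫ ψ = φB := by
      apply Spec.map_injective
      rw [Spec.map_comp, hψ, Category.assoc, hh, hφB]
    have het : Algebra.Etale R Γ(S', W) := by
      rw [← RingHom.etale_algebraMap]
      have : Etale (Spec.map φB) := by rw [hφB]; infer_instance
      exact (HasRingHomProperty.Spec_iff (P := @Etale)).1 this
    refine ⟨Γ(S', W), inferInstance, inferInstance,
      { toRingHom := ψ.hom, commutes' := fun r ↦ congrArg (fun e : CommRingCat.of R ⟶ Γ(S', W) ↦ e.hom r) hc },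
      het, z, ?_⟩
    rw [← hP, ← hs', ← hz]
    change Spec.map φB z = _
    rw [hφB]
    rfl
  choose B iR iA ψ het q hq using key
  obtain ⟨T, hT⟩ := (isCompact_univ (X := PrimeSpectrum R)).elim_finite_subcover
    (fun p ↦ Set.range (PrimeSpectrum.comap (algebraMap R (B p))))
    (fun p ↦ (PrimeSpectrum.isOpenMap_comap_of_hasGoingDown_of_finitePresentation (R := R) (S := B p)).isOpen_range)
    (fun p _ ↦ Set.mem_iUnion.2 ⟨p, q p, hq p⟩)
  let e := T.equivFin.symm
  refine ⟨T.card, fun t ↦ B (e t).1, fun t ↦ iR _, fun t ↦ iA _, fun t ↦ het _, fun p ↦ ?_, fun t ↦ ?_⟩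
  · obtain ⟨i, hi, z, hz⟩ := by simpa only [Set.mem_iUnion] using hT (Set.mem_univ p)
    obtain ⟨t, ht⟩ := e.surjective ⟨i, hi⟩
    refine ⟨t, ?_⟩
    have h1 : (e t).1 = i := congrArg Subtype.val ht
    subst h1
    exact ⟨z, congrArg PrimeSpectrum.asIdeal hz⟩
  · obtain ⟨v, hv⟩ : ∃ v : Fin n × Fin n → B (e t).1, ∀ k, MvPolynomial.aeval v (twoFormEqn a s k) = 0 :=
      ⟨_, (eqPoints (twoFormEqn a s) (B (e t).1) (ψ (e t).1)).2⟩
    have h := (twoFormEqn_iff a s v).1 hv
    exact ⟨v, isUnit_det_of_comp_eq v _ _ h (by rw [polarMat_map, ← RingHom.map_det]; exact hs.map _), h⟩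

end Groth.Agent.QuadH13
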