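import Groth.Agent.Lib.QuadH13.EvenSplitModel28
import Groth.Agent.S3215
import Groth.Agent.Lib.Brauer25.AzumayaOps

/-!
Regular even forms are etale locally hyperbolic; consequences for the centre of the even Clifford algebra.
-/

universe u v w

open CliffordAlgebra Groth.Agent.QuadH13 QuadraticMap TensorProduct

namespace Groth.Agent.EvenCliff28

variable {A : Type u} [CommRing A] {V : Type v} [AddCommGroup V] [Module A V] {Q : QuadraticForm A V}

theorem exists_etale_hyp {m : ℕ} (b : Module.Basis (Fin (m + m)) A V) (hQ : QuadGrp.IsRegular Q) :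
    ∃ (A' : Type u) (_ : CommRing A') (_ : Algebra A A'), Module.FaithfullyFlat A A' ∧ Algebra.Etale A A' ∧
      ∃ (f : V →ₗ[A] (Fin m ⊕ Fin m → A')) (b' : Module.Basis (Fin (m + m)) A' (Fin m ⊕ Fin m → A')),
        (∀ x, hyp A' m (f x) = algebraMap A A' (Q x)) ∧ ∀ i, b' i = f (b i) := by
  classical
  let e : Fin m ⊕ Fin m ≃ Fin (m + m) := finSumFinEquiv
  let rk : Fin m ⊕ Fin m → ℕ := Sum.elim Fin.val (fun k => m + k.val)
  have hrk : ∀ i, rk i = (e i).val := fun i ↦ by rcases i with k | k <;> simp [rk, e] <;> omega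
  let a : (Fin m ⊕ Fin m) → (Fin m ⊕ Fin m) → A :=
    fun i j ↦ if i = j then Q (b (e i)) else polar Q (b (e i)) (b (e j))
  have hdet : IsUnit (Matrix.det (Matrix.of fun i j : Fin m ⊕ Fin m =>
      if i = j then a i i + a i i else if rk i ≤ rk j then a i j else a j i)) := by
    have h : (Matrix.of fun i j : Fin m ⊕ Fin m =>
        if i = j then a i i + a i i else if rk i ≤ rk j then a i j else a j i) = (polarMat b Q).submatrix e e := by
      refine Matrix.ext fun i j ↦ ?_
      rw [Matrix.submatrix_apply, polarMat_apply, Matrix.of_apply]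
      rcases eq_or_ne i j with rfl | hne
      · simp [a, polar_self, two_mul]
      · simp only [a, if_neg hne, if_neg hne.symm]
        split_ifs
        · rfl
        · exact polar_comm _ _ _
    rw [h, Matrix.det_submatrix_equiv_self]
    exact isUnit_det_polarMat b hQ
  obtain ⟨N, B, iR, iA, het, hcov, hg⟩ := Groth.Agent.S3215.result A m a hdet
  choose g hgu hg using hg
  let A' := (t : Fin N) → B t
  have hff : Module.FaithfullyFlat A A' := by
    haveI : ∀ t, Module.Flat A (B t) := fun t ↦ inferInstance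
    haveI : Algebra.Etale A A' := inferInstance
    refine Module.FaithfullyFlat.of_comap_surjective fun p ↦ ?_
    obtain ⟨t, q, hq⟩ := hcov p
    refine ⟨PrimeSpectrum.comap (Pi.evalRingHom B t) q, PrimeSpectrum.ext ?_⟩
    simp only [PrimeSpectrum.comap_asIdeal, Ideal.comap_comap]
    exact hq
  let G : Matrix (Fin m ⊕ Fin m) (Fin m ⊕ Fin m) A' := Matrix.of fun i j t ↦ g t i j
  have hGu : IsUnit G.det := Pi.isUnit_iff.2 fun t ↦ by
    have : G.det t = (g t).det := (RingHom.map_det (Pi.evalRingHom B t) G).trans rfl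
    rw [this]; exact hgu t
  have hQB : ∀ x : Fin m ⊕ Fin m → A', (∑ i, ∑ j, if rk i ≤ rk j then
      algebraMap A A' (a i j) * (G.mulVec x) i * (G.mulVec x) j else 0) = hyp A' m x := by
    intro x
    funext t
    have h1 : ∀ i, (G.mulVec x) i t = (g t).mulVec (fun k ↦ x k t) i := fun i ↦
      map_sum (Pi.evalRingHom B t) (fun k ↦ G i k * x k) Finset.univ
    rw [hyp_apply, Finset.sum_apply, Finset.sum_apply]
    refine Eq.trans ?_ (hg t fun k ↦ x k t)
    refine Finset.sum_congr rfl fun i _ ↦ ?_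
    rw [Finset.sum_apply]
    refine Finset.sum_congr rfl fun j _ ↦ ?_
    split_ifs
    · show algebraMap A A' (a i j) t * (G.mulVec x) i t * (G.mulVec x) j t = _
      rw [h1, h1]; rfl
    · rfl
  let toV : V →ₗ[A] (Fin m ⊕ Fin m → A') := LinearMap.pi fun i ↦
    (Algebra.linearMap A A').comp ((Finsupp.lapply (e i)).comp b.repr.toLinearMap)
  let f : V →ₗ[A] (Fin m ⊕ Fin m → A') := ((Matrix.mulVecLin G⁻¹).restrictScalars A).comp toV
  let Gi : (Fin m ⊕ Fin m → A') ≃ₗ[A'] (Fin m ⊕ Fin m → A') :=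
    LinearEquiv.ofLinear (Matrix.mulVecLin G⁻¹) (Matrix.mulVecLin G)
      (by rw [← Matrix.mulVecLin_mul, Matrix.nonsing_inv_mul _ hGu, Matrix.mulVecLin_one])
      (by rw [← Matrix.mulVecLin_mul, Matrix.mul_nonsing_inv _ hGu, Matrix.mulVecLin_one])
  refine ⟨A', inferInstance, inferInstance, hff, inferInstance, f,
    ((Pi.basisFun A' (Fin m ⊕ Fin m)).reindex e).map Gi, fun x ↦ ?_, fun i ↦ ?_⟩
  · rw [← hQB]
    have hf : G.mulVec (f x) = toV x := by
      show G.mulVec (G⁻¹.mulVec (toV x)) = toV x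
      rw [Matrix.mulVec_mulVec, Matrix.mul_nonsing_inv _ hGu, Matrix.one_mulVec]
    rw [hf]
    conv_rhs => rw [← b.sum_repr x, apply_eq_triSum, triSum]
    rw [map_sum, ← e.sum_comp]
    refine Finset.sum_congr rfl fun i _ ↦ ?_
    rw [map_sum, ← e.sum_comp]
    refine Finset.sum_congr rfl fun j _ ↦ ?_
    simp only [hrk, Fin.val_fin_le]
    split_ifs with h
    · simp only [QuadGrp.coeffs_mk, LinearEquiv.refl_apply, a, toV, LinearMap.pi_apply, e.injective.eq_iff,
        LinearMap.comp_apply, Finsupp.lapply_apply, LinearEquiv.coe_coe, Algebra.linearMap_apply, map_mul]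
      ring
    · simp
  · simp only [Module.Basis.map_apply, Module.Basis.reindex_apply, Pi.basisFun_apply, f, LinearMap.comp_apply]
    refine congrArg Gi (funext fun k ↦ ?_)
    simp [toV, Pi.single_apply, Finsupp.single_apply]
    exact if_congr ⟨fun h ↦ by rw [h]; simp, fun h ↦ by rw [h]; simp⟩ rfl rfl

/-- The base change of the Clifford algebra. -/
theorem bijective_bc {n : ℕ} {A' : Type w} [CommRing A'] [Algebra A A'] {V' : Type*} [AddCommGroup V'] [Module A' V']
    [Module A V'] [IsScalarTower A A' V'] {Q' : QuadraticForm A' V'} (f : V →ₗ[A] V')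
    (hf : ∀ x, Q' (f x) = algebraMap A A' (Q x)) (b : Module.Basis (Fin n) A V) (b' : Module.Basis (Fin n) A' V')
    (hb : ∀ i, b' i = f (b i)) :
    Function.Bijective (AlgHom.liftEquiv A A' (CliffordAlgebra Q) (CliffordAlgebra Q') (cliffMap Q Q' f hf)) := by
  classical
  let G := AlgHom.liftEquiv A A' (CliffordAlgebra Q) (CliffordAlgebra Q') (cliffMap Q Q' f hf)
  have hG : ∀ a x, G (a ⊗ₜ x) = a • cliffMap Q Q' f hf x := fun a x ↦ rfl
  have hs : Function.Surjective G := by
    intro y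
    induction y using CliffordAlgebra.induction with
    | algebraMap a => exact ⟨a ⊗ₜ 1, by rw [hG, map_one, Algebra.algebraMap_eq_smul_one]⟩
    | ι v =>
      refine ⟨∑ i, b'.repr v i ⊗ₜ ι Q (b i), ?_⟩
      conv_rhs => rw [← b'.sum_repr v]
      simp [map_sum, hG, hb]
    | mul x y hx hy => obtain ⟨p, rfl⟩ := hx; obtain ⟨q, rfl⟩ := hy; exact ⟨p * q, map_mul G p q⟩
    | add x y hx hy => obtain ⟨p, rfl⟩ := hx; obtain ⟨q, rfl⟩ := hy; exact ⟨p + q, map_add G p q⟩
  refine ⟨?_, hs⟩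
  let B1 := (cliffBasis b Q).baseChange A'
  haveI := Module.Finite.of_basis B1
  let E := (cliffBasis b' Q').equiv B1 (Equiv.refl _)
  have := OrzechProperty.injective_of_surjective_endomorphism (E.toLinearMap.comp G.toLinearMap) (E.surjective.comp hs)
  exact fun x y h ↦ this (congrArg E h)

/-- The even Clifford algebra is finite projective. -/
theorem finite_projective_even {n : ℕ} (b : Module.Basis (Fin n) A V) :
    Module.Finite A ↥(CliffordAlgebra.even Q) ∧ Module.Projective A ↥(CliffordAlgebra.even Q) := by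
  haveI := free_clifford b Q
  haveI := finite_clifford b Q
  refine ⟨Module.Finite.of_surjective (pr0 Q) fun x ↦ ⟨x, pr0_val x⟩, ?_⟩
  exact Module.Projective.of_split (CliffordAlgebra.even Q).val.toLinearMap (pr0 Q)
    (LinearMap.ext fun x ↦ pr0_val x)

/-- The splitting data. -/
theorem exists_split {m : ℕ} (hm : 1 ≤ m) (b : Module.Basis (Fin (m + m)) A V) (hQ : QuadGrp.IsRegular Q) :
    ∃ (A' : Type u) (_ : CommRing A') (_ : Algebra A A'), Module.FaithfullyFlat A A' ∧ Algebra.Etale A A' ∧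
      ∃ (Ψ : (A' ⊗[A] CliffordAlgebra Q) ≃ₐ[A']
          Matrix (Fin (2 ^ (m - 1)) ⊕ Fin (2 ^ (m - 1))) (Fin (2 ^ (m - 1)) ⊕ Fin (2 ^ (m - 1))) A')
        (Φ : (A' ⊗[A] ↥(CliffordAlgebra.even Q)) ≃ₐ[A']
          Matrix (Fin (2 ^ (m - 1))) (Fin (2 ^ (m - 1))) A' × Matrix (Fin (2 ^ (m - 1))) (Fin (2 ^ (m - 1))) A'),
        (∀ ξ, Ψ (Algebra.TensorProduct.map (AlgHom.id A' A') (CliffordAlgebra.even Q).val ξ) =
          Matrix.fromBlocks (Φ ξ).1 0 0 (Φ ξ).2) ∧
        ∀ y, (∃ a d, Ψ (1 ⊗ₜ y) = Matrix.fromBlocks a 0 0 d) → y ∈ CliffordAlgebra.even Q := by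
  classical
  obtain ⟨A', _, _, hff, het, f, b', hf, hb⟩ := exists_etale_hyp b hQ
  refine ⟨A', inferInstance, inferInstance, hff, het, ?_⟩
  obtain ⟨Ψ₀, hΨ₀⟩ := exists_spin_blocks A' m hm
  let G := AlgEquiv.ofBijective _ (bijective_bc f hf b b' hb)
  have hG : ∀ a x, G (a ⊗ₜ x) = a • cliffMap Q (hyp A' m) f hf x := fun a x ↦ rfl
  let J : A' ⊗[A] ↥(CliffordAlgebra.even Q) →ₐ[A'] A' ⊗[A] CliffordAlgebra Q :=
    Algebra.TensorProduct.map (AlgHom.id A' A') (CliffordAlgebra.even Q).val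
  have hJ : Function.Injective J := by
    refine Function.LeftInverse.injective (g := LinearMap.lTensor A' (pr0 Q)) fun ξ ↦ ?_
    induction ξ using TensorProduct.induction_on with
    | zero => simp
    | tmul a x => simp [J, pr0_val]
    | add x y hx hy => simp only [map_add, hx, hy]
  have hmem : ∀ ξ, G (J ξ) ∈ CliffordAlgebra.even (hyp A' m) := by
    intro ξ
    induction ξ using TensorProduct.induction_on with
    | zero => rw [map_zero, map_zero]; exact zero_mem _
    | tmul a x =>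
      simp only [J, Algebra.TensorProduct.map_tmul, AlgHom.id_apply, hG, Subalgebra.val_apply]
      exact Subalgebra.smul_mem _ (cliffMap_mem Q (hyp A' m) f hf x.2) a
    | add x y hx hy => rw [map_add, map_add]; exact add_mem hx hy
  have hdec : ∀ ξ, ∃ η, ∃ o ∈ evenOdd (hyp A' m) 1, G ξ = G (J η) + o := by
    intro ξ
    induction ξ using TensorProduct.induction_on with
    | zero => exact ⟨0, 0, zero_mem _, by simp⟩
    | tmul a x =>
      obtain ⟨x₀, h₀, x₁, h₁, rfl⟩ := exists_even_odd x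
      refine ⟨a ⊗ₜ ⟨x₀, h₀⟩, a • cliffMap Q (hyp A' m) f hf x₁,
        Submodule.smul_mem _ _ (cliffMap_mem Q (hyp A' m) f hf h₁), ?_⟩
      simp [J, hG]
    | add x y hx hy =>
      obtain ⟨η, o, ho, h⟩ := hx
      obtain ⟨η', o', ho', h'⟩ := hy
      exact ⟨η + η', o + o', add_mem ho ho', by rw [map_add, h, h', map_add, map_add]; abel⟩
  let Ψ := G.trans Ψ₀
  have hblk : ∀ ξ, ∃ a d, Ψ (J ξ) = Matrix.fromBlocks a 0 0 d := fun ξ ↦ (hΨ₀ _).1 (hmem ξ)
  let P : A' ⊗[A] ↥(CliffordAlgebra.even Q) → _ × _ := fun ξ ↦ ((Ψ (J ξ)).toBlocks₁₁, (Ψ (J ξ)).toBlocks₂₂)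
  have hP : ∀ ξ, Ψ (J ξ) = Matrix.fromBlocks (P ξ).1 0 0 (P ξ).2 := fun ξ ↦ by
    obtain ⟨a, d, h⟩ := hblk ξ
    simp [P, h]
  let Φ₀ : A' ⊗[A] ↥(CliffordAlgebra.even Q) →ₐ[A'] Matrix (Fin (2 ^ (m - 1))) (Fin (2 ^ (m - 1))) A' ×
      Matrix (Fin (2 ^ (m - 1))) (Fin (2 ^ (m - 1))) A' :=
    AlgHom.ofLinearMap
      { toFun := P
        map_add' := fun x y ↦ by
          have h := hP (x + y)
          rw [map_add, map_add, hP x, hP y, Matrix.fromBlocks_add, Matrix.fromBlocks_inj] at h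
          exact Prod.ext h.1.symm h.2.2.2.symm
        map_smul' := fun c x ↦ by
          have h := hP (c • x)
          rw [map_smul, map_smul, hP x, Matrix.fromBlocks_smul, Matrix.fromBlocks_inj] at h
          exact Prod.ext h.1.symm h.2.2.2.symm }
      (by
        have h := hP 1
        rw [map_one, map_one, ← Matrix.fromBlocks_one, Matrix.fromBlocks_inj] at h
        exact Prod.ext h.1.symm h.2.2.2.symm)
      fun x y ↦ by
        have h := hP (x * y)
        rw [map_mul, map_mul, hP x, hP y, Matrix.fromBlocks_multiply, Matrix.fromBlocks_inj] at h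
        simp only [Matrix.mul_zero, Matrix.zero_mul, add_zero, zero_add] at h
        exact Prod.ext h.1.symm h.2.2.2.symm
  refine ⟨Ψ, AlgEquiv.ofBijective Φ₀ ⟨fun x y h ↦ ?_, fun p ↦ ?_⟩, hP, fun y hy ↦ ?_⟩
  · apply hJ; apply Ψ.injective
    rw [hP, hP]
    change P x = P y at h
    rw [h]
  · obtain ⟨ξ, hξ⟩ := Ψ.surjective (Matrix.fromBlocks p.1 0 0 p.2)
    have hev : G ξ ∈ CliffordAlgebra.even (hyp A' m) := (hΨ₀ _).2 ⟨_, _, hξ⟩
    obtain ⟨η, o, ho, h⟩ := hdec ξ
    have hzero : o = 0 := eq_zero_of_mem_both (by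
      rw [show o = G ξ - G (J η) by rw [h, add_sub_cancel_left]]; exact sub_mem hev (hmem η)) ho
    rw [hzero, add_zero] at h
    rw [G.injective h, hP, Matrix.fromBlocks_inj] at hξ
    exact ⟨η, Prod.ext hξ.1 hξ.2.2.2⟩
  · obtain ⟨y₀, h₀, y₁, h₁, rfl⟩ := exists_even_odd y
    have hev : G (1 ⊗ₜ (y₀ + y₁)) ∈ CliffordAlgebra.even (hyp A' m) := (hΨ₀ _).2 hy
    rw [hG, one_smul, map_add] at hev
    have h1 : cliffMap Q (hyp A' m) f hf y₁ = 0 := eq_zero_of_mem_both (by
      have := sub_mem hev (cliffMap_mem Q (hyp A' m) f hf h₀ : _ ∈ CliffordAlgebra.even (hyp A' m))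
      rw [add_sub_cancel_left] at this
      exact this) (cliffMap_mem Q (hyp A' m) f hf h₁)
    have h2 : (1 : A') ⊗ₜ[A] y₁ = 0 := G.injective (by rw [hG, one_smul, h1, map_zero])
    have h3 : y₁ = 0 := Module.FaithfullyFlat.tensorProduct_mk_injective (A := A) (B := A') _
      (h2.trans (map_zero _).symm)
    rw [h3, add_zero]
    exact h₀

end Groth.Agent.EvenCliff28
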