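import Groth.Agent.Lib.QuadH13.OddLocal

/-!
The centre, the Clifford group and the determinant in odd rank.
-/

universe u v

open QuadraticMap CliffordAlgebra

namespace Groth.Agent.QuadH13

set_option backward.isDefEq.respectTransparency.types false

variable {R : Type u} [CommRing R] {M : Type v} [AddCommGroup M] [Module R M] {Q : QuadraticForm R M}

theorem commute_all {x : CliffordAlgebra Q} (hx : ∀ v, ι Q v * x = x * ι Q v) (y : CliffordAlgebra Q) :
    y * x = x * y := by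
  induction y using CliffordAlgebra.induction with
  | algebraMap r => exact Algebra.commutes r x
  | ι v => exact hx v
  | mul a c ha hc => rw [mul_assoc, hc, ← mul_assoc, ha, mul_assoc]
  | add a c ha hc => rw [add_mul, ha, hc, mul_add]

theorem mem_center_of_comm {x : CliffordAlgebra Q} (hx : ∀ v, ι Q v * x = x * ι Q v) :
    x ∈ Subalgebra.center R (CliffordAlgebra Q) :=
  Subalgebra.mem_center_iff.2 (commute_all hx)

theorem parts_unique {a b c d : CliffordAlgebra Q} (ha : a ∈ evenOdd Q 0) (hb : b ∈ evenOdd Q 1)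
    (hc : c ∈ evenOdd Q 0) (hd : d ∈ evenOdd Q 1) (h : a + b = c + d) : a = c ∧ b = d := by
  have e : a - c = d - b := by rw [sub_eq_sub_iff_add_eq_add, h, add_comm]
  have hz := eq_zero_of_mem_both (sub_mem ha hc) (e ▸ sub_mem hd hb)
  exact ⟨sub_eq_zero.1 hz, (sub_eq_zero.1 (e.symm.trans hz)).symm⟩

theorem comm_parts {x₀ x₁ : CliffordAlgebra Q} (h₀ : x₀ ∈ evenOdd Q 0) (h₁ : x₁ ∈ evenOdd Q 1)
    (h : ∀ v, ι Q v * (x₀ + x₁) = (x₀ + x₁) * ι Q v) (v : M) :
    ι Q v * x₀ = x₀ * ι Q v ∧ ι Q v * x₁ = x₁ * ι Q v := by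
  have hv := h v
  rw [mul_add, add_mul, add_comm, add_comm (x₀ * ι Q v)] at hv
  have := parts_unique (ι_mul_mem₁ v h₁) (ι_mul_mem₀ v h₀) (mul_ι_mem₁ v h₁)
    (by simpa using SetLike.mul_mem_graded h₀ (ι_mem_evenOdd_one Q v)) hv
  exact ⟨this.2, this.1⟩

theorem inv_mem_odd (z : (CliffordAlgebra Q)ˣ) (hz : (z : CliffordAlgebra Q) ∈ evenOdd Q 1) :
    (↑z⁻¹ : CliffordAlgebra Q) ∈ evenOdd Q 1 := by
  have := (QuadGrp.isLocHomog_inv_aux Q z 0 (by rw [zero_smul]; exact zero_mem _) (by rwa [sub_zero, one_smul])).2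
  rwa [sub_zero, one_smul] at this

namespace OddSplit

variable {m : ℕ} (S : OddSplit Q m)

include S in
theorem exists_scalar_of_even_central {x : CliffordAlgebra Q} (hx : x ∈ evenOdd Q 0)
    (hc : ∀ v, ι Q v * x = x * ι Q v) : ∃ r, algebraMap R _ r = x :=
  S.exists_scalar_of_commute_even hx fun y _ ↦ commute_all hc y

include S in
theorem exists_smul_of_odd_central {z : (CliffordAlgebra Q)ˣ} (hz : (z : CliffordAlgebra Q) ∈ evenOdd Q 1)
    (hzc : ∀ v, ι Q v * z = z * ι Q v) {x : CliffordAlgebra Q} (hx : x ∈ evenOdd Q 1)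
    (hc : ∀ v, ι Q v * x = x * ι Q v) : ∃ t : R, t • (z : CliffordAlgebra Q) = x := by
  have hi : ∀ v, ι Q v * (↑z⁻¹ : CliffordAlgebra Q) = ↑z⁻¹ * ι Q v := fun v ↦
    (Commute.units_inv_right (hzc v)).eq
  have he : (↑z⁻¹ : CliffordAlgebra Q) * x ∈ evenOdd Q 0 := by
    have := SetLike.mul_mem_graded (inv_mem_odd z hz) hx
    rwa [show (1 : ZMod 2) + 1 = 0 from rfl] at this
  obtain ⟨t, ht⟩ := S.exists_scalar_of_even_central he fun v ↦ by rw [← mul_assoc, hi, mul_assoc, hc, mul_assoc]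
  exact ⟨t, by rw [Algebra.smul_def, Algebra.commutes, ht, ← mul_assoc, Units.mul_inv, one_mul]⟩

include S in
theorem eq_scalar_add_smul {z : (CliffordAlgebra Q)ˣ} (hz : (z : CliffordAlgebra Q) ∈ evenOdd Q 1)
    (hzc : ∀ v, ι Q v * z = z * ι Q v) {x : CliffordAlgebra Q} (hc : ∀ v, ι Q v * x = x * ι Q v) :
    ∃ r t : R, algebraMap R _ r + t • (z : CliffordAlgebra Q) = x := by
  obtain ⟨x₀, h₀, x₁, h₁, rfl⟩ := exists_even_odd x
  obtain ⟨r, hr⟩ := S.exists_scalar_of_even_central h₀ fun v ↦ (comm_parts h₀ h₁ hc v).1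
  obtain ⟨t, ht⟩ := S.exists_smul_of_odd_central hz hzc h₁ fun v ↦ (comm_parts h₀ h₁ hc v).2
  exact ⟨r, t, by rw [hr, ht]⟩

include S in
theorem exists_conj_det [IsLocalRing R] (g : M ≃ₗ[R] M) (hg : g ∈ QuadGrp.O Q) :
    ∃ (δ : Rˣ) (u : (CliffordAlgebra Q)ˣ), (δ : R) * δ = 1 ∧ LinearMap.det (g : M →ₗ[R] M) = δ ∧
      (u : CliffordAlgebra Q) ∈ evenOdd Q 0 ∧ (∀ v, (u : CliffordAlgebra Q) * ι Q v = ((δ : R) • ι Q (g v)) * u) ∧
      ∀ z : CliffordAlgebra Q, z ∈ evenOdd Q 1 → (∀ v, ι Q v * z = z * ι Q v) →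
        CliffordAlgebra.map (QuadGrp.isometryOfMem Q g hg) z = (δ : R) • z := by
  haveI := Module.Free.of_basis S.bas
  haveI := Module.Finite.of_basis S.bas
  obtain ⟨z, hz, hzc, ⟨s, hs⟩, -⟩ := S.exists_odd_central
  let G := CliffordAlgebra.map (QuadGrp.isometryOfMem Q g hg)
  have hGz : G z ∈ evenOdd Q 1 := by
    generalize (z : CliffordAlgebra Q) = x at hz
    induction x, hz using CliffordAlgebra.odd_induction with
    | ι v => rw [map_apply_ι]; exact ι_mem_evenOdd_one _ _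
    | add a c _ _ ha hc => rw [map_add]; exact add_mem ha hc
    | ι_mul_ι_mul m₁ m₂ y hy ih =>
      rw [map_mul, map_mul, map_apply_ι, map_apply_ι]
      simpa using SetLike.mul_mem_graded (ι_mul_ι_mem_evenOdd_zero Q _ _) ih
  have hGzc : ∀ v, ι Q v * G z = G z * ι Q v := fun v ↦ by
    have h := congrArg G (hzc (g.symm v))
    rw [map_mul, map_mul, map_apply_ι, QuadGrp.isometryOfMem_apply, g.apply_symm_apply] at h
    exact h
  obtain ⟨d, hd⟩ := S.exists_smul_of_odd_central hz hzc hGz hGzc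
  have hd2 : d * d = 1 := by
    have h := congrArg G hs
    rw [AlgHom.commutes, map_mul, ← hd, smul_mul_smul_comm, hs, eq_comm, ← sub_eq_zero, ← Units.val_mul,
      ← one_smul R ((z * z : (CliffordAlgebra Q)ˣ) : CliffordAlgebra Q), smul_smul, mul_one, ← sub_smul,
      Algebra.smul_def] at h
    have h0 := (z * z).isUnit.mul_left_eq_zero.1 h
    exact sub_eq_zero.1 (algebraMap_inj S.bas Q (h0.trans (map_zero _).symm))
  let δ : Rˣ := ⟨d, d, hd2, hd2⟩
  obtain ⟨u, hu, huy⟩ := S.exists_conj_even_map g hg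
  have hconj : ∀ v, (u : CliffordAlgebra Q) * ι Q v = (d • ι Q (g v)) * u := by
    intro v
    refine z.isUnit.mul_left_cancel ?_
    have hzv : (z : CliffordAlgebra Q) * ι Q v ∈ evenOdd Q 0 := mul_ι_mem₁ v hz
    rw [← mul_assoc, ← commute_all hzc (u : CliffordAlgebra Q), mul_assoc, ← huy _ hzv, map_mul, map_apply_ι,
      QuadGrp.isometryOfMem_apply]
    rw [show CliffordAlgebra.map (QuadGrp.isometryOfMem Q g hg) (z : CliffordAlgebra Q) = d • (z : CliffordAlgebra Q) from hd.symm]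
    simp only [smul_mul_assoc, mul_smul_comm, mul_assoc]
  let g' : M ≃ₗ[R] M := g.trans (LinearEquiv.smulOfUnit δ)
  have hg' : ∀ v, g' v = d • g v := fun v ↦ rfl
  have hdet := S.det_eq_one_of_even_conj g' u hu fun v ↦ by rw [hg', map_smul]; exact hconj v
  rw [show (g' : M →ₗ[R] M) = d • (g : M →ₗ[R] M) from LinearMap.ext hg', LinearMap.det_smul,
    Module.finrank_eq_card_basis S.bas, Fintype.card_fin, pow_succ, pow_mul, pow_two, hd2, one_pow, one_mul] at hdet
  refine ⟨δ, u, hd2, ?_, hu, hconj, fun y hy hyc ↦ ?_⟩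
  · change LinearMap.det (g : M →ₗ[R] M) = d
    linear_combination d * hdet - LinearMap.det (g : M →ₗ[R] M) * hd2
  · obtain ⟨t, rfl⟩ := S.exists_smul_of_odd_central hz hzc hy hyc
    change G (t • (z : CliffordAlgebra Q)) = d • _
    rw [map_smul, ← hd, smul_comm]

include S in
theorem exists_central_mul [IsLocalRing R] {u : (CliffordAlgebra Q)ˣ} (hu : u ∈ QuadGrp.GPin' Q) :
    ∃ (g : M ≃ₗ[R] M) (w u₀ : (CliffordAlgebra Q)ˣ), (∀ v, (u : CliffordAlgebra Q) * ι Q v = ι Q (g v) * u) ∧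
      LinearMap.det (g : M →ₗ[R] M) = 1 ∧ (u₀ : CliffordAlgebra Q) ∈ evenOdd Q 0 ∧
      (∀ v, (u₀ : CliffordAlgebra Q) * ι Q v = ι Q (g v) * u₀) ∧ (∀ v, ι Q v * w = w * ι Q v) ∧ u = w * u₀ := by
  obtain ⟨g, hg, hc⟩ := exists_isometry_of_mem_GPin' S.bas hu
  obtain ⟨δ, u₀, hδ2, hdet, hu₀, hc₀, hGz⟩ := S.exists_conj_det g hg
  obtain ⟨z, hz, hzc, -, -⟩ := S.exists_odd_central
  have hfix : CliffordAlgebra.map (QuadGrp.isometryOfMem Q g hg) (z : CliffordAlgebra Q) = z :=
    u.isUnit.mul_right_cancel ((map_eq_conj g hg u hc z).trans (commute_all hzc _))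
  rw [hGz _ hz hzc] at hfix
  have hδ : (δ : R) = 1 := sub_eq_zero.1 (algebraMap_inj S.bas Q (by
    rw [map_zero]
    refine z.isUnit.mul_left_eq_zero.1 ?_
    rw [← Algebra.smul_def, sub_smul, one_smul, hfix, sub_self]))
  simp only [hδ, one_smul] at hc₀ hdet
  refine ⟨g, u * u₀⁻¹, u₀, hc, hdet, hu₀, hc₀, fun v ↦ ?_, (inv_mul_cancel_right u u₀).symm⟩
  have hi : (↑u₀⁻¹ : CliffordAlgebra Q) * ι Q v = ι Q (g.symm v) * ↑u₀⁻¹ := by
    refine u₀.isUnit.mul_left_cancel ?_
    rw [← mul_assoc, Units.mul_inv, one_mul, ← mul_assoc, hc₀, g.apply_symm_apply, mul_assoc, Units.mul_inv, mul_one]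
  rw [Units.val_mul, mul_assoc (u : CliffordAlgebra Q), hi, ← mul_assoc (u : CliffordAlgebra Q), hc,
    g.apply_symm_apply, mul_assoc]

include S in
theorem homog_of_norm_one [IsLocalRing R] (hm : Odd m) (h2 : IsUnit (2 : R)) {u : (CliffordAlgebra Q)ˣ}
    (hu : u ∈ QuadGrp.GPin' Q) (hn : star (u : CliffordAlgebra Q) * u = 1) {x₀ x₁ : CliffordAlgebra Q}
    (h₀ : x₀ ∈ evenOdd Q 0) (h₁ : x₁ ∈ evenOdd Q 1) (hs : x₀ + x₁ = u) :
    ∃ e : R, e * e = e ∧ x₀ * star x₀ = algebraMap R _ e ∧ (1 - e) • x₀ = 0 ∧ e • x₁ = 0 := by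
  obtain ⟨g, w, u₀, -, -, hu₀, hc₀, hw, rfl⟩ := S.exists_central_mul hu
  obtain ⟨z, hz, hzc, ⟨ζ, hζ⟩, hstar⟩ := S.exists_odd_central
  rw [(hm.add_one).neg_one_pow, one_smul] at hstar
  obtain ⟨r, t, hrt⟩ := S.eq_scalar_add_smul hz hzc hw
  have hn0c : ∀ v, ι Q v * (star (u₀ : CliffordAlgebra Q) * u₀) = star (u₀ : CliffordAlgebra Q) * u₀ * ι Q v := by
    intro v
    have h := congrArg star (hc₀ v)
    rw [star_mul, star_mul, star_ι, star_ι, neg_mul, mul_neg, neg_inj] at h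
    rw [← mul_assoc, h, mul_assoc, mul_assoc, hc₀]
  have hs0 : star (u₀ : CliffordAlgebra Q) ∈ evenOdd Q 0 := by
    rw [star_def, involute_eq_of_mem_even hu₀]
    exact (reverse_mem_evenOdd_iff Q).2 hu₀
  obtain ⟨l, hl⟩ := S.exists_scalar_of_even_central
    (by simpa using SetLike.mul_mem_graded hs0 hu₀) hn0c
  have hzx : ∀ x, x * (z : CliffordAlgebra Q) = z * x := commute_all hzc
  have hstarw : star (w : CliffordAlgebra Q) = w := by
    rw [← hrt, star_add, star_algebraMap, CliffordAlgebra.star_smul, hstar]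
  have hww : star (u₀ : CliffordAlgebra Q) * ((w : CliffordAlgebra Q) * w) * u₀ = 1 := by
    rw [Units.val_mul, star_mul, hstarw] at hn
    simpa only [mul_assoc] using hn
  have hwwc : ∀ v, ι Q v * ((w : CliffordAlgebra Q) * w) = w * w * ι Q v := fun v ↦ by
    rw [← mul_assoc, hw, mul_assoc, hw, mul_assoc]
  rw [commute_all hwwc (star (u₀ : CliffordAlgebra Q)), mul_assoc, ← hl] at hww
  have hexp : (w : CliffordAlgebra Q) * w * algebraMap R _ l =
      algebraMap R _ ((r * r + t * t * ζ) * l) + (2 * r * t * l) • (z : CliffordAlgebra Q) := by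
    rw [← hrt, ← Algebra.commutes, ← Algebra.smul_def, add_mul, mul_add, mul_add, smul_mul_smul_comm, ← hζ,
      ← Algebra.smul_def, ← Algebra.smul_def, ← Algebra.commutes r (t • (z : CliffordAlgebra Q)), ← Algebra.smul_def]
    simp only [Algebra.algebraMap_eq_smul_one, smul_smul, smul_add]
    module
  rw [hexp] at hww
  obtain ⟨he, ho⟩ := parts_unique (SetLike.algebraMap_mem_graded _ _) (Submodule.smul_mem _ _ hz)
    (SetLike.one_mem_graded _) (zero_mem _) (hww.trans (add_zero _).symm)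
  have h1 : (r * r + t * t * ζ) * l = 1 := algebraMap_inj S.bas Q (he.trans (map_one _).symm)
  rw [Algebra.smul_def] at ho
  have h20 : 2 * r * t * l = 0 := algebraMap_inj S.bas Q (by rw [map_zero]; exact z.isUnit.mul_left_eq_zero.1 ho)
  have hrt0 : r * t = 0 := by
    refine (IsUnit.of_mul_eq_one (r * r + t * t * ζ) (by rw [mul_comm]; exact h1) : IsUnit l).mul_left_eq_zero.1 ?_
    refine h2.mul_right_eq_zero.1 ?_
    linear_combination h20
  have hu₀' : (u₀ : CliffordAlgebra Q) * star (u₀ : CliffordAlgebra Q) = algebraMap R _ l := by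
    refine u₀.isUnit.mul_right_cancel ?_
    rw [mul_assoc, ← hl, Algebra.commutes]
  have hodd : t • ((z : CliffordAlgebra Q) * u₀) ∈ evenOdd Q 1 :=
    Submodule.smul_mem _ _ (by simpa using SetLike.mul_mem_graded hz hu₀)
  obtain ⟨hx₀, hx₁⟩ := parts_unique h₀ h₁ (Submodule.smul_mem _ r hu₀) hodd (by
    rw [hs, Units.val_mul, ← hrt, add_mul, smul_mul_assoc, ← Algebra.smul_def])
  refine ⟨r * r * l, by linear_combination (r * r * l) * h1 - (r * t * l * l * ζ) * hrt0, ?_, ?_, ?_⟩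
  · rw [hx₀, CliffordAlgebra.star_smul, smul_mul_smul_comm, hu₀', Algebra.smul_def, ← map_mul]
  · rw [hx₀, smul_smul, show (1 - r * r * l) * r = 0 by linear_combination (-r) * h1 + (t * ζ * l) * hrt0, zero_smul]
  · rw [hx₁, smul_smul, show r * r * l * t = 0 by linear_combination (r * l) * hrt0, zero_smul]

end OddSplit

section Global

variable {m : ℕ} (b : Module.Basis (Fin (2 * m + 1)) R M) [Module.Free R M]
  (hQ : QuadGrp.IsSemiregular b (LinearEquiv.refl R R) Q)

include hQ in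
theorem exists_loc_split (q : Ideal R) [q.IsPrime] : Nonempty (OddSplit (locQ q Q) m) := by
  refine exists_oddSplit m (b.baseChange (Localization.AtPrime q)) (locQ q Q) ?_
  rw [QuadGrp.IsSemiregular, map_halfDisc (algebraMap R (Localization.AtPrime q)) (b.baseChange _) _ b Q
    (coeffs_baseChange _ b Q)]
  exact hQ.map _

omit [Module.Free R M] in
theorem cliffMap_star {A : Type*} [CommRing A] [Algebra R A] {V : Type*} [AddCommGroup V] [Module A V] [Module R V]
    [IsScalarTower R A V] {Q' : QuadraticForm A V} (f : M →ₗ[R] V) (hf : ∀ m, Q' (f m) = algebraMap R A (Q m))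
    (x : CliffordAlgebra Q) : cliffMap Q Q' f hf (star x) = star (cliffMap Q Q' f hf x) := by
  rw [star_def, star_def, cliffMap_reverse]
  congr 1
  induction x using CliffordAlgebra.induction with
  | algebraMap r => rw [AlgHom.commutes, AlgHom.commutes, IsScalarTower.algebraMap_apply R A, AlgHom.commutes]
  | ι v => rw [involute_ι, map_neg, cliffMap_ι, involute_ι]
  | mul a c ha hc => simp only [map_mul, ha, hc]
  | add a c ha hc => simp only [map_add, ha, hc]

include b in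
theorem loc_comm (q : Ideal R) [q.IsPrime] {x : CliffordAlgebra Q} (hx : ∀ v, ι Q v * x = x * ι Q v)
    (v : TensorProduct R (Localization.AtPrime q) M) :
    ι (locQ q Q) v * locMap q Q x = locMap q Q x * ι (locQ q Q) v :=
  (conj_push (g := LinearMap.id) (g' := LinearMap.id) (TensorProduct.mk R (Localization.AtPrime q) M 1) (loc_hf q Q)
    b _ (loc_hb q b) (fun i ↦ loc_hb q b i) x (fun w ↦ (hx w).symm) v).symm

include hQ in
theorem odd_exists_scalar {x : CliffordAlgebra Q} (hx : x ∈ evenOdd Q 0) (hc : ∀ v, ι Q v * x = x * ι Q v) :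
    ∃ r, algebraMap R _ r = x := by
  refine eq_algebraMap_of_contract b Q fun i ↦ eq_zero_of_forall_prime (R := R) fun q hq ↦ ?_
  obtain ⟨S⟩ := exists_loc_split b hQ q
  obtain ⟨r, hr⟩ := S.exists_scalar_of_even_central (cliffMap_mem _ _ _ _ hx) (loc_comm b q hc)
  refine exists_smul_eq_zero_of_loc q b ?_
  rw [cliffMap_contract Q _ _ _ (b.coord i) ((b.baseChange (Localization.AtPrime q)).coord i)
    (fun w ↦ repr_cliff _ b _ (loc_hb q b) w i), ← hr, contractLeft_algebraMap]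

include hQ in
theorem odd_star_central {z : CliffordAlgebra Q} (hz : z ∈ evenOdd Q 1) (hc : ∀ v, ι Q v * z = z * ι Q v) :
    star z = (-1 : R) ^ (m + 1) • z := by
  refine sub_eq_zero.1 (eq_zero_of_forall_prime (R := R) fun q hq ↦ exists_smul_eq_zero_of_loc q b ?_)
  obtain ⟨S⟩ := exists_loc_split b hQ q
  obtain ⟨z₀, hz₀, hzc, -, hs⟩ := S.exists_odd_central
  obtain ⟨t, ht⟩ := S.exists_smul_of_odd_central hz₀ hzc (cliffMap_mem _ _ _ _ hz) (loc_comm b q hc)
  rw [map_sub, map_smul, cliffMap_star, ← ht, CliffordAlgebra.star_smul, hs, sub_eq_zero, smul_comm,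
    Algebra.smul_def ((-1 : R) ^ (m + 1)), IsScalarTower.algebraMap_apply R (Localization.AtPrime q), ← Algebra.smul_def,
    map_pow, map_neg, map_one]

include b in
theorem loc_GPin' (q : Ideal R) [q.IsPrime] {g : M ≃ₗ[R] M} {u : (CliffordAlgebra Q)ˣ}
    (h : ∀ v, (u : CliffordAlgebra Q) * ι Q v = ι Q (g v) * u) :
    Units.map (locMap q Q).toRingHom.toMonoidHom u ∈ QuadGrp.GPin' (locQ q Q) ∧
      ∀ v, locMap q Q u * ι (locQ q Q) v = ι (locQ q Q) (locEquiv q g v) * locMap q Q u := by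
  have := conj_push (g := (g : M →ₗ[R] M)) (TensorProduct.mk R (Localization.AtPrime q) M 1) (loc_hf q Q) b _
    (loc_hb q b) (loc_hfg q b g) (u : CliffordAlgebra Q) h
  exact ⟨mem_GPin'_of_conj _ (locEquiv q g) this, this⟩

include hQ in
theorem odd_det_eq_one {g : M ≃ₗ[R] M} {u : (CliffordAlgebra Q)ˣ}
    (h : ∀ v, (u : CliffordAlgebra Q) * ι Q v = ι Q (g v) * u) : LinearMap.det (g : M →ₗ[R] M) = 1 := by
  refine sub_eq_zero.1 (eq_zero_of_forall_prime (R := R) fun q hq ↦ ?_)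
  obtain ⟨S⟩ := exists_loc_split b hQ q
  obtain ⟨hm, hc⟩ := loc_GPin' b q h
  obtain ⟨g', w, u₀, hg', hd, -⟩ := S.exists_central_mul hm
  have heq : (g' : _ →ₗ[Localization.AtPrime q] _) = (locEquiv q g).toLinearMap := LinearMap.ext fun v ↦
    ι_inj (b.baseChange (Localization.AtPrime q)) (locQ q Q)
      ((Units.map (locMap q Q).toRingHom.toMonoidHom u).isUnit.mul_right_cancel ((hg' v).symm.trans (hc v)))
  rw [heq, det_push _ b _ (loc_hb q b) (loc_hfg q b g), ← map_one (algebraMap R (Localization.AtPrime q)),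
    IsLocalization.eq_iff_exists q.primeCompl] at hd
  obtain ⟨c, hc⟩ := hd
  exact ⟨c, c.2, by rw [smul_eq_mul, mul_sub, hc, sub_self]⟩

include hQ in
theorem isLocHomog_of_norm_one (hm : Odd m) (h2 : IsUnit (2 : R)) {u : (CliffordAlgebra Q)ˣ}
    (hu : u ∈ QuadGrp.GPin' Q) (hn : star (u : CliffordAlgebra Q) * u = 1) :
    QuadGrp.IsLocHomog Q (u : CliffordAlgebra Q) := by
  obtain ⟨g, -, hg⟩ := exists_isometry_of_mem_GPin' b hu
  obtain ⟨x₀, h₀, x₁, h₁, hs⟩ := exists_even_odd (u : CliffordAlgebra Q)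
  have hloc : ∀ (q : Ideal R) [q.IsPrime], ∃ e : Localization.AtPrime q, e * e = e ∧
      locMap q Q x₀ * star (locMap q Q x₀) = algebraMap _ _ e ∧ (1 - e) • locMap q Q x₀ = 0 ∧ e • locMap q Q x₁ = 0 := by
    intro q _
    obtain ⟨S⟩ := exists_loc_split b hQ q
    refine S.homog_of_norm_one hm ?_ (loc_GPin' b q hg).1 ?_ (cliffMap_mem _ _ _ _ h₀) (cliffMap_mem _ _ _ _ h₁) ?_
    · simpa [map_ofNat] using h2.map (algebraMap R (Localization.AtPrime q))
    · change star (locMap q Q u) * locMap q Q u = 1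
      rw [← cliffMap_star, ← map_mul, hn, map_one]
    · change _ = locMap q Q u
      rw [← map_add, hs]
  have hE0 : x₀ * star x₀ ∈ evenOdd Q 0 := by
    have : star x₀ ∈ evenOdd Q 0 := by
      rw [star_def, involute_eq_of_mem_even h₀]
      exact (reverse_mem_evenOdd_iff Q).2 h₀
    simpa using SetLike.mul_mem_graded h₀ this
  obtain ⟨e, he⟩ := odd_exists_scalar b hQ hE0 fun v ↦
    sub_eq_zero.1 (eq_zero_of_forall_prime (R := R) fun q hq ↦ exists_smul_eq_zero_of_loc q b (by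
      obtain ⟨e, -, he, -⟩ := hloc q
      simp only [map_sub, map_mul, cliffMap_star, he, Algebra.commutes, sub_self]))
  have heq : ∀ (q : Ideal R) [q.IsPrime], algebraMap R (Localization.AtPrime q) e * algebraMap R _ e = algebraMap R _ e ∧
      (1 - algebraMap R (Localization.AtPrime q) e) • locMap q Q x₀ = 0 ∧
      algebraMap R (Localization.AtPrime q) e • locMap q Q x₁ = 0 := by
    intro q _
    obtain ⟨e', h1, h2, h3, h4⟩ := hloc q
    have : algebraMap R (Localization.AtPrime q) e = e' := algebraMap_inj (b.baseChange _) (locQ q Q) (by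
      rw [← h2, ← cliffMap_star, ← map_mul, ← he, AlgHom.commutes, ← IsScalarTower.algebraMap_apply])
    rw [this]; exact ⟨h1, h3, h4⟩
  have hee : e * e = e := sub_eq_zero.1 (eq_zero_of_forall_prime (R := R) fun q hq ↦ by
    have h := (heq q).1
    rw [← map_mul, IsLocalization.eq_iff_exists q.primeCompl] at h
    obtain ⟨c, hc⟩ := h
    exact ⟨c, c.2, by rw [smul_eq_mul, mul_sub, hc, sub_self]⟩)
  have hx₀ : (1 - e) • x₀ = 0 := eq_zero_of_forall_prime (R := R) fun q hq ↦ exists_smul_eq_zero_of_loc q b (by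
    rw [map_smul, ← algebraMap_smul (Localization.AtPrime q), map_sub, map_one]
    exact (heq q).2.1)
  have hx₁ : e • x₁ = 0 := eq_zero_of_forall_prime (R := R) fun q hq ↦ exists_smul_eq_zero_of_loc q b (by
    rw [map_smul, ← algebraMap_smul (Localization.AtPrime q)]
    exact (heq q).2.2)
  refine ⟨e, hee, ?_, ?_⟩
  · rw [← hs, smul_add, hx₁, add_zero]; exact Submodule.smul_mem _ _ h₀
  · rw [← hs, smul_add, hx₀, zero_add]; exact Submodule.smul_mem _ _ h₁

end Global

end Groth.Agent.QuadH13
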