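import Groth.Agent.Lib.QuadH13.Hyperbolic
import Groth.Agent.Lib.QuadH13.OddMain

/-!
The structure of the Clifford algebra of a semiregular form of odd rank.
-/

universe u v w z

open QuadraticMap CliffordAlgebra TensorProduct

namespace Groth.Agent.QuadH13

set_option backward.isDefEq.respectTransparency.types false
set_option linter.style.haveILetI false

section BaseChange

variable {R : Type u} [CommRing R] {n : ℕ} {M : Type v} [AddCommGroup M] [Module R M] {Q : QuadraticForm R M}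
variable {A : Type w} [CommRing A] [Algebra R A] {V : Type z} [AddCommGroup V] [Module A V] [Module R V]
  [IsScalarTower R A V] {Q' : QuadraticForm A V} (f : M →ₗ[R] V) (hf : ∀ m, Q' (f m) = algebraMap R A (Q m))
  (b : Module.Basis (Fin n) R M) (b' : Module.Basis (Fin n) A V) (hb : ∀ i, b' i = f (b i))

/-- The even component. -/
noncomputable def pr0 (Q : QuadraticForm R M) : CliffordAlgebra Q →ₗ[R] ↥(CliffordAlgebra.even Q) :=
  LinearMap.codRestrict (Subalgebra.toSubmodule (CliffordAlgebra.even Q))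
    ((evenOdd Q 0).subtype.comp ((DirectSum.component R (ZMod 2) (fun i ↦ evenOdd Q i) 0).comp
      (DirectSum.decomposeLinearEquiv (evenOdd Q)).toLinearMap))
    fun x ↦ (DirectSum.component R (ZMod 2) (fun i ↦ evenOdd Q i) 0 _).2

theorem pr0_val (x : ↥(CliffordAlgebra.even Q)) : pr0 Q x = x :=
  Subtype.ext (DirectSum.decompose_of_mem_same (evenOdd Q) x.2)

include hf hb b b' in
theorem exists_even_baseChange :
    Nonempty (A ⊗[R] ↥(CliffordAlgebra.even Q) ≃ₐ[A] ↥(CliffordAlgebra.even Q')) := by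
  classical
  let G : A ⊗[R] CliffordAlgebra Q →ₐ[A] CliffordAlgebra Q' :=
    AlgHom.liftEquiv R A (CliffordAlgebra Q) (CliffordAlgebra Q') (cliffMap Q Q' f hf)
  have hG : ∀ a x, G (a ⊗ₜ x) = a • cliffMap Q Q' f hf x := fun a x ↦ rfl
  have hs : Function.Surjective G := by
    intro y
    induction y using CliffordAlgebra.induction with
    | algebraMap a => exact ⟨a ⊗ₜ 1, by rw [hG, map_one, Algebra.algebraMap_eq_smul_one]⟩
    | ι v =>
      refine ⟨∑ i, b'.repr v i ⊗ₜ ι Q (b i), ?_⟩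
      conv_rhs => rw [← b'.sum_repr v]
      simp [map_sum, hG, hb]
    | mul x y hx hy => obtain ⟨p, rfl⟩ := hx; obtain ⟨q, rfl⟩ := hy; exact ⟨p * q, map_mul G p q⟩
    | add x y hx hy => obtain ⟨p, rfl⟩ := hx; obtain ⟨q, rfl⟩ := hy; exact ⟨p + q, map_add G p q⟩
  have hi : Function.Injective G := by
    let B1 := (cliffBasis b Q).baseChange A
    haveI := Module.Finite.of_basis B1
    let E := (cliffBasis b' Q').equiv B1 (Equiv.refl _)
    have := OrzechProperty.injective_of_surjective_endomorphism (E.toLinearMap.comp G.toLinearMap) (E.surjective.comp hs)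
    exact fun x y h ↦ this (congrArg E h)
  let J : A ⊗[R] ↥(CliffordAlgebra.even Q) →ₐ[A] A ⊗[R] CliffordAlgebra Q :=
    Algebra.TensorProduct.map (AlgHom.id A A) (CliffordAlgebra.even Q).val
  have hJ : Function.Injective J := by
    refine Function.LeftInverse.injective (g := LinearMap.lTensor A (pr0 Q)) fun ξ ↦ ?_
    induction ξ using TensorProduct.induction_on with
    | zero => simp
    | tmul a x => simp [J, pr0_val]
    | add x y hx hy => simp only [map_add, hx, hy]
  have hmem : ∀ ξ, G (J ξ) ∈ CliffordAlgebra.even Q' := by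
    intro ξ
    induction ξ using TensorProduct.induction_on with
    | zero => rw [map_zero, map_zero]; exact zero_mem _
    | tmul a x =>
      simp only [J, Algebra.TensorProduct.map_tmul, AlgHom.id_apply, hG, Subalgebra.val_apply]
      exact Subalgebra.smul_mem _ (cliffMap_mem Q Q' f hf x.2) a
    | add x y hx hy => rw [map_add, map_add]; exact add_mem hx hy
  have hdec : ∀ ξ, ∃ η, ∃ o ∈ evenOdd Q' 1, G ξ = G (J η) + o := by
    intro ξ
    induction ξ using TensorProduct.induction_on with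
    | zero => exact ⟨0, 0, zero_mem _, by simp⟩
    | tmul a x =>
      obtain ⟨x₀, h₀, x₁, h₁, rfl⟩ := exists_even_odd x
      refine ⟨a ⊗ₜ ⟨x₀, h₀⟩, a • cliffMap Q Q' f hf x₁, Submodule.smul_mem _ _ (cliffMap_mem Q Q' f hf h₁), ?_⟩
      simp [J, hG]
    | add x y hx hy =>
      obtain ⟨η, o, ho, h⟩ := hx
      obtain ⟨η', o', ho', h'⟩ := hy
      exact ⟨η + η', o + o', add_mem ho ho', by rw [map_add, h, h', map_add, map_add]; abel⟩
  refine ⟨AlgEquiv.ofBijective ((G.comp J).codRestrict _ hmem)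
    ⟨fun x y h ↦ hJ (hi (congrArg Subtype.val h)), fun y ↦ ?_⟩⟩
  obtain ⟨ξ, hξ⟩ := hs y
  obtain ⟨η, o, ho, h⟩ := hdec ξ
  rw [hξ] at h
  refine ⟨η, Subtype.ext ?_⟩
  have := (parts_unique y.2 (zero_mem _) (hmem η) ho (by rw [_root_.add_zero]; exact h)).1
  exact this.symm

end BaseChange

section Split

variable {R : Type u} [CommRing R] {A : Type u} [CommRing A] [Algebra R A]

theorem coeffs_splitForm_map {n m : ℕ} (hnm : m * 2 + 1 = n) :
    (algebraMap R A ∘ QuadGrp.coeffs (Pi.basisFun R (Fin n)) (LinearEquiv.refl R R) (QuadGrp.splitForm R n)) =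
      QuadGrp.coeffs (Pi.basisFun A (Fin n)) (LinearEquiv.refl A A) (QuadGrp.splitForm A n) := by
  subst hnm
  have hmap : ∀ x : Fin (m * 2 + 1) → R,
      algebraMap R A (QuadGrp.splitForm R (m * 2 + 1) x) = QuadGrp.splitForm A (m * 2 + 1) (algebraMap R A ∘ x) := by
    intro x
    rw [splitForm_odd_apply, splitForm_odd_apply, splitForm_even_apply, splitForm_even_apply]
    simp
  funext q
  induction q using Sym2.ind with
  | _ i j =>
    have hsing : ∀ i : Fin (m * 2 + 1), algebraMap R A ∘ (Pi.single i (1 : R)) = Pi.single i 1 := fun i ↦ by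
      funext l; simp [Pi.single_apply, apply_ite (algebraMap R A)]
    have hadd : algebraMap R A ∘ (Pi.single i (1 : R) + Pi.single j 1) = Pi.single i 1 + Pi.single j 1 := by
      rw [← hsing i, ← hsing j]; funext l; exact map_add _ _ _
    simp only [Function.comp_apply, QuadGrp.coeffs_mk, LinearEquiv.refl_apply, Pi.basisFun_apply, polar,
      apply_ite (algebraMap R A), map_sub, hmap, hadd, hsing]

end Split

section Odd

variable {R : Type u} [CommRing R] {M : Type u} [AddCommGroup M] [Module R M] {Q : QuadraticForm R M}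
variable {m : ℕ} (b : Module.Basis (Fin (2 * m + 1)) R M)
  (hQ : QuadGrp.IsSemiregular b (LinearEquiv.refl R R) Q)

include hQ in
theorem exists_fppf_even_matrix :
    ∃ (R' : Type u) (_ : CommRing R') (_ : Algebra R R'), Module.FaithfullyFlat R R' ∧
      Algebra.FinitePresentation R R' ∧
      Nonempty ((R' ⊗[R] ↥(CliffordAlgebra.even Q)) ≃ₐ[R'] Matrix (Fin (2 ^ m)) (Fin (2 ^ m)) R') := by
  let Q0 : QuadraticForm R (Fin (2 * m + 1) → R) := Q.comp b.equivFun.symm.toLinearMap
  have hQ0 : QuadGrp.IsSemiregular (Pi.basisFun R (Fin (2 * m + 1))) (LinearEquiv.refl R R) Q0 := by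
    rw [QuadGrp.IsSemiregular, map_halfDisc (RingHom.id R) _ _ b Q]
    · exact hQ
    funext s
    induction s using Sym2.ind with
    | _ i j =>
      have hb' : ∀ i, b.equivFun.symm (Pi.basisFun R _ i) = b i := fun i ↦
        b.equivFun.injective (by rw [LinearEquiv.apply_symm_apply]; ext l; simp [Pi.single_apply, Finsupp.single_apply, eq_comm])
      simp [QuadGrp.coeffs_mk, Q0, polar, map_add, hb']
  obtain ⟨A, _, _, hff, hfp, ⟨e⟩⟩ := exists_fppf_split (m := m) (by ring) Q0 hQ0
  refine ⟨A, inferInstance, inferInstance, hff, hfp, ?_⟩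
  let L := (bc (R := R) (n := 2 * m + 1) A).equivFun
  have hL : ∀ y : A ⊗[R] (Fin (2 * m + 1) → R), QuadGrp.splitForm A (2 * m + 1) (L y) =
      QuadGrp.baseChangeForm A (QuadGrp.splitForm R (2 * m + 1)) y := by
    intro y
    conv_lhs => rw [← (Pi.basisFun A (Fin (2 * m + 1))).sum_repr (L y), apply_eq_triSum]
    conv_rhs => rw [← (bc (R := R) (n := 2 * m + 1) A).sum_repr y, apply_eq_triSum, coeffs_baseChange,
      coeffs_splitForm_map (A := A) (m := m) (by ring)]
    congr 1
  let f : M →ₗ[R] (Fin (2 * m + 1) → A) :=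
    ((L.toLinearMap.comp e.toLinearEquiv.toLinearMap).restrictScalars R).comp
      ((TensorProduct.mk R A (Fin (2 * m + 1) → R) 1).comp b.equivFun.toLinearMap)
  have hf : ∀ x, QuadGrp.splitForm A (2 * m + 1) (f x) = algebraMap R A (Q x) := by
    intro x
    change QuadGrp.splitForm A (2 * m + 1) (L (e.toLinearEquiv (1 ⊗ₜ b.equivFun x))) = _
    rw [hL]
    refine (e.map_app' _).trans ?_
    rw [baseChangeForm_one_tmul]
    simp [Q0]
  let b' := (Pi.basisFun R (Fin (2 * m + 1))).baseChange A |>.map e.toLinearEquiv |>.map L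
  have hb : ∀ i, b' i = f (b i) := fun i ↦ by
    simp only [b', f, Module.Basis.map_apply, Module.Basis.baseChange_apply, LinearMap.comp_apply,
      LinearMap.restrictScalars_apply, LinearEquiv.coe_coe, TensorProduct.mk_apply]
    congr 3
    ext l
    simp [Pi.single_apply, Finsupp.single_apply, eq_comm]
  obtain ⟨E⟩ := exists_even_baseChange f hf b b' hb
  have key : ∀ n, n = m * 2 + 1 → Nonempty (↥(CliffordAlgebra.even (QuadGrp.splitForm A n)) ≃ₐ[A]
      Matrix (Fin (2 ^ m)) (Fin (2 ^ m)) A) := fun n hn ↦ hn ▸ split_even_matrix m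
  obtain ⟨E'⟩ := key (2 * m + 1) (by ring)
  exact ⟨E.trans E'⟩

include hQ in
theorem exists_loc_odd_central (q : Ideal R) [q.IsPrime] :
    ∃ (z y : CliffordAlgebra Q) (s : R), s ∉ q ∧ z ∈ evenOdd Q 1 ∧ y ∈ evenOdd Q 1 ∧
      (∀ v, ι Q v * z = z * ι Q v) ∧ (∀ v, ι Q v * y = y * ι Q v) ∧
      z * y = algebraMap R _ s ∧ y * z = algebraMap R _ s := by
  haveI := Module.Free.of_basis b
  obtain ⟨S⟩ := exists_loc_split b hQ q
  obtain ⟨z₀, hz₀, hzc, -, -⟩ := S.exists_odd_central
  have lift : ∀ w : CliffordAlgebra (locQ q Q), w ∈ evenOdd (locQ q Q) 1 → (∀ v, ι (locQ q Q) v * w = w * ι (locQ q Q) v) →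
      ∃ x, ∃ s, s ∉ q ∧ x ∈ evenOdd Q 1 ∧ (∀ v, ι Q v * x = x * ι Q v) ∧ locMap q Q x = s • w := by
    intro w hw hwc
    obtain ⟨x, s, hs, hx⟩ := exists_loc_eq_smul q b w
    obtain ⟨x₀, h₀, x₁, h₁, rfl⟩ := exists_even_odd x
    rw [map_add] at hx
    have hx₁ : locMap q Q x₁ = s • w := (parts_unique (cliffMap_mem _ _ _ _ h₀) (cliffMap_mem _ _ _ _ h₁) (zero_mem _)
      (Submodule.smul_of_tower_mem _ s hw) (hx.trans (_root_.zero_add _).symm)).2
    choose t ht htz using fun i ↦ exists_smul_eq_zero_of_loc q b (x := ι Q (b i) * x₁ - x₁ * ι Q (b i)) (by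
      rw [map_sub, map_mul, map_mul, hx₁]
      have : locMap q Q (ι Q (b i)) = ι (locQ q Q) (1 ⊗ₜ b i) := cliffMap_ι _ _ _ _ _
      rw [this, mul_smul_comm, smul_mul_assoc, hwc, sub_self])
    refine ⟨(∏ i, t i) • x₁, (∏ i, t i) * s, ?_, Submodule.smul_mem _ _ h₁, fun v ↦ ?_, by rw [map_smul, hx₁, smul_smul]⟩
    · exact q.primeCompl.mul_mem (q.primeCompl.prod_mem fun i _ ↦ ht i) hs
    refine LinearMap.congr_fun (b.ext fun i ↦ ?_ : (LinearMap.mulRight R ((∏ i, t i) • x₁)).comp (ι Q) =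
      (LinearMap.mulLeft R ((∏ i, t i) • x₁)).comp (ι Q)) v
    simp only [LinearMap.comp_apply, LinearMap.mulLeft_apply, LinearMap.mulRight_apply]
    rw [mul_smul_comm, smul_mul_assoc, ← sub_eq_zero, ← smul_sub, ← Finset.prod_erase_mul _ t (Finset.mem_univ i),
      mul_smul, htz, smul_zero]
  obtain ⟨z, s, hs, hz, hzc', hzl⟩ := lift _ hz₀ hzc
  obtain ⟨y, s', hs', hy, hyc', hyl⟩ := lift (↑z₀⁻¹) (inv_mem_odd z₀ hz₀) fun v ↦
    (Commute.units_inv_right (hzc v)).eq
  obtain ⟨t, ht, ht0⟩ := exists_smul_eq_zero_of_loc q b (x := z * y - algebraMap R _ (s * s')) (by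
    rw [map_sub, map_mul, hzl, hyl, smul_mul_smul_comm, Units.mul_inv, AlgHom.commutes, Algebra.algebraMap_eq_smul_one,
      sub_self])
  rw [smul_sub, sub_eq_zero, Algebra.smul_def, Algebra.smul_def, ← map_mul, ← mul_assoc, ← Algebra.smul_def] at ht0
  refine ⟨t • z, y, t * (s * s'), q.primeCompl.mul_mem ht (q.primeCompl.mul_mem hs hs'), Submodule.smul_mem _ _ hz, hy,
    fun v ↦ by rw [mul_smul_comm, hzc', smul_mul_assoc], hyc', ht0, ?_⟩
  rw [← ht0, mul_smul_comm, smul_mul_assoc, commute_all hzc' y]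

include hQ in
theorem bijective_center_mul_even :
    Function.Bijective (TensorProduct.lift
        (((LinearMap.mul R (CliffordAlgebra Q)).comp (Subalgebra.center R (CliffordAlgebra Q)).val.toLinearMap).compl₂
          (CliffordAlgebra.even Q).val.toLinearMap)) := by
  haveI := Module.Free.of_basis b
  let Z := Subalgebra.center R (CliffordAlgebra Q)
  let T := TensorProduct.lift (((LinearMap.mul R (CliffordAlgebra Q)).comp Z.val.toLinearMap).compl₂
    (CliffordAlgebra.even Q).val.toLinearMap)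
  have hT : ∀ (w : Z) (a : ↥(CliffordAlgebra.even Q)), T (w ⊗ₜ a) = (w : CliffordAlgebra Q) * a := fun w a ↦ rfl
  have hZ : ∀ w : Z, ∀ v, ι Q v * w = w * ι Q v := fun w v ↦ Subalgebra.mem_center_iff.1 w.2 _
  refine ⟨(injective_iff_map_eq_zero T).2 fun ξ hξ ↦ ?_, fun x ↦ ?_⟩
  · refine eq_zero_of_forall_prime (R := R) fun q hq ↦ ?_
    obtain ⟨z, y, s, hs, hz, hy, hzc, hyc, hzy, hyz⟩ := exists_loc_odd_central b hQ q
    let zc : Z := ⟨z, mem_center_of_comm hzc⟩
    have hdec : ∀ η, ∃ a₀ a₁ : ↥(CliffordAlgebra.even Q), s • η = (1 : Z) ⊗ₜ[R] a₀ + zc ⊗ₜ[R] a₁ := by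
      intro η
      induction η using TensorProduct.induction_on with
      | zero => exact ⟨0, 0, by simp⟩
      | tmul w a =>
        obtain ⟨w₀, h₀, w₁, h₁, hw⟩ := exists_even_odd (w : CliffordAlgebra Q)
        have hc := comm_parts h₀ h₁ (by rw [hw]; exact hZ w)
        obtain ⟨r, hr⟩ := odd_exists_scalar b hQ h₀ fun v ↦ (hc v).1
        obtain ⟨c, hc'⟩ := odd_exists_scalar b hQ (x := y * w₁)
          (by
            have h := SetLike.mul_mem_graded hy h₁
            rwa [show (1 : ZMod 2) + 1 = 0 from rfl] at h)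
          fun v ↦ by rw [← mul_assoc, hyc, mul_assoc, (hc v).2, mul_assoc]
        refine ⟨(s * r) • a, c • a, ?_⟩
        rw [TensorProduct.tmul_smul, TensorProduct.tmul_smul, TensorProduct.smul_tmul', TensorProduct.smul_tmul',
          TensorProduct.smul_tmul', ← TensorProduct.add_tmul]
        congr 1
        refine Subtype.ext ?_
        rw [Subalgebra.coe_smul, Subalgebra.coe_add, Subalgebra.coe_smul, Subalgebra.coe_smul, OneMemClass.coe_one,
          ← hw, smul_add, ← hr]
        change s • algebraMap R _ r + s • w₁ = (s * r) • (1 : CliffordAlgebra Q) + c • z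
        congr 1
        · rw [Algebra.algebraMap_eq_smul_one, smul_smul]
        · rw [Algebra.smul_def c, hc', mul_assoc, ← commute_all (x := w₁) (fun v ↦ (hc v).2) z, ← mul_assoc, hyz,
            ← Algebra.smul_def]
      | add η η' h h' =>
        obtain ⟨a, a', e⟩ := h
        obtain ⟨c, c', e'⟩ := h'
        exact ⟨a + c, a' + c', by rw [smul_add, e, e', TensorProduct.tmul_add, TensorProduct.tmul_add]; abel⟩
    obtain ⟨a₀, a₁, e⟩ := hdec ξ
    have h0 := congrArg T e
    rw [map_smul, hξ, smul_zero, map_add, hT, hT, OneMemClass.coe_one, one_mul] at h0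
    have hodd : z * (a₁ : CliffordAlgebra Q) ∈ evenOdd Q 1 := by
      have h := SetLike.mul_mem_graded hz a₁.2
      rwa [_root_.add_zero] at h
    obtain ⟨e0, e1⟩ := parts_unique (zero_mem _) (zero_mem _) a₀.2 hodd
      ((_root_.add_zero _).trans h0)
    refine ⟨s * s, q.primeCompl.mul_mem hs hs, ?_⟩
    have ha₀ : a₀ = 0 := Subtype.ext e0.symm
    have ha₁ : s • a₁ = 0 := Subtype.ext (by
      rw [Subalgebra.coe_smul, Algebra.smul_def, ← hyz, mul_assoc, ← e1, mul_zero]; rfl)
    rw [mul_smul, e, ha₀, TensorProduct.tmul_zero, _root_.zero_add, ← TensorProduct.tmul_smul, ha₁, TensorProduct.tmul_zero]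
  · let I : Ideal R := (LinearMap.range T).comap (LinearMap.toSpanSingleton R (CliffordAlgebra Q) x)
    suffices (1 : R) ∈ I by
      have h : (1 : R) • x ∈ LinearMap.range T := this
      rwa [one_smul] at h
    by_contra h1
    obtain ⟨q, hq, hle⟩ := Ideal.exists_le_maximal I fun h ↦ h1 (h ▸ Submodule.mem_top)
    haveI := hq.isPrime
    obtain ⟨z, y, s, hs, hz, hy, hzc, hyc, hzy, hyz⟩ := exists_loc_odd_central b hQ q
    refine hs (hle ?_)
    change s • x ∈ LinearMap.range T
    obtain ⟨x₀, h₀, x₁, h₁, rfl⟩ := exists_even_odd x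
    have hyx : y * x₁ ∈ evenOdd Q 0 := by
      have h := SetLike.mul_mem_graded hy h₁
      rwa [show (1 : ZMod 2) + 1 = 0 from rfl] at h
    refine ⟨(1 : Z) ⊗ₜ (s • (⟨x₀, h₀⟩ : ↥(CliffordAlgebra.even Q))) + ⟨z, mem_center_of_comm hzc⟩ ⊗ₜ ⟨y * x₁, hyx⟩, ?_⟩
    rw [map_add, hT, hT, Subalgebra.coe_smul, OneMemClass.coe_one, one_mul, smul_add]
    congr 1
    rw [← mul_assoc, hzy, ← Algebra.smul_def]


include b in
theorem exists_compl_range_ι :
    ∃ W : Submodule R (CliffordAlgebra Q), IsCompl (LinearMap.range (ι Q)) W := by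
  let p : CliffordAlgebra Q →ₗ[R] M := ExteriorAlgebra.ιInv.comp (toExt b Q).toLinearMap
  have hp : ∀ v, p (ι Q v) = v := fun v ↦ by
    change ExteriorAlgebra.ιInv (changeForm (neg_toBilin_proof b Q) (ι Q v)) = v
    rw [changeForm_ι]
    exact ExteriorAlgebra.ι_leftInverse v
  refine ⟨LinearMap.ker p, Submodule.disjoint_def.2 ?_, codisjoint_iff.2 (eq_top_iff.2 fun x _ ↦ ?_)⟩
  · rintro _ ⟨v, rfl⟩ hv
    rw [LinearMap.mem_ker, hp] at hv
    rw [hv, map_zero]
  · rw [Submodule.mem_sup]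
    exact ⟨ι Q (p x), ⟨_, rfl⟩, x - ι Q (p x), by simp [hp], by abel⟩

end Odd

end Groth.Agent.QuadH13
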