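import Groth.Agent.Lib.QuadH13.EvenPart
import Mathlib

/-!
The Clifford algebra of the hyperbolic form of rank `2m` and its even part.
-/

universe u v w

open CliffordAlgebra Groth.Agent.QuadH13

namespace Groth.Agent.EvenCliff28

variable (R : Type u) [CommRing R] (m : ℕ)

/-- The hyperbolic form. -/
noncomputable def hyp : QuadraticForm R (Fin m ⊕ Fin m → R) :=
  ∑ i : Fin m, QuadraticMap.linMulLin (LinearMap.proj (Sum.inl i)) (LinearMap.proj (Sum.inr i))

theorem hyp_apply (x : Fin m ⊕ Fin m → R) : hyp R m x = ∑ i, x (Sum.inl i) * x (Sum.inr i) := by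
  simp [hyp, QuadraticMap.sum_apply]

/-- The vector action on the exterior algebra. -/
noncomputable def act : (Fin m ⊕ Fin m → R) →ₗ[R] Module.End R (ExtM R m) :=
  (LinearMap.mul R (ExtM R m)).comp ((ι 0).comp (LinearMap.funLeft R R Sum.inl)) +
    (contractLeft (Q := (0 : QuadraticForm R (Fin m → R)))).comp
      ((Fintype.linearCombination R fun i ↦ (Pi.basisFun R (Fin m)).coord i).comp (LinearMap.funLeft R R Sum.inr))

theorem act_sq (v : Fin m ⊕ Fin m → R) : act R m v * act R m v = algebraMap R _ (hyp R m v) := by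
  refine LinearMap.ext fun x ↦ ?_
  change act R m v (act R m v x) = _
  simp only [act, LinearMap.add_apply, LinearMap.comp_apply, LinearMap.mul_apply_apply, mul_add, map_add,
    contractLeft_ι_mul, contractLeft_contractLeft, ← mul_assoc, ι_sq_scalar]
  simp [hyp_apply, Fintype.linearCombination_apply, Module.algebraMap_end_apply, Finset.sum_smul, smul_smul,
    mul_comm]

/-- The spin representation. -/
noncomputable def spin : CliffordAlgebra (hyp R m) →ₐ[R] Module.End R (ExtM R m) :=
  CliffordAlgebra.lift _ ⟨act R m, act_sq R m⟩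

theorem spin_range : (spin R m).range = ⊤ := by
  classical
  refine subalgebra_eq_top _ (fun i ↦ ?_) fun i ↦ ?_
  · refine ⟨ι _ (Pi.single (Sum.inr i) 1), LinearMap.ext fun x ↦ ?_⟩
    simp only [spin, AlgHom.toRingHom_eq_coe, RingHom.coe_coe, CliffordAlgebra.lift_ι_apply]
    simp [act, extD, Fintype.linearCombination_apply, LinearMap.funLeft, Function.comp_def, Pi.single_apply,
      show (fun _ : Fin m => (0 : R)) = 0 from rfl]
  · refine ⟨ι _ (Pi.single (Sum.inl i) 1), LinearMap.ext fun x ↦ ?_⟩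
    simp only [spin, AlgHom.toRingHom_eq_coe, RingHom.coe_coe, CliffordAlgebra.lift_ι_apply]
    have h : (fun j : Fin m => (Pi.single (Sum.inl i) 1 : Fin m ⊕ Fin m → R) (Sum.inl j)) = Pi.single i 1 := by
      funext j; simp [Pi.single_apply]
    simp [act, extL, Fintype.linearCombination_apply, LinearMap.funLeft, Function.comp_def, h]

/-- The standard basis of the vectors. -/
noncomputable def vbasis : Module.Basis (Fin (2 * m)) R (Fin m ⊕ Fin m → R) :=
  (Pi.basisFun R (Fin m ⊕ Fin m)).reindex (finSumFinEquiv.trans (finCongr (two_mul m).symm))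

theorem spin_bijective : Function.Bijective (spin R m) := by
  classical
  have hs : Function.Surjective (spin R m) := (AlgHom.range_eq_top _).1 (spin_range R m)
  let e : Module.Basis (Finset (Fin m)) R (ExtM R m) := (Pi.basisFun R (Fin m)).ExteriorAlgebra
  let E : Module.End R (ExtM R m) ≃ₗ[R] CliffordAlgebra (hyp R m) :=
    (LinearMap.toMatrix e e).trans ((Matrix.stdBasis R (Finset (Fin m)) (Finset (Fin m))).equiv
      (cliffBasis (vbasis R m) (hyp R m)) (Fintype.equivOfCardEq (by
        simp [Fintype.card_finset, ← pow_add, two_mul])))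
  haveI := finite_clifford (vbasis R m) (hyp R m)
  have hinj := OrzechProperty.injective_of_surjective_endomorphism
    (E.toLinearMap.comp (spin R m).toLinearMap) (E.surjective.comp hs)
  exact ⟨fun x y h ↦ hinj (congrArg E h), hs⟩

theorem act_mem {i : ZMod 2} (v : Fin m ⊕ Fin m → R) {x : ExtM R m} (hx : x ∈ evenOdd _ i) :
    act R m v x ∈ evenOdd _ (i + 1) := by
  refine add_mem ?_ (contract_mem _ hx)
  exact ι_mul_mem _ hx

theorem spin_mem_even {c : CliffordAlgebra (hyp R m)} (hc : c ∈ evenOdd _ 0) {i : ZMod 2} {x : ExtM R m}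
    (hx : x ∈ evenOdd _ i) : spin R m c x ∈ evenOdd _ i := by
  induction c, hc using CliffordAlgebra.even_induction generalizing x with
  | algebraMap r => rw [AlgHom.commutes, Module.algebraMap_end_apply]; exact Submodule.smul_mem _ _ hx
  | add a b _ _ ha hb => rw [map_add, LinearMap.add_apply]; exact add_mem (ha hx) (hb hx)
  | ι_mul_ι_mul a b c _ h =>
    have := act_mem R m a (act_mem R m b (h hx))
    rw [add_assoc, show (1 : ZMod 2) + 1 = 0 from rfl, add_zero] at this
    simpa [spin, Module.End.mul_apply] using this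

theorem spin_mem_odd {c : CliffordAlgebra (hyp R m)} (hc : c ∈ evenOdd _ 1) {i : ZMod 2} {x : ExtM R m}
    (hx : x ∈ evenOdd _ i) : spin R m c x ∈ evenOdd _ (i + 1) := by
  induction c, hc using CliffordAlgebra.odd_induction generalizing x with
  | ι v => simpa [spin] using act_mem R m v hx
  | add a b _ _ ha hb => rw [map_add, LinearMap.add_apply]; exact add_mem (ha hx) (hb hx)
  | ι_mul_ι_mul a b c _ h =>
    have := act_mem R m a (act_mem R m b (h hx))
    rw [add_assoc (i + 1), show (1 : ZMod 2) + 1 = 0 from rfl, add_zero] at this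
    simpa [spin, Module.End.mul_apply] using this

theorem card_parity (hm : 1 ≤ m) (r : ZMod 2) :
    Fintype.card {s : Finset (Fin m) // (s.card : ZMod 2) = r} = 2 ^ (m - 1) := by
  classical
  haveI : NeZero m := ⟨by omega⟩
  let τ : Finset (Fin m) → Finset (Fin m) := fun s ↦ if 0 ∈ s then s.erase 0 else insert 0 s
  have hinv : ∀ s, τ (τ s) = s := fun s ↦ by
    by_cases h : (0 : Fin m) ∈ s <;> simp [τ, h]
  have hcard : ∀ s, ((τ s).card : ZMod 2) = s.card + 1 := fun s ↦ by
    by_cases h : (0 : Fin m) ∈ s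
    · simp only [τ, if_pos h]
      conv_rhs => rw [← Finset.card_erase_add_one h]
      push_cast
      rw [add_assoc, show (1 : ZMod 2) + 1 = 0 from rfl, add_zero]
    · simp only [τ, if_neg h, Finset.card_insert_of_notMem h]
      push_cast
      rfl
  have h2 : ∀ a b : ZMod 2, ¬ (a = b) ↔ a + 1 = b := by decide
  have heq : Fintype.card {s : Finset (Fin m) // ¬ (s.card : ZMod 2) = r} =
      Fintype.card {s : Finset (Fin m) // (s.card : ZMod 2) = r} :=
    Fintype.card_congr ((Function.Involutive.toPerm τ hinv).subtypeEquiv fun s ↦ by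
      show _ ↔ ((τ s).card : ZMod 2) = r
      rw [hcard]; exact h2 _ _)
  have hsum := Fintype.card_subtype_compl (fun s : Finset (Fin m) ↦ (s.card : ZMod 2) = r)
  have hle := Fintype.card_subtype_le (fun s : Finset (Fin m) ↦ (s.card : ZMod 2) = r)
  rw [heq, Fintype.card_finset, Fintype.card_fin] at hsum
  rw [Fintype.card_finset, Fintype.card_fin] at hle
  have : 2 ^ m = 2 * 2 ^ (m - 1) := by rw [← pow_succ']; congr 1; omega
  omega

theorem basis_mem (s : Finset (Fin m)) :
    ((Pi.basisFun R (Fin m)).ExteriorAlgebra s : ExtM R m) ∈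
      evenOdd (0 : QuadraticForm R (Fin m → R)) (s.card : ZMod 2) := by
  rw [ExteriorAlgebra.basis_apply]
  simp only [ExteriorAlgebra.ιMulti_family, ExteriorAlgebra.ιMulti_apply]
  have h := SetLike.list_prod_ofFn_mem_graded (A := evenOdd (0 : QuadraticForm R (Fin m → R)))
    (fun _ : Fin s.card ↦ (1 : ZMod 2))
    (fun j ↦ ι (0 : QuadraticForm R (Fin m → R))
      ((Pi.basisFun R (Fin m) ∘ ⇑(Set.powersetCard.ofFinEmbEquiv.symm (Set.powersetCard.prodEquiv.symm s).2)) j))
    fun j ↦ ι_mem_evenOdd_one _ _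
  have hs : (List.ofFn fun _ : Fin s.card ↦ (1 : ZMod 2)).sum = (s.card : ZMod 2) := by simp
  rw [hs] at h
  exact h

variable {R m} in
theorem preserves_parity_matrix {ι' : Type*} [Fintype ι'] [DecidableEq ι'] {M : Type*} [AddCommGroup M]
    [Module R M] (e : Module.Basis ι' R M) (p : ι' → ZMod 2) (F : ZMod 2 → Submodule R M)
    (he : ∀ j, e j ∈ F (p j)) (hdisj : Disjoint (F 0) (F 1)) (T : Module.End R M) (d : ZMod 2)
    (hT : ∀ j, T (e j) ∈ F (p j + d)) (i j : ι') (hij : p i ≠ p j + d) :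
    LinearMap.toMatrixAlgEquiv e T i j = 0 := by
  classical
  rw [LinearMap.toMatrixAlgEquiv_apply]
  set c := e.repr (T (e j)) with hc
  set r := p j + d with hr
  let y : M := ∑ k ∈ Finset.univ.filter (fun k ↦ p k = r), c k • e k
  let z : M := ∑ k ∈ Finset.univ.filter (fun k ↦ ¬ p k = r), c k • e k
  have hy : y ∈ F r := Submodule.sum_mem _ fun k hk ↦
    Submodule.smul_mem _ _ ((Finset.mem_filter.1 hk).2 ▸ he k)
  have h2 : ∀ a b : ZMod 2, ¬ a = b → a = b + 1 := by decide
  have hz : z ∈ F (r + 1) := Submodule.sum_mem _ fun k hk ↦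
    Submodule.smul_mem _ _ (h2 _ _ (Finset.mem_filter.1 hk).2 ▸ he k)
  have hsum : T (e j) = y + z := by
    rw [Finset.sum_filter_add_sum_filter_not, Module.Basis.sum_repr]
  have hd : Disjoint (F r) (F (r + 1)) := by
    have : ∀ a : ZMod 2, a = 0 ∧ a + 1 = 1 ∨ a = 1 ∧ a + 1 = 0 := by decide
    rcases this r with ⟨h, h'⟩ | ⟨h, h'⟩ <;> rw [h', h]
    · exact hdisj
    · exact hdisj.symm
  have hz0 : z = 0 := Submodule.disjoint_def.1 hd _
    (by rw [show z = T (e j) - y by rw [hsum, add_sub_cancel_left]]; exact sub_mem (hT j) hy) hz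
  have := DFunLike.congr_fun (congrArg e.repr hz0) i
  simpa [z, map_sum, Finsupp.single_apply, Finsupp.finset_sum_apply, hij] using this

/-- The spin matrices: the full algebra and, compatibly, the even part. -/
theorem exists_spin_blocks (hm : 1 ≤ m) :
    ∃ Ψ : CliffordAlgebra (hyp R m) ≃ₐ[R]
        Matrix (Fin (2 ^ (m - 1)) ⊕ Fin (2 ^ (m - 1))) (Fin (2 ^ (m - 1)) ⊕ Fin (2 ^ (m - 1))) R,
      ∀ y, y ∈ CliffordAlgebra.even (hyp R m) ↔ ∃ a d, Ψ y = Matrix.fromBlocks a 0 0 d := by
  classical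
  let N := Fin (2 ^ (m - 1))
  have h01 : ∀ a : ZMod 2, ¬ a = 0 ↔ a = 1 := by decide
  let σ : N ⊕ N ≃ Finset (Fin m) :=
    (Equiv.sumCongr (Fintype.equivFinOfCardEq (card_parity m hm 0)).symm
      ((Fintype.equivFinOfCardEq (card_parity m hm 1)).symm.trans
        (Equiv.subtypeEquivRight fun s : Finset (Fin m) ↦ (h01 _).symm))).trans
      (Equiv.sumCompl fun s : Finset (Fin m) ↦ (s.card : ZMod 2) = 0)
  let p : N ⊕ N → ZMod 2 := Sum.elim (fun _ ↦ 0) fun _ ↦ 1
  have hp : ∀ k, ((σ k).card : ZMod 2) = p k := by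
    rintro (k | k)
    · exact ((Fintype.equivFinOfCardEq (card_parity m hm 0)).symm k).2
    · exact ((Fintype.equivFinOfCardEq (card_parity m hm 1)).symm k).2
  let e : Module.Basis (N ⊕ N) R (ExtM R m) := ((Pi.basisFun R (Fin m)).ExteriorAlgebra).reindex σ.symm
  have he : ∀ k, e k ∈ evenOdd (0 : QuadraticForm R (Fin m → R)) (p k) := fun k ↦ by
    rw [← hp]
    simpa [e] using basis_mem R m (σ k)
  have hdisj : Disjoint (evenOdd (0 : QuadraticForm R (Fin m → R)) 0) (evenOdd 0 1) :=
    Submodule.disjoint_def.2 fun x h h' ↦ eq_zero_of_mem_both h h'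
  let Ψ : CliffordAlgebra (hyp R m) ≃ₐ[R] Matrix (N ⊕ N) (N ⊕ N) R :=
    (AlgEquiv.ofBijective (spin R m) (spin_bijective R m)).trans (LinearMap.toMatrixAlgEquiv e)
  have hΨ : ∀ y, Ψ y = LinearMap.toMatrixAlgEquiv e (spin R m y) := fun _ ↦ rfl
  refine ⟨Ψ, fun y ↦ ⟨fun hy ↦ ⟨(Ψ y).toBlocks₁₁, (Ψ y).toBlocks₂₂, ?_⟩, ?_⟩⟩
  · have h := fun i j (hij : p i ≠ p j + 0) ↦ preserves_parity_matrix e p _ he hdisj (spin R m y) 0
      (fun j ↦ by rw [_root_.add_zero]; exact spin_mem_even R m hy (he j)) i j hij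
    refine Matrix.ext fun i j ↦ ?_
    rcases i with i | i <;> rcases j with j | j
    · rfl
    · simpa [hΨ] using h (Sum.inl i) (Sum.inr j) (by simp [p])
    · simpa [hΨ] using h (Sum.inr i) (Sum.inl j) (by simp [p])
    · rfl
  · rintro ⟨a, d, had⟩
    obtain ⟨y₀, h₀, y₁, h₁, rfl⟩ := exists_even_odd y
    suffices y₁ = 0 by rw [this, _root_.add_zero]; exact h₀
    apply Ψ.injective
    rw [map_zero]
    refine Matrix.ext fun i j ↦ ?_
    rw [Matrix.zero_apply]
    have h2 : ∀ a b : ZMod 2, a = b + 1 → a ≠ b + 0 := by decide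
    by_cases hij : p i = p j + 1
    · have h := preserves_parity_matrix e p _ he hdisj (spin R m y₀) 0
        (fun j ↦ by rw [_root_.add_zero]; exact spin_mem_even R m h₀ (he j)) i j (h2 _ _ hij)
      have hsum := congrFun (congrFun had i) j
      rw [map_add, Matrix.add_apply, hΨ y₀, h, _root_.zero_add] at hsum
      rw [hsum]
      rcases i with i | i <;> rcases j with j | j <;> simp [p] at hij ⊢
    · exact preserves_parity_matrix e p _ he hdisj (spin R m y₁) 1 (fun j ↦ spin_mem_odd R m h₁ (he j)) i j hij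

end Groth.Agent.EvenCliff28
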