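import Groth.Agent.Lib.QuadH13.GPinScheme
import Groth.Agent.Lib.QuadH13.OddMain

/-!
The Clifford group scheme and the Pin group scheme of a semiregular form of odd rank: equations and smoothness.
-/

universe u v

open QuadraticMap CliffordAlgebra TensorProduct CategoryTheory AlgebraicGeometry

namespace Groth.Agent.QuadH13

set_option backward.isDefEq.respectTransparency.types false

section Parity

variable {R : Type u} [CommRing R] {M : Type v} [AddCommGroup M] [Module R M] (Q : QuadraticForm R M)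

/-- The homogeneous component of parity `p`. -/
noncomputable def par (p : ZMod 2) (x : CliffordAlgebra Q) : CliffordAlgebra Q :=
  (DirectSum.decompose (evenOdd Q) x p : CliffordAlgebra Q)

variable {Q}

theorem par_mem (p : ZMod 2) (x : CliffordAlgebra Q) : par Q p x ∈ evenOdd Q p := SetLike.coe_mem _

theorem par_add_par (x : CliffordAlgebra Q) : par Q 0 x + par Q 1 x = x := by
  classical
  conv_rhs => rw [← DirectSum.sum_support_decompose (evenOdd Q) x]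
  rw [Finset.sum_subset (Finset.subset_univ _) (fun i _ hi ↦ by
    rw [DFinsupp.notMem_support_iff.mp hi, ZeroMemClass.coe_zero])]
  exact (Fin.sum_univ_two (f := fun i : Fin 2 ↦ (DirectSum.decompose (evenOdd Q) x i : CliffordAlgebra Q))).symm

theorem par1_eq_zero_iff (x : CliffordAlgebra Q) : par Q 1 x = 0 ↔ x ∈ evenOdd Q 0 :=
  ⟨fun h ↦ by have h' := par_add_par x; rw [h, add_zero] at h'; exact h' ▸ par_mem 0 x,
    fun h ↦ DirectSum.decompose_of_mem_ne _ h (by decide)⟩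

theorem par0_eq_zero_iff (x : CliffordAlgebra Q) : par Q 0 x = 0 ↔ x ∈ evenOdd Q 1 :=
  ⟨fun h ↦ by have h' := par_add_par x; rw [h, zero_add] at h'; exact h' ▸ par_mem 1 x,
    fun h ↦ DirectSum.decompose_of_mem_ne _ h (by decide)⟩

end Parity

variable {R : Type u} [CommRing R] {n : ℕ} (Q : QuadraticForm R (Fin n → R))
  {A B : Type u} [CommRing A] [Algebra R A] [CommRing B] [Algebra R B]

theorem cliffHom_mem (φ : A →ₐ[R] B) {p : ZMod 2} {x : CliffordAlgebra (qA Q A)} (hx : x ∈ evenOdd (qA Q A) p) :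
    cliffHom Q φ x ∈ evenOdd (qA Q B) p := by
  letI := φ.toRingHom.toAlgebra
  haveI : IsScalarTower R A B := IsScalarTower.of_algebraMap_eq fun r ↦ (φ.commutes r).symm
  exact cliffMap_mem (qA Q A) (qA Q B) _ _ hx

theorem cliffHom_star (φ : A →ₐ[R] B) (x : CliffordAlgebra (qA Q A)) :
    cliffHom Q φ (star x) = star (cliffHom Q φ x) := by
  letI := φ.toRingHom.toAlgebra
  haveI : IsScalarTower R A B := IsScalarTower.of_algebraMap_eq fun r ↦ (φ.commutes r).symm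
  exact cliffMap_star _ _ x

theorem cliffHom_par (φ : A →ₐ[R] B) (p : ZMod 2) (x : CliffordAlgebra (qA Q A)) :
    cliffHom Q φ (par (qA Q A) p x) = par (qA Q B) p (cliffHom Q φ x) := by
  have h := congrArg (cliffHom Q φ) (par_add_par x)
  rw [map_add] at h
  obtain ⟨h0, h1⟩ := parts_unique (cliffHom_mem Q φ (par_mem 0 x)) (cliffHom_mem Q φ (par_mem 1 x))
    (par_mem 0 _) (par_mem 1 _) (h.trans (par_add_par _).symm)
  fin_cases p
  · exact h0
  · exact h1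

/-- The variables: those of the naive group and an idempotent. -/
abbrev OVar (n : ℕ) : Type := GVar n ⊕ Unit

/-- The indices of the equations. -/
abbrev OIdx (n : ℕ) : Type := ((Bool ⊕ Fin n) ⊕ Fin 3) ⊕ Unit

/-- The equations, as elements of the Clifford algebra; the last one is the norm. -/
noncomputable def ozOf (v : OVar n → A) : OIdx n → CliffordAlgebra (qA Q A)
  | .inl (.inl k) => zOf Q (v ∘ Sum.inl) k
  | .inl (.inr 0) => algebraMap A _ (v (.inr ()) * v (.inr ()) - v (.inr ()))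
  | .inl (.inr 1) => par (qA Q A) 1 (v (.inr ()) • xOf Q (v ∘ Sum.inl))
  | .inl (.inr 2) => par (qA Q A) 0 ((1 - v (.inr ())) • xOf Q (v ∘ Sum.inl))
  | .inr _ => star (xOf Q (v ∘ Sum.inl)) * xOf Q (v ∘ Sum.inl) - 1

theorem cliffHom_ozOf (φ : A →ₐ[R] B) (v : OVar n → A) (k : OIdx n) :
    cliffHom Q φ (ozOf Q v k) = ozOf Q (φ ∘ v) k := by
  have hx : cliffHom Q φ (xOf Q (v ∘ Sum.inl)) = xOf Q ((φ ∘ v) ∘ Sum.inl) := cliffHom_xOf Q φ _
  rcases k with (k | k) | k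
  · exact cliffHom_zOf Q φ _ k
  · fin_cases k
    · change cliffHom Q φ (algebraMap A _ _) = algebraMap B _ (φ (v (.inr ())) * φ (v (.inr ())) - φ (v (.inr ())))
      rw [cliffHom_algebraMap, map_sub, map_mul]
    · change cliffHom Q φ (par _ 1 _) = par _ 1 (φ (v (.inr ())) • _)
      rw [cliffHom_par, cliffHom_smul, hx]
    · change cliffHom Q φ (par _ 0 _) = par _ 0 ((1 - φ (v (.inr ()))) • _)
      rw [cliffHom_par, cliffHom_smul, hx, map_sub, map_one]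
  · change cliffHom Q φ (star _ * _ - 1) = star _ * _ - 1
    rw [map_sub, map_mul, map_one, cliffHom_star, hx]

/-- The equations. -/
noncomputable def pinEqn (k : OIdx n × Finset (Fin n)) : MvPolynomial (OVar n) R :=
  (eBas Q (MvPolynomial (OVar n) R)).repr (ozOf Q (MvPolynomial.X : OVar n → MvPolynomial (OVar n) R) k.1) k.2

/-- The equations without the norm. -/
noncomputable def gpinOddEqn (k : ((Bool ⊕ Fin n) ⊕ Fin 3) × Finset (Fin n)) : MvPolynomial (OVar n) R :=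
  pinEqn Q (.inl k.1, k.2)

theorem aeval_pinEqn (v : OVar n → A) (k : OIdx n × Finset (Fin n)) :
    MvPolynomial.aeval v (pinEqn Q k) = (eBas Q A).repr (ozOf Q v k.1) k.2 := by
  rw [pinEqn, ← repr_cliffHom, cliffHom_ozOf]
  congr 3
  funext i
  exact MvPolynomial.aeval_X v i

theorem repr_eq_zero_iff (z : CliffordAlgebra (qA Q A)) : (∀ S, (eBas Q A).repr z S = 0) ↔ z = 0 :=
  ⟨fun h ↦ (eBas Q A).ext_elem fun S ↦ by rw [h S, map_zero, Finsupp.zero_apply],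
    fun h S ↦ by rw [h, map_zero, Finsupp.zero_apply]⟩

theorem gpinOddEqn_iff (v : OVar n → A) :
    (∀ k, MvPolynomial.aeval v (gpinOddEqn Q k) = 0) ↔ ∀ k, ozOf Q v (.inl k) = 0 := by
  simp only [gpinOddEqn, aeval_pinEqn, Prod.forall, repr_eq_zero_iff]

theorem pinEqn_iff (v : OVar n → A) :
    (∀ k, MvPolynomial.aeval v (pinEqn Q k) = 0) ↔ (∀ k, ozOf Q v (.inl k) = 0) ∧
      star (xOf Q (v ∘ Sum.inl)) * xOf Q (v ∘ Sum.inl) = 1 := by
  simp only [aeval_pinEqn, Prod.forall, repr_eq_zero_iff]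
  exact ⟨fun h ↦ ⟨fun k ↦ h (.inl k), sub_eq_zero.1 (h (.inr ()))⟩,
    fun h k ↦ k.rec h.1 fun _ ↦ sub_eq_zero.2 h.2⟩

section Sol

variable {Q}

theorem osol_idem (v : OVar n → A) (h : ∀ k, ozOf Q v (.inl k) = 0) :
    v (.inr ()) * v (.inr ()) = v (.inr ()) :=
  sub_eq_zero.1 (algebraMap_inj (bc (R := R) A) (qA Q A) ((h (.inr 0)).trans (map_zero _).symm))

theorem osol_even (v : OVar n → A) (h : ∀ k, ozOf Q v (.inl k) = 0) :
    v (.inr ()) • xOf Q (v ∘ Sum.inl) ∈ evenOdd (qA Q A) 0 :=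
  (par1_eq_zero_iff _).1 (h (.inr 1))

theorem osol_odd (v : OVar n → A) (h : ∀ k, ozOf Q v (.inl k) = 0) :
    (1 - v (.inr ())) • xOf Q (v ∘ Sum.inl) ∈ evenOdd (qA Q A) 1 :=
  (par0_eq_zero_iff _).1 (h (.inr 2))

/-- The unit of a solution. -/
noncomputable def osolUnit (v : OVar n → A) (h : ∀ k, ozOf Q v (.inl k) = 0) : (CliffordAlgebra (qA Q A))ˣ :=
  solUnit (v ∘ Sum.inl) fun k ↦ h (.inl k)

theorem eq_of_both_parity (u : (CliffordAlgebra (qA Q A))ˣ) {e f : A}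
    (he : e • (u : CliffordAlgebra (qA Q A)) ∈ evenOdd (qA Q A) 0)
    (hf : (1 - f) • (u : CliffordAlgebra (qA Q A)) ∈ evenOdd (qA Q A) 1) : e * (1 - f) = 0 := by
  have h : (e * (1 - f)) • (u : CliffordAlgebra (qA Q A)) = 0 := eq_zero_of_mem_both
    (by rw [mul_comm, mul_smul]; exact Submodule.smul_mem _ _ he)
    (by rw [mul_smul]; exact Submodule.smul_mem _ _ hf)
  rw [Algebra.smul_def] at h
  exact algebraMap_inj (bc (R := R) A) (qA Q A) ((u.isUnit.mul_left_eq_zero.1 h).trans (map_zero _).symm)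

theorem osol_ext {v v' : OVar n → A} (h : ∀ k, ozOf Q v (.inl k) = 0) (h' : ∀ k, ozOf Q v' (.inl k) = 0)
    (he : xOf Q (v ∘ Sum.inl) = xOf Q (v' ∘ Sum.inl)) : v = v' := by
  have hg := sol_ext (fun k ↦ h (.inl k)) (fun k ↦ h' (.inl k)) he
  have h1 := eq_of_both_parity (osolUnit v h) (osol_even v h) (f := v' (.inr ()))
    (by have := osol_odd v' h'; rw [← he] at this; exact this)
  have h2 := eq_of_both_parity (osolUnit v h) (e := v' (.inr ()))
    (by have := osol_even v' h'; rw [← he] at this; exact this) (osol_odd v h)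
  funext i
  rcases i with i | ⟨⟩
  · exact congrFun hg i
  · linear_combination h1 - h2

end Sol

section Odd

variable {m : ℕ} {Q : QuadraticForm R (Fin (2 * m + 1) → R)}
  (hQ : QuadGrp.IsSemiregular (Pi.basisFun R (Fin (2 * m + 1))) (LinearEquiv.refl R R) Q)

include hQ in
theorem qA_semiregular (A : Type u) [CommRing A] [Algebra R A] :
    QuadGrp.IsSemiregular (bc (R := R) A) (LinearEquiv.refl A A) (qA Q A) := by
  rw [QuadGrp.IsSemiregular, map_halfDisc (algebraMap R A) (bc (R := R) A) _ (Pi.basisFun R (Fin (2 * m + 1))) Q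
    (coeffs_baseChange _ _ Q)]
  exact hQ.map _

/-- The matrix of the induced map. -/
def gMat (v : GVar n → A) : Matrix (Fin n) (Fin n) A := Matrix.of fun k i ↦ v (.inr (k, i))

theorem det_constr_gOf (v : GVar n → A) :
    LinearMap.det ((bc (R := R) A).constr A (gOf (R := R) v)) = (gMat v).det := by
  rw [← LinearMap.det_toMatrix (bc (R := R) A)]
  congr 1
  ext k i
  rw [LinearMap.toMatrix_apply, Module.Basis.constr_basis, gOf, Module.Basis.repr_sum_self]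
  rfl

/-- The isometry of a solution. -/
noncomputable def gEquiv (v : GVar (2 * m + 1) → A) (h : ∀ k, zOf Q v k = 0)
    (hQ : QuadGrp.IsSemiregular (Pi.basisFun R (Fin (2 * m + 1))) (LinearEquiv.refl R R) Q) :
    (A ⊗[R] (Fin (2 * m + 1) → R)) ≃ₗ[A] (A ⊗[R] (Fin (2 * m + 1) → R)) :=
  LinearMap.equivOfIsUnitDet (IsUnit.of_mul_eq_one _ (det_sq_eq_one (odd_two_mul_add_one m) (bc (R := R) A) (qA Q A)
    (qA_semiregular hQ A) _ (sol_isometry v h)))

theorem gEquiv_apply (v : GVar (2 * m + 1) → A) (h : ∀ k, zOf Q v k = 0) (w : A ⊗[R] (Fin (2 * m + 1) → R)) :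
    gEquiv v h hQ w = (bc (R := R) A).constr A (gOf (R := R) v) w :=
  LinearMap.equivOfIsUnitDet_apply ..

include hQ in
theorem osolUnit_mem (v : OVar (2 * m + 1) → A) (h : ∀ k, ozOf Q v (.inl k) = 0) :
    osolUnit v h ∈ QuadGrp.gpin Q A :=
  ⟨mem_GPin'_of_conj _ (gEquiv (v ∘ Sum.inl) (fun k ↦ h (.inl k)) hQ)
      fun w ↦ by rw [gEquiv_apply]; exact sol_conj _ (fun k ↦ h (.inl k)) w,
    v (.inr ()), osol_idem v h, osol_even v h, osol_odd v h⟩

theorem gOf_eq (v : GVar n → A) (i : Fin n) (w : A ⊗[R] (Fin n → R))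
    (h : ∀ k, v (.inr (k, i)) = (bc (R := R) A).repr w k) : gOf v i = w := by
  rw [gOf]
  simp only [h]
  exact (bc (R := R) A).sum_repr w

theorem exists_osol {u : (CliffordAlgebra (qA Q A))ˣ} (hu : u ∈ QuadGrp.gpin Q A) :
    ∃ v : OVar (2 * m + 1) → A, (∀ k, ozOf Q v (.inl k) = 0) ∧ xOf Q (v ∘ Sum.inl) = u := by
  obtain ⟨g, _, hg⟩ := exists_isometry_of_mem_GPin' (bc (R := R) A) hu.1
  obtain ⟨e, he, he0, he1⟩ := hu.2
  let v : OVar (2 * m + 1) → A := Sum.elim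
    (Sum.elim (Sum.elim (fun S ↦ (eBas Q A).repr u S) fun S ↦ (eBas Q A).repr (↑u⁻¹) S)
      fun ki ↦ (bc (R := R) A).repr (g (bc (R := R) A ki.2)) ki.1) fun _ ↦ e
  have hx : xOf Q (v ∘ Sum.inl) = u := (eBas Q A).sum_repr _
  refine ⟨v, ?_, hx⟩
  rintro (((_ | _) | i) | k)
  · change yOf Q _ * xOf Q _ - 1 = 0
    rw [hx, show yOf Q (v ∘ Sum.inl) = ↑u⁻¹ from (eBas Q A).sum_repr _, Units.inv_mul, sub_self]
  · change xOf Q _ * yOf Q _ - 1 = 0
    rw [hx, show yOf Q (v ∘ Sum.inl) = ↑u⁻¹ from (eBas Q A).sum_repr _, Units.mul_inv, sub_self]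
  · change xOf Q _ * _ - ι _ (gOf _ i) * xOf Q _ = 0
    rw [hx, gOf_eq (v ∘ Sum.inl) i (g (bc (R := R) A i)) (fun k ↦ rfl), hg, sub_self]
  · fin_cases k
    · change algebraMap A _ (e * e - e) = 0
      rw [show e * e = e from he, sub_self, map_zero]
    · change par _ 1 (e • xOf Q _) = 0
      rw [hx]; exact (par1_eq_zero_iff _).2 he0
    · change par _ 0 ((1 - e) • xOf Q _) = 0
      rw [hx]; exact (par0_eq_zero_iff _).2 he1

theorem exists_unit_lift [IsLocalRing A] {I : Ideal A} (hI : I ≠ ⊤) {cb : A ⧸ I} (hcb : IsUnit cb) :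
    ∃ c : Aˣ, Ideal.Quotient.mk I c = cb := by
  obtain ⟨c0, hc0⟩ := Ideal.Quotient.mk_surjective cb
  refine ⟨(IsLocalRing.notMem_maximalIdeal.1 fun hm ↦ ?_ : IsUnit c0).unit, hc0⟩
  obtain ⟨d, hd⟩ := hcb.exists_right_inv
  obtain ⟨d0, rfl⟩ := Ideal.Quotient.mk_surjective d
  rw [← hc0, ← map_mul, ← map_one (Ideal.Quotient.mk I), Ideal.Quotient.eq] at hd
  have h1 := sub_mem (Ideal.mul_mem_right d0 _ hm) (IsLocalRing.le_maximalIdeal hI hd)
  rw [sub_sub_cancel] at h1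
  exact (IsLocalRing.maximalIdeal.isMaximal A).ne_top ((Ideal.eq_top_iff_one _).2 h1)

theorem parity_of_idem [IsLocalRing A] {u : CliffordAlgebra (qA Q A)} {e : A} (he : e * e = e)
    (h0 : e • u ∈ evenOdd (qA Q A) 0) (h1 : (1 - e) • u ∈ evenOdd (qA Q A) 1) :
    u ∈ evenOdd (qA Q A) 0 ∨ u ∈ evenOdd (qA Q A) 1 := by
  rcases IsLocalRing.isUnit_or_isUnit_one_sub_self e with h | h
  · rw [show e = 1 from h.mul_eq_left.1 he, one_smul] at h0
    exact .inl h0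
  · have h0' : e * (1 - e) = 0 := by linear_combination -he
    rw [h.mul_left_eq_zero.1 h0', sub_zero, one_smul] at h1
    exact .inr h1

include hQ in
theorem exists_unit_lift_gpin [IsLocalRing A] {I : Ideal A} (hItop : I ≠ ⊤) (hI : ∀ x ∈ I, ∀ y ∈ I, x * y = 0)
    (v : OVar (2 * m + 1) → A) (hbar : ∀ k, ozOf Q (Ideal.Quotient.mkₐ R I ∘ v) (.inl k) = 0) :
    ∃ (u : (CliffordAlgebra (qA Q A))ˣ) (g : (A ⊗[R] (Fin (2 * m + 1) → R)) ≃ₗ[A] (A ⊗[R] (Fin (2 * m + 1) → R))),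
      (∀ w, (u : CliffordAlgebra (qA Q A)) * ι (qA Q A) w = ι (qA Q A) (g w) * u) ∧
      ((u : CliffordAlgebra (qA Q A)) ∈ evenOdd (qA Q A) 0 ∨ (u : CliffordAlgebra (qA Q A)) ∈ evenOdd (qA Q A) 1) ∧
      cliffHom Q (Ideal.Quotient.mkₐ R I) u = xOf Q ((Ideal.Quotient.mkₐ R I ∘ v) ∘ Sum.inl) := by
  haveI : Nontrivial (A ⧸ I) := Ideal.Quotient.nontrivial_iff.2 hItop
  haveI : IsLocalRing (A ⧸ I) := IsLocalRing.of_surjective' (Ideal.Quotient.mk I) Ideal.Quotient.mk_surjective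
  let π : A →ₐ[R] A ⧸ I := Ideal.Quotient.mkₐ R I
  let g := (bc (R := R) A).constr A (gOf (R := R) (v ∘ Sum.inl))
  have hz : ∀ k, zOf Q (π ∘ v ∘ Sum.inl) k = 0 := fun k ↦ hbar (.inl k)
  have hgbar : ∀ w, LinearMap.rTensor (Fin (2 * m + 1) → R) π.toLinearMap (g w) =
      (bc (R := R) (A ⧸ I)).constr (A ⧸ I) (gOf (R := R) (π ∘ v ∘ Sum.inl))
        (LinearMap.rTensor (Fin (2 * m + 1) → R) π.toLinearMap w) := by
    intro w
    conv_lhs => rw [← (bc (R := R) A).sum_repr w]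
    conv_rhs => rw [← (bc (R := R) A).sum_repr w]
    simp only [map_sum, map_smul, rTensor_smul, g, Module.Basis.constr_basis, rTensor_bc, rTensor_gOf]
  have hgI : ∀ w, qA Q A (g w) - qA Q A w ∈ I := fun w ↦ Ideal.Quotient.eq.1 (by
    change π _ = π _
    rw [← qA_rTensor, ← qA_rTensor, hgbar, sol_isometry _ hz])
  have hdet : LinearMap.det g - 1 ∈ I := by
    have h1 := odd_det_eq_one (bc (R := R) (A ⧸ I)) (qA_semiregular hQ (A ⧸ I)) (g := gEquiv _ hz hQ)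
      (u := solUnit _ hz) fun w ↦ by rw [gEquiv_apply]; exact sol_conj _ hz w
    rw [show (gEquiv _ hz hQ : _ →ₗ[A ⧸ I] _) = (bc (R := R) (A ⧸ I)).constr (A ⧸ I) (gOf (R := R) (π ∘ v ∘ Sum.inl)) from
      LinearMap.ext (gEquiv_apply hQ _ hz), det_constr_gOf] at h1
    refine Ideal.Quotient.eq.1 ?_
    rw [det_constr_gOf, RingHom.map_det, map_one]
    exact h1
  obtain ⟨g', hg', hd', hgg⟩ := exists_lift_det (qA Q A) (bc (R := R) A) hItop hI
    (fun h2 ↦ by rw [← two_mul_halfDisc (odd_two_mul_add_one m)]; exact h2.mul (qA_semiregular hQ A))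
    (fun _ ↦ ⟨odd_two_mul_add_one m, qA_semiregular hQ A⟩) g hgI hdet
  let g'' := LinearMap.equivOfIsUnitDet (f := g') (by rw [hd']; exact isUnit_one)
  have hg'' : ∀ w, g'' w = g' w := fun w ↦ LinearMap.equivOfIsUnitDet_apply ..
  obtain ⟨S⟩ := exists_oddSplit m (bc (R := R) A) (qA Q A) (qA_semiregular hQ A)
  obtain ⟨T⟩ := exists_oddSplit m (bc (R := R) (A ⧸ I)) (qA Q (A ⧸ I)) (qA_semiregular hQ (A ⧸ I))
  obtain ⟨δ, u, -, hδ, hu, huc, -⟩ := S.exists_conj_det g'' fun w ↦ by rw [hg'']; exact hg' w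
  rw [show (g'' : _ →ₗ[A] _) = g' from LinearMap.ext hg'', hd'] at hδ
  simp only [← hδ, one_smul] at huc
  let ū := Units.map (cliffHom Q π).toMonoidHom u
  let xb := solUnit (π ∘ v ∘ Sum.inl) hz
  have hred : ∀ i, LinearMap.rTensor (Fin (2 * m + 1) → R) π.toLinearMap (g' (bc (R := R) A i)) =
      gOf (π ∘ v ∘ Sum.inl) i := by
    intro i
    have h0 : LinearMap.rTensor (Fin (2 * m + 1) → R) π.toLinearMap (g' (bc (R := R) A i) - g (bc (R := R) A i)) = 0 := by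
      refine Submodule.smul_induction_on (hgg (bc (R := R) A i)) (fun r hr w _ ↦ ?_)
        fun x y hx hy ↦ by rw [map_add, hx, hy, add_zero]
      rw [rTensor_smul, show π r = 0 from Ideal.Quotient.eq_zero_iff_mem.2 hr, zero_smul]
    rw [map_sub, sub_eq_zero, hgbar, rTensor_bc, Module.Basis.constr_basis] at h0
    exact h0
  have hcen : ∀ w, ι (qA Q (A ⧸ I)) w * ((↑ū⁻¹ : CliffordAlgebra (qA Q (A ⧸ I))) * xb) =
      (↑ū⁻¹ : CliffordAlgebra (qA Q (A ⧸ I))) * xb * ι (qA Q (A ⧸ I)) w := by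
    intro w
    refine LinearMap.congr_fun ((bc (R := R) (A ⧸ I)).ext fun i ↦ ?_ :
      (LinearMap.mulRight (A ⧸ I) ((↑ū⁻¹ : CliffordAlgebra (qA Q (A ⧸ I))) * xb)).comp (ι (qA Q (A ⧸ I))) =
        (LinearMap.mulLeft (A ⧸ I) ((↑ū⁻¹ : CliffordAlgebra (qA Q (A ⧸ I))) * xb)).comp (ι (qA Q (A ⧸ I)))) w
    simp only [LinearMap.comp_apply, LinearMap.mulLeft_apply, LinearMap.mulRight_apply]
    have e1 : (ū : CliffordAlgebra (qA Q (A ⧸ I))) * ι (qA Q (A ⧸ I)) (bc (R := R) (A ⧸ I) i) =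
        ι (qA Q (A ⧸ I)) (gOf (π ∘ v ∘ Sum.inl) i) * (ū : CliffordAlgebra (qA Q (A ⧸ I))) := by
      have h := congrArg (cliffHom Q π) (huc (bc (R := R) A i))
      rw [map_mul, map_mul, cliffHom_ι, cliffHom_ι, rTensor_bc, hg'', hred] at h
      exact h
    have e2 : (xb : CliffordAlgebra (qA Q (A ⧸ I))) * ι (qA Q (A ⧸ I)) (bc (R := R) (A ⧸ I) i) =
        ι (qA Q (A ⧸ I)) (gOf (π ∘ v ∘ Sum.inl) i) * (xb : CliffordAlgebra (qA Q (A ⧸ I))) :=
      sub_eq_zero.1 (hz (.inr i))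
    rw [mul_assoc, e2, ← mul_assoc, ← mul_assoc]
    congr 1
    refine ū.isUnit.mul_left_cancel ?_
    rw [← mul_assoc, e1, mul_assoc, Units.mul_inv, mul_one, ← mul_assoc, Units.mul_inv, one_mul]
  have hconj : ∀ (c : (CliffordAlgebra (qA Q A))ˣ), (∀ w, ι (qA Q A) w * c = c * ι (qA Q A) w) →
      ∀ w, (↑(u * c) : CliffordAlgebra (qA Q A)) * ι (qA Q A) w = ι (qA Q A) (g'' w) * ↑(u * c) := fun c hc w ↦ by
    rw [Units.val_mul, mul_assoc, ← hc, ← mul_assoc, huc, mul_assoc]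
  have hgoal : ∀ c : (CliffordAlgebra (qA Q A))ˣ, cliffHom Q π c = (↑ū⁻¹ : CliffordAlgebra (qA Q (A ⧸ I))) * xb →
      cliffHom Q π ↑(u * c) = xOf Q ((π ∘ v) ∘ Sum.inl) := fun c hc ↦ by
    rw [Units.val_mul, map_mul, hc, ← mul_assoc]
    change (ū : CliffordAlgebra (qA Q (A ⧸ I))) * _ * _ = _
    rw [Units.mul_inv, one_mul]
    rfl
  have hūi : (↑ū⁻¹ : CliffordAlgebra (qA Q (A ⧸ I))) ∈ evenOdd (qA Q (A ⧸ I)) 0 :=
    (QuadGrp.evenUnits (qA Q (A ⧸ I))).inv_mem (x := ū) (cliffHom_mem Q π hu)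
  rcases parity_of_idem (osol_idem _ hbar) (osol_even _ hbar) (osol_odd _ hbar) with hx | hx
  · obtain ⟨cb, hcb⟩ := T.exists_scalar_of_even_central (by
      have h := SetLike.mul_mem_graded hūi hx
      rw [zero_add] at h
      exact h) hcen
    obtain ⟨c, hc⟩ := exists_unit_lift hItop
      (isUnit_of_algebraMap (bc (R := R) (A ⧸ I)) (qA Q (A ⧸ I)) (by rw [hcb]; exact (ū⁻¹ * xb).isUnit))
    let cC : (CliffordAlgebra (qA Q A))ˣ := Units.map (algebraMap A (CliffordAlgebra (qA Q A))).toMonoidHom c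
    refine ⟨u * cC, g'', hconj cC (fun w ↦ (Algebra.commutes (c : A) (ι (qA Q A) w)).symm), .inl ?_, hgoal cC ?_⟩
    · rw [Units.val_mul]
      have h := SetLike.mul_mem_graded hu (SetLike.algebraMap_mem_graded (evenOdd (qA Q A)) (c : A))
      rw [add_zero] at h
      exact h
    · change cliffHom Q π (algebraMap A _ (c : A)) = _
      rw [cliffHom_algebraMap, show π (c : A) = cb from hc, hcb]
  · obtain ⟨z, hz1, hzc, -, -⟩ := S.exists_odd_central
    let zb := Units.map (cliffHom Q π).toMonoidHom z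
    have hzbc : ∀ w, ι (qA Q (A ⧸ I)) w * zb = (zb : CliffordAlgebra (qA Q (A ⧸ I))) * ι (qA Q (A ⧸ I)) w := by
      intro w
      refine LinearMap.congr_fun ((bc (R := R) (A ⧸ I)).ext fun i ↦ ?_ :
        (LinearMap.mulRight (A ⧸ I) (zb : CliffordAlgebra (qA Q (A ⧸ I)))).comp (ι (qA Q (A ⧸ I))) =
          (LinearMap.mulLeft (A ⧸ I) (zb : CliffordAlgebra (qA Q (A ⧸ I)))).comp (ι (qA Q (A ⧸ I)))) w
      have h := congrArg (cliffHom Q π) (hzc (bc (R := R) A i))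
      rw [map_mul, map_mul, cliffHom_ι, rTensor_bc] at h
      exact h
    obtain ⟨tb, htb⟩ := T.exists_smul_of_odd_central (z := zb) (cliffHom_mem Q π hz1) hzbc
      (by
        have h := SetLike.mul_mem_graded hūi hx
        rw [zero_add] at h
        exact h) hcen
    obtain ⟨c, hc⟩ := exists_unit_lift hItop (isUnit_of_algebraMap (bc (R := R) (A ⧸ I)) (qA Q (A ⧸ I)) (c := tb) (by
      have h : IsUnit (algebraMap (A ⧸ I) _ tb * (zb : CliffordAlgebra (qA Q (A ⧸ I)))) := by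
        rw [← Algebra.smul_def, htb]
        exact (ū⁻¹ * xb).isUnit
      exact ((Commute.isUnit_mul_iff (Algebra.commutes tb _)).1 h).1))
    let cC : (CliffordAlgebra (qA Q A))ˣ := Units.map (algebraMap A (CliffordAlgebra (qA Q A))).toMonoidHom c * z
    have hcC : (cC : CliffordAlgebra (qA Q A)) = (c : A) • (z : CliffordAlgebra (qA Q A)) := (Algebra.smul_def _ _).symm
    refine ⟨u * cC, g'', hconj cC (fun w ↦ by rw [hcC, mul_smul_comm, hzc, smul_mul_assoc]), .inr ?_, hgoal cC ?_⟩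
    · rw [Units.val_mul, hcC]
      simpa using SetLike.mul_mem_graded hu (Submodule.smul_mem _ (c : A) hz1)
    · rw [hcC, cliffHom_smul, show π (c : A) = tb from hc]
      exact htb

include hQ in
theorem exists_osol_lift [IsLocalRing A] {I : Ideal A} (hItop : I ≠ ⊤) (hI : ∀ x ∈ I, ∀ y ∈ I, x * y = 0)
    (v : OVar (2 * m + 1) → A) (hbar : ∀ k, ozOf Q (Ideal.Quotient.mkₐ R I ∘ v) (.inl k) = 0) :
    ∃ v' : OVar (2 * m + 1) → A, (∀ i, (v' - v) i ∈ I) ∧ (∀ k, ozOf Q v' (.inl k) = 0) ∧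
      (1 ≤ m → star (xOf Q ((Ideal.Quotient.mkₐ R I ∘ v) ∘ Sum.inl)) * xOf Q ((Ideal.Quotient.mkₐ R I ∘ v) ∘ Sum.inl) = 1 →
        star (xOf Q (v' ∘ Sum.inl)) * xOf Q (v' ∘ Sum.inl) = 1) := by
  let π : A →ₐ[R] A ⧸ I := Ideal.Quotient.mkₐ R I
  obtain ⟨u, g, hc, hp, hred⟩ := exists_unit_lift_gpin hQ hItop hI v hbar
  have hLH : ∀ x : CliffordAlgebra (qA Q A), (x ∈ evenOdd (qA Q A) 0 ∨ x ∈ evenOdd (qA Q A) 1) →
      QuadGrp.IsLocHomog (qA Q A) x := by
    rintro x (h | h)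
    · exact ⟨1, IsIdempotentElem.one, by rwa [one_smul], by rw [sub_self, zero_smul]; exact zero_mem _⟩
    · exact ⟨0, IsIdempotentElem.zero, by rw [zero_smul]; exact zero_mem _, by rwa [sub_zero, one_smul]⟩
  have finish : ∀ u' : (CliffordAlgebra (qA Q A))ˣ, u' ∈ QuadGrp.gpin Q A →
      cliffHom Q π u' = xOf Q ((π ∘ v) ∘ Sum.inl) →
      ∃ v' : OVar (2 * m + 1) → A, (∀ i, (v' - v) i ∈ I) ∧ (∀ k, ozOf Q v' (.inl k) = 0) ∧
        xOf Q (v' ∘ Sum.inl) = u' := by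
    intro u' hu' hr
    obtain ⟨v', hv', hx'⟩ := exists_osol hu'
    have hv'π : ∀ k, ozOf Q (π ∘ v') (.inl k) = 0 := fun k ↦ by rw [← cliffHom_ozOf, hv', map_zero]
    have heq : π ∘ v' = π ∘ v := osol_ext hv'π hbar (by
      rw [show xOf Q ((π ∘ v') ∘ Sum.inl) = cliffHom Q π (xOf Q (v' ∘ Sum.inl)) from (cliffHom_xOf Q π _).symm, hx', hr])
    exact ⟨v', fun i ↦ Ideal.Quotient.eq.1 (congrFun heq i), hv', hx'⟩
  have hmem : u ∈ QuadGrp.gpin Q A := ⟨mem_GPin'_of_conj u g hc, hLH _ hp⟩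
  by_cases hm : 1 ≤ m ∧ star (xOf Q ((π ∘ v) ∘ Sum.inl)) * xOf Q ((π ∘ v) ∘ Sum.inl) = 1
  swap
  · obtain ⟨v', h1, h2, -⟩ := finish u hmem hred
    exact ⟨v', h1, h2, fun h h' ↦ absurd ⟨h, h'⟩ hm⟩
  obtain ⟨S⟩ := exists_oddSplit m (bc (R := R) A) (qA Q A) (qA_semiregular hQ A)
  have hNc : ∀ w, ι (qA Q A) w * (star (u : CliffordAlgebra (qA Q A)) * u) =
      star (u : CliffordAlgebra (qA Q A)) * u * ι (qA Q A) w := by
    intro w
    have h := congrArg star (hc w)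
    rw [star_mul, star_mul, star_ι, star_ι, neg_mul, mul_neg, neg_inj] at h
    rw [← mul_assoc, h, mul_assoc, mul_assoc, hc]
  have hN0 : star (u : CliffordAlgebra (qA Q A)) * u ∈ evenOdd (qA Q A) 0 := by
    have hs : ∀ {p : ZMod 2} {x : CliffordAlgebra (qA Q A)}, x ∈ evenOdd (qA Q A) p →
        star x ∈ evenOdd (qA Q A) p := by
      intro p x hx
      rw [star_def, reverse_mem_evenOdd_iff]
      fin_cases p
      · rwa [involute_eq_of_mem_even hx]
      · rw [involute_eq_of_mem_odd hx]; exact neg_mem hx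
    rcases hp with h | h
    · simpa using SetLike.mul_mem_graded (hs h) h
    · have := SetLike.mul_mem_graded (hs h) h
      rwa [show (1 : ZMod 2) + 1 = 0 from rfl] at this
  obtain ⟨l, hl⟩ := S.exists_scalar_of_even_central hN0 hNc
  have hπl : π l = 1 := algebraMap_inj (bc (R := R) (A ⧸ I)) (qA Q (A ⧸ I)) (by
    rw [← cliffHom_algebraMap Q π, hl, map_mul, cliffHom_star, map_one]
    exact hred ▸ hm.2)
  have ht : l - 1 ∈ I := Ideal.Quotient.eq.1 (hπl.trans (map_one (Ideal.Quotient.mk I)).symm)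
  obtain ⟨k₁, k₂, hpol⟩ : ∃ k₁ k₂ : Fin (2 * m), IsUnit (polar (qA Q A) (S.bas (S.idx.succAbove k₁)) (S.bas (S.idx.succAbove k₂))) := by
    by_contra hcon
    push Not at hcon
    refine (IsLocalRing.mem_maximalIdeal _).1 ?_ S.minor
    rw [Matrix.det_apply]
    refine Submodule.sum_mem _ fun σ _ ↦ Submodule.smul_of_tower_mem _ _ ?_
    exact Ideal.IsPrime.prod_mem_iff.2 ⟨⟨0, by omega⟩, Finset.mem_univ _, (IsLocalRing.mem_maximalIdeal _).2 (hcon _ _)⟩
  obtain ⟨c, hcu⟩ := hpol.exists_left_inv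
  let a : A ⊗[R] (Fin (2 * m + 1) → R) := S.bas (S.idx.succAbove k₁)
  let b : A ⊗[R] (Fin (2 * m + 1) → R) := c • S.bas (S.idx.succAbove k₂)
  have hab : polar (qA Q A) a b = 1 := by rw [polar_smul_right, smul_eq_mul]; exact hcu
  let P : CliffordAlgebra (qA Q A) := ι (qA Q A) a * ι (qA Q A) b
  let s : A := -(l - 1)
  have hs : s ∈ I := neg_mem ht
  have hss : s * s = 0 := hI _ hs _ hs
  have hPP : ∀ x y : CliffordAlgebra (qA Q A), (s • x) * (s • y) = 0 := fun x y ↦ by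
    rw [smul_mul_smul_comm, hss, zero_smul]
  let W : (CliffordAlgebra (qA Q A))ˣ := ⟨1 + s • P, 1 - s • P,
    by rw [mul_sub, mul_one, add_mul, one_mul, hPP, add_zero, add_sub_cancel_right],
    by rw [mul_add, mul_one, sub_mul, one_mul, hPP, sub_zero, sub_add_cancel]⟩
  let D : (A ⊗[R] (Fin (2 * m + 1) → R)) →ₗ[A] (A ⊗[R] (Fin (2 * m + 1) → R)) :=
    (polarBilin (qA Q A) b).smulRight a - (polarBilin (qA Q A) a).smulRight b
  have hD : ∀ w, P * ι (qA Q A) w = ι (qA Q A) (D w) + ι (qA Q A) w * P := fun w ↦ by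
    simp only [P, D, LinearMap.sub_apply, LinearMap.smulRight_apply, polarBilin_apply_apply, map_sub, map_smul]
    rw [mul_assoc, show ι (qA Q A) b * ι (qA Q A) w = algebraMap A _ (polar (qA Q A) b w) - ι (qA Q A) w * ι (qA Q A) b
      from eq_sub_of_add_eq (ι_mul_ι_add_swap b w), mul_sub, ← Algebra.commutes, ← Algebra.smul_def,
      ← mul_assoc (ι (qA Q A) a) (ι (qA Q A) w), show ι (qA Q A) a * ι (qA Q A) w =
        algebraMap A _ (polar (qA Q A) a w) - ι (qA Q A) w * ι (qA Q A) a from eq_sub_of_add_eq (ι_mul_ι_add_swap a w),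
      sub_mul, ← Algebra.smul_def, mul_assoc]
    abel
  let gw : (A ⊗[R] (Fin (2 * m + 1) → R)) ≃ₗ[A] (A ⊗[R] (Fin (2 * m + 1) → R)) :=
    LinearEquiv.ofLinearMap (LinearMap.id + s • D) (LinearMap.id - s • D)
      (LinearMap.ext fun w ↦ by simp [smul_sub, smul_smul, hss])
      (LinearMap.ext fun w ↦ by simp [smul_add, smul_smul, hss])
  have hgw : ∀ w, (W : CliffordAlgebra (qA Q A)) * ι (qA Q A) w = ι (qA Q A) (gw w) * W := fun w ↦ by
    change (1 + s • P) * _ = ι (qA Q A) (w + s • D w) * (1 + s • P)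
    rw [map_add, map_smul, add_mul, one_mul, smul_mul_assoc, hD, mul_add, mul_one, add_mul, hPP, add_zero,
      mul_smul_comm, smul_add, ← add_assoc, add_right_comm]
  have hW0 : (W : CliffordAlgebra (qA Q A)) ∈ evenOdd (qA Q A) 0 :=
    add_mem (SetLike.one_mem_graded _) (Submodule.smul_mem _ _ (ι_mul_ι_mem_evenOdd_zero _ _ _))
  have hstarW : star (W : CliffordAlgebra (qA Q A)) * W = algebraMap A _ (1 + s) := by
    change star (1 + s • P) * (1 + s • P) = _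
    rw [star_add, star_one, CliffordAlgebra.star_smul, mul_add, mul_one, add_mul, one_mul, hPP, add_zero, add_assoc,
      ← smul_add, map_add, map_one, Algebra.algebraMap_eq_smul_one s]
    congr 2
    simp only [P]
    rw [star_mul, star_ι, star_ι, neg_mul_neg, ι_mul_ι_add_swap, polar_comm, hab, map_one]
  have hmem' : u * W ∈ QuadGrp.gpin Q A := by
    refine ⟨mem_GPin'_of_conj _ (gw.trans g) fun w ↦ ?_, hLH _ ?_⟩
    · rw [Units.val_mul, mul_assoc, hgw, ← mul_assoc, hc, mul_assoc]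
      rfl
    · rw [Units.val_mul]
      rcases hp with h | h
      · exact .inl (by simpa using SetLike.mul_mem_graded h hW0)
      · exact .inr (by simpa using SetLike.mul_mem_graded h hW0)
  obtain ⟨v', h1, h2, h3⟩ := finish (u * W) hmem' (by
    rw [Units.val_mul, map_mul]
    change _ * cliffHom Q π (1 + s • P) = _
    rw [map_add, map_one, cliffHom_smul, show π s = 0 from Ideal.Quotient.eq_zero_iff_mem.2 hs, zero_smul, add_zero,
      mul_one, hred])
  refine ⟨v', h1, h2, fun _ _ ↦ ?_⟩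
  rw [h3, Units.val_mul, star_mul, mul_assoc, ← mul_assoc (star (u : CliffordAlgebra (qA Q A))), ← hl, ← mul_assoc,
    ← Algebra.commutes, mul_assoc, hstarW, ← map_mul,
    show l * (1 + s) = 1 by linear_combination (-1 : A) * hI _ ht _ ht, map_one]

include hQ in
theorem smooth_gpinOddAlg : Algebra.Smooth R (eqAlg (gpinOddEqn Q)) := by
  refine smooth_eqAlg (gpinOddEqn Q) fun A _ _ _ I hI hI2 v hv ↦ ?_
  have hI0 : ∀ x ∈ I, ∀ y ∈ I, x * y = 0 := fun x hx y hy ↦ by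
    have : x * y ∈ I ^ 2 := by rw [pow_two]; exact Ideal.mul_mem_mul hx hy
    rwa [hI2, Ideal.mem_bot] at this
  obtain ⟨v', h1, h2, -⟩ := exists_osol_lift hQ hI hI0 v ((gpinOddEqn_iff Q _).1 fun k ↦ by
    rw [show (Ideal.Quotient.mkₐ R I ∘ v) = fun i ↦ Ideal.Quotient.mkₐ R I (v i) from rfl, ← MvPolynomial.comp_aeval,
      AlgHom.comp_apply]
    exact Ideal.Quotient.eq_zero_iff_mem.2 (hv k))
  exact ⟨v' - v, h1, fun k ↦ by rw [add_sub_cancel]; exact (gpinOddEqn_iff Q v').2 h2 k⟩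

include hQ in
theorem smooth_pinAlg (hm : 1 ≤ m) : Algebra.Smooth R (eqAlg (pinEqn Q)) := by
  refine smooth_eqAlg (pinEqn Q) fun A _ _ _ I hI hI2 v hv ↦ ?_
  have hI0 : ∀ x ∈ I, ∀ y ∈ I, x * y = 0 := fun x hx y hy ↦ by
    have : x * y ∈ I ^ 2 := by rw [pow_two]; exact Ideal.mul_mem_mul hx hy
    rwa [hI2, Ideal.mem_bot] at this
  obtain ⟨hb, hn⟩ := (pinEqn_iff Q (Ideal.Quotient.mkₐ R I ∘ v)).1 fun k ↦ by
    rw [show (Ideal.Quotient.mkₐ R I ∘ v) = fun i ↦ Ideal.Quotient.mkₐ R I (v i) from rfl, ← MvPolynomial.comp_aeval,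
      AlgHom.comp_apply]
    exact Ideal.Quotient.eq_zero_iff_mem.2 (hv k)
  obtain ⟨v', h1, h2, h3⟩ := exists_osol_lift hQ hI hI0 v hb
  exact ⟨v' - v, h1, fun k ↦ by rw [add_sub_cancel]; exact (pinEqn_iff Q v').2 ⟨h2, h3 hm hn⟩ k⟩

open MonObj in
variable (Q) in
theorem smooth_of_sol {σ κ : Type} [Fintype σ] [DecidableEq σ] [Fintype κ] (F : κ → MvPolynomial σ R)
    (hF : Algebra.Smooth R (eqAlg F))
    {T : ∀ (A : Type u) [CommRing A] [Algebra R A], Subgroup (CliffordAlgebra (qA Q A))ˣ}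
    (e : ∀ (A : Type u) [CommRing A] [Algebra R A], {v : σ → A // ∀ k, MvPolynomial.aeval v (F k) = 0} ≃ ↥(T A))
    (he : ∀ (A B : Type u) [CommRing A] [Algebra R A] [CommRing B] [Algebra R B] (φ : A →ₐ[R] B)
      (v : {v : σ → A // ∀ k, MvPolynomial.aeval v (F k) = 0}) (w : {v : σ → B // ∀ k, MvPolynomial.aeval v (F k) = 0}),
      w.1 = φ ∘ v.1 → (((e B w : ↥(T B)) : (CliffordAlgebra (qA Q B))ˣ) : CliffordAlgebra (qA Q B)) =
        cliffHom Q φ (((e A v : ↥(T A)) : (CliffordAlgebra (qA Q A))ˣ) : CliffordAlgebra (qA Q A)))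
    {G : Over (Spec (CommRingCat.of R))} [GrpObj G] (D : QuadGrp.CliffRep Q T G) : Smooth G.hom := by
  let f : ∀ (A : Type u) [CommRing A] [Algebra R A], (QuadGrp.specOver R A ⟶ G) ≃ (eqAlg F →ₐ[R] A) :=
    fun A _ _ ↦ ((D.pts A).toEquiv.trans (e A).symm).trans (eqPoints F A).symm
  refine (smooth_iff_of_points G _ f fun A B _ _ _ _ φ y ↦ ?_).2 hF
  refine (eqPoints F B).injective ((e B).injective (Subtype.ext (Units.ext ?_)))
  have hA : ∀ (A : Type u) [CommRing A] [Algebra R A] (y : QuadGrp.specOver R A ⟶ G),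
      e A (eqPoints F A (f A y)) = D.pts A y := fun A _ _ y ↦ by simp [f]
  rw [hA, D.natural A B φ (cliffHom Q φ) (cliffHom_ι Q φ) (cliffHom_algebraMap Q φ) y,
    he A B φ (eqPoints F A (f A y)) (eqPoints F B (φ.comp (f A y))) rfl, hA]

include hQ in
theorem smooth_gpin_odd {G : Over (Spec (CommRingCat.of R))} [GrpObj G] (D : QuadGrp.GPinRep Q G) :
    Smooth G.hom :=
  smooth_of_sol Q (gpinOddEqn Q) (smooth_gpinOddAlg hQ)
    (fun A _ _ ↦ Equiv.ofBijective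
      (fun v ↦ ⟨osolUnit v.1 ((gpinOddEqn_iff Q v.1).1 v.2), osolUnit_mem hQ _ _⟩)
      ⟨fun v w h ↦ Subtype.ext (osol_ext ((gpinOddEqn_iff Q v.1).1 v.2) ((gpinOddEqn_iff Q w.1).1 w.2)
        (congrArg (fun z : ↥(QuadGrp.gpin Q A) ↦ ((z : (CliffordAlgebra (qA Q A))ˣ) : CliffordAlgebra (qA Q A))) h)),
      fun z ↦ by
        obtain ⟨v, hv, hx⟩ := exists_osol z.2
        exact ⟨⟨v, (gpinOddEqn_iff Q v).2 hv⟩, Subtype.ext (Units.ext hx)⟩⟩)
    (fun A B _ _ _ _ φ v w h ↦ by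
      change xOf Q (w.1 ∘ Sum.inl) = cliffHom Q φ (xOf Q (v.1 ∘ Sum.inl))
      rw [h, cliffHom_xOf]; rfl) D

include hQ in
theorem smooth_pin_odd (hm : 1 ≤ m) {G : Over (Spec (CommRingCat.of R))} [GrpObj G] (D : QuadGrp.PinRep Q G) :
    Smooth G.hom :=
  smooth_of_sol Q (pinEqn Q) (smooth_pinAlg hQ hm)
    (fun A _ _ ↦ Equiv.ofBijective
      (fun v ↦ ⟨osolUnit v.1 ((pinEqn_iff Q v.1).1 v.2).1,
        Subgroup.mem_inf.2 ⟨osolUnit_mem hQ v.1 ((pinEqn_iff Q v.1).1 v.2).1, ((pinEqn_iff Q v.1).1 v.2).2⟩⟩)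
      ⟨fun v w h ↦ Subtype.ext (osol_ext ((pinEqn_iff Q v.1).1 v.2).1 ((pinEqn_iff Q w.1).1 w.2).1
        (congrArg (fun z : ↥(QuadGrp.pin Q A) ↦ ((z : (CliffordAlgebra (qA Q A))ˣ) : CliffordAlgebra (qA Q A))) h)),
      fun z ↦ by
        obtain ⟨v, hv, hx⟩ := exists_osol z.2.1
        refine ⟨⟨v, (pinEqn_iff Q v).2 ⟨hv, ?_⟩⟩, Subtype.ext (Units.ext hx)⟩
        rw [hx]; exact z.2.2⟩)
    (fun A B _ _ _ _ φ v w h ↦ by
      change xOf Q (w.1 ∘ Sum.inl) = cliffHom Q φ (xOf Q (v.1 ∘ Sum.inl))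
      rw [h, cliffHom_xOf]; rfl) D

end Odd

end Groth.Agent.QuadH13
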