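import Groth.Agent.Lib.QuadH13.DetParity

/-!
The Clifford group scheme of a regular form of even rank: equations and smoothness.
-/

universe u

open QuadraticMap CliffordAlgebra TensorProduct CategoryTheory AlgebraicGeometry

namespace Groth.Agent.QuadH13

set_option backward.isDefEq.respectTransparency.types false

variable {R : Type u} [CommRing R] {n : ℕ} (Q : QuadraticForm R (Fin n → R))

/-- The base-changed form. -/
noncomputable abbrev qA (A : Type u) [CommRing A] [Algebra R A] : QuadraticForm A (A ⊗[R] (Fin n → R)) :=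
  QuadGrp.baseChangeForm A Q

section Hom

variable {A B : Type u} [CommRing A] [Algebra R A] [CommRing B] [Algebra R B]

theorem qA_rTensor (φ : A →ₐ[R] B) (v : A ⊗[R] (Fin n → R)) :
    qA Q B (LinearMap.rTensor (Fin n → R) φ.toLinearMap v) = φ (qA Q A v) := by
  rw [← (bc (R := R) B).sum_repr (LinearMap.rTensor (Fin n → R) φ.toLinearMap v), ← (bc (R := R) A).sum_repr v,
    apply_eq_triSum, apply_eq_triSum, (bc (R := R) A).sum_repr v, ← AlgHom.coe_toRingHom, map_triSum, coeffs_baseChange,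
    coeffs_baseChange]
  congr 1
  · funext s; exact (φ.commutes _).symm
  · funext i; exact repr_rTensor A φ v i

/-- The map of Clifford algebras induced by a map of algebras. -/
noncomputable def cliffHom (φ : A →ₐ[R] B) : CliffordAlgebra (qA Q A) →+* CliffordAlgebra (qA Q B) :=
  letI := φ.toRingHom.toAlgebra
  haveI : IsScalarTower R A B := IsScalarTower.of_algebraMap_eq fun r ↦ (φ.commutes r).symm
  (cliffMap (qA Q A) (qA Q B)
    { toFun := fun v ↦ LinearMap.rTensor (Fin n → R) φ.toLinearMap v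
      map_add' := fun x y ↦ map_add _ x y
      map_smul' := fun a v ↦ by
        induction v using TensorProduct.induction_on with
        | zero => simp
        | tmul c m =>
          rw [TensorProduct.smul_tmul', LinearMap.rTensor_tmul, RingHom.id_apply, LinearMap.rTensor_tmul,
            TensorProduct.smul_tmul']
          exact congrArg (· ⊗ₜ[R] m) (map_mul φ a c)
        | add x y hx hy => simp only [smul_add, map_add, hx, hy] }
    (qA_rTensor Q φ)).toRingHom

theorem cliffHom_ι (φ : A →ₐ[R] B) (v : A ⊗[R] (Fin n → R)) :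
    cliffHom Q φ (ι (qA Q A) v) = ι (qA Q B) (LinearMap.rTensor (Fin n → R) φ.toLinearMap v) :=
  letI := φ.toRingHom.toAlgebra
  haveI : IsScalarTower R A B := IsScalarTower.of_algebraMap_eq fun r ↦ (φ.commutes r).symm
  cliffMap_ι (qA Q A) (qA Q B) _ _ v

theorem cliffHom_algebraMap (φ : A →ₐ[R] B) (a : A) :
    cliffHom Q φ (algebraMap A _ a) = algebraMap B _ (φ a) := by
  letI := φ.toRingHom.toAlgebra
  haveI : IsScalarTower R A B := IsScalarTower.of_algebraMap_eq fun r ↦ (φ.commutes r).symm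
  exact (AlgHom.commutes _ a).trans (IsScalarTower.algebraMap_apply A B (CliffordAlgebra (qA Q B)) a)

theorem cliffHom_smul (φ : A →ₐ[R] B) (a : A) (x : CliffordAlgebra (qA Q A)) :
    cliffHom Q φ (a • x) = φ a • cliffHom Q φ x := by
  rw [Algebra.smul_def, map_mul, cliffHom_algebraMap, ← Algebra.smul_def]

theorem rTensor_bc (φ : A →ₐ[R] B) (i : Fin n) :
    LinearMap.rTensor (Fin n → R) φ.toLinearMap (bc (R := R) A i) = bc (R := R) B i := by
  rw [Module.Basis.baseChange_apply, Module.Basis.baseChange_apply, LinearMap.rTensor_tmul, AlgHom.toLinearMap_apply,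
    map_one]

end Hom

section Basis

variable (A : Type u) [CommRing A] [Algebra R A]

/-- The map from the Clifford algebra of the form. -/
noncomputable def fA : CliffordAlgebra Q →ₐ[R] CliffordAlgebra (qA Q A) :=
  cliffMap Q (qA Q A) (TensorProduct.mk R A (Fin n → R) 1) (baseChangeForm_one_tmul A Q)

/-- The images of the basis vectors of the Clifford algebra. -/
noncomputable def eVec (S : Finset (Fin n)) : CliffordAlgebra (qA Q A) :=
  fA Q A (cliffBasis (Pi.basisFun R (Fin n)) Q S)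

theorem fA_ι (i : Fin n) : fA Q A (ι Q (Pi.basisFun R (Fin n) i)) = ι (qA Q A) (bc (R := R) A i) := by
  rw [fA, cliffMap_ι, Module.Basis.baseChange_apply]; rfl

theorem span_eVec : (⊤ : Submodule A (CliffordAlgebra (qA Q A))) ≤ Submodule.span A (Set.range (eVec Q A)) := by
  have hF : ∀ x, fA Q A x ∈ Submodule.span A (Set.range (eVec Q A)) := by
    intro x
    rw [← (cliffBasis (Pi.basisFun R (Fin n)) Q).sum_repr x, map_sum]
    refine sum_mem fun S _ ↦ ?_
    rw [map_smul, ← algebraMap_smul A (((cliffBasis (Pi.basisFun R (Fin n)) Q).repr x) S)]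
    exact Submodule.smul_mem _ _ (Submodule.subset_span ⟨S, rfl⟩)
  intro z hz
  clear hz
  induction z using CliffordAlgebra.induction with
  | algebraMap a =>
    rw [Algebra.algebraMap_eq_smul_one]
    exact Submodule.smul_mem _ _ (map_one (fA Q A) ▸ hF 1)
  | ι v =>
    rw [← (bc (R := R) A).sum_repr v, map_sum]
    refine sum_mem fun i _ ↦ ?_
    rw [map_smul, ← fA_ι]
    exact Submodule.smul_mem _ _ (hF _)
  | mul x y hx hy =>
    have hxy : ∀ y₀, x * fA Q A y₀ ∈ Submodule.span A (Set.range (eVec Q A)) := by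
      intro y₀
      induction hx using Submodule.span_induction with
      | mem w hw => obtain ⟨S, rfl⟩ := hw; rw [eVec, ← map_mul]; exact hF _
      | zero => rw [zero_mul]; exact zero_mem _
      | add a c _ _ ha hc => rw [add_mul]; exact add_mem ha hc
      | smul r a _ ha => rw [smul_mul_assoc]; exact Submodule.smul_mem _ _ ha
    induction hy using Submodule.span_induction with
    | mem w hw => obtain ⟨S, rfl⟩ := hw; exact hxy _
    | zero => rw [mul_zero]; exact zero_mem _
    | add a c _ _ ha hc => rw [mul_add]; exact add_mem ha hc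
    | smul r a _ ha => rw [mul_smul_comm]; exact Submodule.smul_mem _ _ ha
  | add x y hx hy => exact add_mem hx hy

/-- The compatible bases of the Clifford algebras. -/
noncomputable def eBas : Module.Basis (Finset (Fin n)) A (CliffordAlgebra (qA Q A)) := by
  refine Module.Basis.mk (v := eVec Q A) ?_ (span_eVec Q A)
  let L := (cliffBasis (bc (R := R) A) (qA Q A)).equivFun.toLinearMap ∘ₗ Fintype.linearCombination A (eVec Q A)
  have hs : Function.Surjective L := by
    refine (cliffBasis (bc (R := R) A) (qA Q A)).equivFun.surjective.comp ?_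
    rw [← LinearMap.range_eq_top, Fintype.range_linearCombination]
    exact top_le_iff.1 (span_eVec Q A)
  have hi : Function.Injective L := OrzechProperty.injective_of_surjective_endomorphism L hs
  exact linearIndependent_iff_injective_fintypeLinearCombination.2 fun c d hcd ↦ hi (congrArg (cliffBasis (bc (R := R) A) (qA Q A)).equivFun hcd)

theorem eBas_apply (S : Finset (Fin n)) : eBas Q A S = eVec Q A S := Module.Basis.mk_apply ..

end Basis

variable {A B : Type u} [CommRing A] [Algebra R A] [CommRing B] [Algebra R B]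

theorem cliffHom_fA (φ : A →ₐ[R] B) (x : CliffordAlgebra Q) : cliffHom Q φ (fA Q A x) = fA Q B x := by
  induction x using CliffordAlgebra.induction with
  | algebraMap r =>
    rw [AlgHom.commutes, AlgHom.commutes, IsScalarTower.algebraMap_apply R A, cliffHom_algebraMap, φ.commutes,
      ← IsScalarTower.algebraMap_apply]
  | ι v =>
    rw [fA, fA, cliffMap_ι, cliffMap_ι, cliffHom_ι]
    congr 1
    rw [TensorProduct.mk_apply, TensorProduct.mk_apply, LinearMap.rTensor_tmul, AlgHom.toLinearMap_apply, map_one]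
  | mul x y hx hy => simp only [map_mul, hx, hy]
  | add x y hx hy => simp only [map_add, hx, hy]

theorem cliffHom_eBas (φ : A →ₐ[R] B) (S : Finset (Fin n)) : cliffHom Q φ (eBas Q A S) = eBas Q B S := by
  rw [eBas_apply, eBas_apply, eVec, eVec, cliffHom_fA]

theorem repr_cliffHom (φ : A →ₐ[R] B) (z : CliffordAlgebra (qA Q A)) (S : Finset (Fin n)) :
    (eBas Q B).repr (cliffHom Q φ z) S = φ ((eBas Q A).repr z S) := by
  conv_lhs => rw [← (eBas Q A).sum_repr z, map_sum]
  simp only [cliffHom_smul, cliffHom_eBas]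
  simp [Finsupp.single_apply]

/-- The variables. -/
abbrev GVar (n : ℕ) : Type := (Finset (Fin n) ⊕ Finset (Fin n)) ⊕ (Fin n × Fin n)

/-- The unit. -/
noncomputable def xOf (v : GVar n → A) : CliffordAlgebra (qA Q A) :=
  ∑ S, v (.inl (.inl S)) • eBas Q A S

/-- Its inverse. -/
noncomputable def yOf (v : GVar n → A) : CliffordAlgebra (qA Q A) :=
  ∑ S, v (.inl (.inr S)) • eBas Q A S

/-- The induced linear map on a basis vector. -/
noncomputable def gOf (v : GVar n → A) (i : Fin n) : A ⊗[R] (Fin n → R) :=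
  ∑ k, v (.inr (k, i)) • bc (R := R) A k

/-- The equations, as elements of the Clifford algebra. -/
noncomputable def zOf (v : GVar n → A) : Bool ⊕ Fin n → CliffordAlgebra (qA Q A)
  | .inl true => xOf Q v * yOf Q v - 1
  | .inl false => yOf Q v * xOf Q v - 1
  | .inr i => xOf Q v * ι (qA Q A) (bc (R := R) A i) - ι (qA Q A) (gOf v i) * xOf Q v

theorem cliffHom_xOf (φ : A →ₐ[R] B) (v : GVar n → A) : cliffHom Q φ (xOf Q v) = xOf Q (φ ∘ v) := by
  simp only [xOf, map_sum, cliffHom_smul, cliffHom_eBas]; rfl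

theorem cliffHom_yOf (φ : A →ₐ[R] B) (v : GVar n → A) : cliffHom Q φ (yOf Q v) = yOf Q (φ ∘ v) := by
  simp only [yOf, map_sum, cliffHom_smul, cliffHom_eBas]; rfl

theorem rTensor_smul (φ : A →ₐ[R] B) (a : A) (x : A ⊗[R] (Fin n → R)) :
    LinearMap.rTensor (Fin n → R) φ.toLinearMap (a • x) = φ a • LinearMap.rTensor (Fin n → R) φ.toLinearMap x := by
  induction x using TensorProduct.induction_on with
  | zero => simp
  | tmul c m => simp only [TensorProduct.smul_tmul', smul_eq_mul, LinearMap.rTensor_tmul, AlgHom.toLinearMap_apply, map_mul]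
  | add x y hx hy => simp only [smul_add, map_add, hx, hy]

theorem rTensor_gOf (φ : A →ₐ[R] B) (v : GVar n → A) (i : Fin n) :
    LinearMap.rTensor (Fin n → R) φ.toLinearMap (gOf v i) = (gOf (φ ∘ v) i : B ⊗[R] (Fin n → R)) := by
  simp only [gOf, map_sum, rTensor_smul, rTensor_bc]; rfl

theorem cliffHom_zOf (φ : A →ₐ[R] B) (v : GVar n → A) (k : Bool ⊕ Fin n) :
    cliffHom Q φ (zOf Q v k) = zOf Q (φ ∘ v) k := by
  rcases k with (_ | _) | i
  · simp only [zOf, map_sub, map_mul, map_one, cliffHom_xOf, cliffHom_yOf]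
  · simp only [zOf, map_sub, map_mul, map_one, cliffHom_xOf, cliffHom_yOf]
  · simp only [zOf, map_sub, map_mul, cliffHom_xOf, cliffHom_ι, rTensor_bc, rTensor_gOf]

/-- The equations. -/
noncomputable def gpinEqn (k : (Bool ⊕ Fin n) × Finset (Fin n)) : MvPolynomial (GVar n) R :=
  (eBas Q (MvPolynomial (GVar n) R)).repr (zOf Q (MvPolynomial.X : GVar n → MvPolynomial (GVar n) R) k.1) k.2

theorem aeval_gpinEqn (v : GVar n → A) (k : (Bool ⊕ Fin n) × Finset (Fin n)) :
    MvPolynomial.aeval v (gpinEqn Q k) = (eBas Q A).repr (zOf Q v k.1) k.2 := by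
  rw [gpinEqn, ← repr_cliffHom, cliffHom_zOf]
  congr 3
  funext i
  exact MvPolynomial.aeval_X v i

theorem gpinEqn_iff (v : GVar n → A) :
    (∀ k, MvPolynomial.aeval v (gpinEqn Q k) = 0) ↔ ∀ k, zOf Q v k = 0 := by
  simp only [aeval_gpinEqn, Prod.forall]
  exact forall_congr' fun k ↦ ⟨fun h ↦ (eBas Q A).ext_elem fun S ↦ by rw [h S, map_zero, Finsupp.zero_apply],
    fun h S ↦ by rw [h, map_zero, Finsupp.zero_apply]⟩

variable {Q}

theorem qA_regular (hQ : QuadGrp.IsRegular Q) : QuadGrp.IsRegular (qA Q A) :=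
  isRegular_push (Q' := qA Q A) (TensorProduct.mk R A (Fin n → R) 1) (baseChangeForm_one_tmul A Q)
    (Pi.basisFun R (Fin n)) (bc (R := R) A) (fun i ↦ Module.Basis.baseChange_apply ..) hQ

/-- The unit of a solution. -/
noncomputable def solUnit (v : GVar n → A) (h : ∀ k, zOf Q v k = 0) : (CliffordAlgebra (qA Q A))ˣ :=
  ⟨xOf Q v, yOf Q v, sub_eq_zero.1 (h (.inl true)), sub_eq_zero.1 (h (.inl false))⟩

theorem sol_conj (v : GVar n → A) (h : ∀ k, zOf Q v k = 0) (w : A ⊗[R] (Fin n → R)) :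
    xOf Q v * ι (qA Q A) w = ι (qA Q A) ((bc (R := R) A).constr A (gOf v) w) * xOf Q v := by
  refine LinearMap.congr_fun ((bc (R := R) A).ext fun i ↦ ?_ :
    (LinearMap.mulLeft A (xOf Q v)).comp (ι (qA Q A)) =
      (LinearMap.mulRight A (xOf Q v)).comp ((ι (qA Q A)).comp ((bc (R := R) A).constr A (gOf v)))) w
  simp only [LinearMap.comp_apply, LinearMap.mulLeft_apply, LinearMap.mulRight_apply, Module.Basis.constr_basis]
  exact sub_eq_zero.1 (h (.inr i))

theorem sol_isometry (v : GVar n → A) (h : ∀ k, zOf Q v k = 0) (w : A ⊗[R] (Fin n → R)) :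
    qA Q A ((bc (R := R) A).constr A (gOf v) w) = qA Q A w := by
  refine algebraMap_inj (bc (R := R) A) (qA Q A) ((solUnit v h).isUnit.mul_right_cancel ?_)
  change _ * xOf Q v = _ * xOf Q v
  rw [← ι_sq_scalar, mul_assoc, ← sol_conj v h, ← mul_assoc, ← sol_conj v h, mul_assoc, ι_sq_scalar, Algebra.commutes]

theorem solUnit_mem (hn : Even n) (hQ : QuadGrp.IsRegular Q) (v : GVar n → A) (h : ∀ k, zOf Q v k = 0) :
    solUnit v h ∈ QuadGrp.gpin Q A := by
  let g' := LinearMap.equivOfIsUnitDet (IsUnit.of_mul_eq_one _ (det_sq_of_isUnit (qA Q A) (bc (R := R) A)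
    (isUnit_det_polarMat _ (qA_regular hQ)) _ (sol_isometry v h)))
  have h1 := mem_GPin'_of_conj (solUnit v h) g' fun w ↦ by
    rw [LinearMap.equivOfIsUnitDet_apply]; exact sol_conj v h w
  exact ⟨h1, isLocHomog_of_mem_GPin' (bc (R := R) A) hn (qA_regular hQ) h1⟩

theorem sol_ext {v v' : GVar n → A} (h : ∀ k, zOf Q v k = 0) (h' : ∀ k, zOf Q v' k = 0) (he : xOf Q v = xOf Q v') :
    v = v' := by
  have hu : solUnit v h = solUnit v' h' := Units.ext he
  have hy : yOf Q v = yOf Q v' := congrArg (fun u : (CliffordAlgebra (qA Q A))ˣ ↦ (↑u⁻¹ : CliffordAlgebra (qA Q A))) hu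
  funext i
  rcases i with (S | S) | ⟨k, j⟩
  · have := congrArg (fun z ↦ (eBas Q A).repr z S) he
    simpa [xOf, Finsupp.single_apply] using this
  · have := congrArg (fun z ↦ (eBas Q A).repr z S) hy
    simpa [yOf, Finsupp.single_apply] using this
  · have hg : gOf v j = (gOf v' j : A ⊗[R] (Fin n → R)) := by
      refine ι_inj (bc (R := R) A) (qA Q A) ((solUnit v h).isUnit.mul_right_cancel ?_)
      change ι (qA Q A) _ * xOf Q v = ι (qA Q A) _ * xOf Q v
      rw [← sub_eq_zero.1 (h (.inr j))]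
      conv_rhs => rw [he, ← sub_eq_zero.1 (h' (.inr j)), ← he]
    have := congrArg (fun z ↦ (bc (R := R) A).repr z k) hg
    simp only [gOf, Module.Basis.repr_sum_self] at this
    exact this

theorem exists_sol (hQ : QuadGrp.IsRegular Q) {u : (CliffordAlgebra (qA Q A))ˣ} (hu : u ∈ QuadGrp.GPin' (qA Q A)) :
    ∃ v : GVar n → A, (∀ k, zOf Q v k = 0) ∧ xOf Q v = u := by
  obtain ⟨g, _, hg⟩ := exists_isometry_of_mem_GPin' (bc (R := R) A) hu
  refine ⟨Sum.elim (Sum.elim (fun S ↦ (eBas Q A).repr u S) fun S ↦ (eBas Q A).repr (↑u⁻¹) S)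
    fun ki ↦ (bc (R := R) A).repr (g (bc (R := R) A ki.2)) ki.1, ?_, ?_⟩
  · rintro ((_ | _) | i) <;> simp only [zOf, xOf, yOf, gOf, Sum.elim_inl, Sum.elim_inr, Module.Basis.sum_repr]
    · rw [Units.inv_mul, sub_self]
    · rw [Units.mul_inv, sub_self]
    · rw [hg, sub_self]
  · exact (eBas Q A).sum_repr _

theorem isUnit_of_algebraMap {A : Type*} [CommRing A] {V : Type*} [AddCommGroup V] [Module A V] (b : Module.Basis (Fin n) A V)
    (q : QuadraticForm A V) {c : A} (h : IsUnit (algebraMap A (CliffordAlgebra q) c)) : IsUnit c := by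
  obtain ⟨z, hz⟩ := h.exists_right_inv
  refine IsUnit.of_mul_eq_one ((ExteriorAlgebra.algebraMapInv (R := A) (M := V)) (toExt b q z)) ?_
  rw [← Algebra.smul_def] at hz
  have := congrArg (fun x ↦ ExteriorAlgebra.algebraMapInv (R := A) (M := V) (toExt b q x)) hz
  simp only [map_smul, smul_eq_mul] at this
  rw [this]
  exact (congrArg _ (changeForm_one (neg_toBilin_proof b q))).trans (map_one _)

theorem smooth_gpinAlg (hn : Even n) (hQ : QuadGrp.IsRegular Q) : Algebra.Smooth R (eqAlg (gpinEqn Q)) := by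
  refine smooth_eqAlg (gpinEqn Q) fun A _ _ _ I hI hI2 v hv ↦ ?_
  have hI0 : ∀ x ∈ I, ∀ y ∈ I, x * y = 0 := fun x hx y hy ↦ by
    have : x * y ∈ I ^ 2 := by rw [pow_two]; exact Ideal.mul_mem_mul hx hy
    rwa [hI2, Ideal.mem_bot] at this
  let π : A →ₐ[R] A ⧸ I := Ideal.Quotient.mkₐ R I
  have hbar : ∀ k, zOf Q (π ∘ v) k = 0 := (gpinEqn_iff Q _).1 fun k ↦ by
    rw [aeval_gpinEqn, ← cliffHom_zOf, repr_cliffHom, ← aeval_gpinEqn]
    exact Ideal.Quotient.eq_zero_iff_mem.2 (hv k)
  let g := (bc (R := R) A).constr A (gOf (R := R) v)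
  have hgbar : ∀ w, LinearMap.rTensor (Fin n → R) π.toLinearMap (g w) =
      (bc (R := R) (A ⧸ I)).constr (A ⧸ I) (gOf (R := R) (π ∘ v)) (LinearMap.rTensor (Fin n → R) π.toLinearMap w) := by
    intro w
    conv_lhs => rw [← (bc (R := R) A).sum_repr w]
    conv_rhs => rw [← (bc (R := R) A).sum_repr w]
    have hs : ∀ (a : A) (x : A ⊗[R] (Fin n → R)), LinearMap.rTensor (Fin n → R) π.toLinearMap (a • x) =
        π a • LinearMap.rTensor (Fin n → R) π.toLinearMap x := by
      intro a x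
      induction x using TensorProduct.induction_on with
      | zero => simp
      | tmul c m => simp only [TensorProduct.smul_tmul', smul_eq_mul, LinearMap.rTensor_tmul, AlgHom.toLinearMap_apply, map_mul]
      | add x y hx hy => simp only [smul_add, map_add, hx, hy]
    simp only [map_sum, map_smul, hs, g, Module.Basis.constr_basis, rTensor_bc]
    simp only [gOf, map_sum, hs, rTensor_bc]
    rfl
  have hgI : ∀ w, qA Q A (g w) - qA Q A w ∈ I := fun w ↦ Ideal.Quotient.eq.1 (by
    change π _ = π _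
    rw [← qA_rTensor, ← qA_rTensor, hgbar, sol_isometry _ hbar])
  obtain ⟨g', hg', hgg⟩ := exists_lift_of_isUnit (qA Q A) (bc (R := R) A) hI0
    (isUnit_det_polarMat _ (qA_regular hQ)) g hgI
  let g'' := LinearMap.equivOfIsUnitDet (IsUnit.of_mul_eq_one _ (det_sq_of_isUnit (qA Q A) (bc (R := R) A)
    (isUnit_det_polarMat _ (qA_regular hQ)) g' hg'))
  obtain ⟨p, u, -, huc⟩ := exists_conj (bc (R := R) A) hn (qA_regular hQ) g''
    (fun w ↦ by rw [LinearMap.equivOfIsUnitDet_apply]; exact hg' w)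
  let ū := Units.map (cliffHom Q π).toMonoidHom u
  let xb := solUnit (π ∘ v) hbar
  have hred : ∀ i, LinearMap.rTensor (Fin n → R) π.toLinearMap (g' (bc (R := R) A i)) = gOf (π ∘ v) i := by
    intro i
    have h0 : LinearMap.rTensor (Fin n → R) π.toLinearMap (g' (bc (R := R) A i) - g (bc (R := R) A i)) = 0 := by
      refine Submodule.smul_induction_on (hgg (bc (R := R) A i)) (fun r hr m hm ↦ ?_)
        fun x y hx hy ↦ by rw [map_add, hx, hy, add_zero]
      clear hm
      induction m using TensorProduct.induction_on with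
      | zero => rw [smul_zero, map_zero]
      | tmul a m =>
        rw [TensorProduct.smul_tmul', LinearMap.rTensor_tmul, AlgHom.toLinearMap_apply, smul_eq_mul, map_mul,
          show π r = 0 from Ideal.Quotient.eq_zero_iff_mem.2 hr, zero_mul, TensorProduct.zero_tmul]
      | add x y hx hy => rw [smul_add, map_add, hx, hy, add_zero]
    rw [map_sub, sub_eq_zero, hgbar, rTensor_bc, Module.Basis.constr_basis] at h0
    exact h0
  have hcen : ∀ w, ι (qA Q (A ⧸ I)) w * ((↑ū⁻¹ : CliffordAlgebra (qA Q (A ⧸ I))) * xb) =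
      (↑ū⁻¹ : CliffordAlgebra (qA Q (A ⧸ I))) * xb * ι (qA Q (A ⧸ I)) w := by
    intro w
    refine LinearMap.congr_fun ((bc (R := R) (A ⧸ I)).ext fun i ↦ ?_ :
      (LinearMap.mulRight (A ⧸ I) ((↑ū⁻¹ : CliffordAlgebra (qA Q (A ⧸ I))) * xb)).comp (ι (qA Q (A ⧸ I))) =
        (LinearMap.mulLeft (A ⧸ I) ((↑ū⁻¹ : CliffordAlgebra (qA Q (A ⧸ I))) * xb)).comp (ι (qA Q (A ⧸ I)))) w
    simp only [LinearMap.comp_apply, LinearMap.mulLeft_apply, LinearMap.mulRight_apply]
    have e1 : (ū : CliffordAlgebra (qA Q (A ⧸ I))) * ι (qA Q (A ⧸ I)) (bc (R := R) (A ⧸ I) i) = ι (qA Q (A ⧸ I)) (gOf (π ∘ v) i) * (ū : CliffordAlgebra (qA Q (A ⧸ I))) := by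
      have h := congrArg (cliffHom Q π) (huc (bc (R := R) A i))
      rw [map_mul, map_mul, cliffHom_ι, cliffHom_ι, rTensor_bc, LinearMap.equivOfIsUnitDet_apply, hred] at h
      exact h
    have e2 : (xb : CliffordAlgebra (qA Q (A ⧸ I))) * ι (qA Q (A ⧸ I)) (bc (R := R) (A ⧸ I) i) = ι (qA Q (A ⧸ I)) (gOf (π ∘ v) i) * (xb : CliffordAlgebra (qA Q (A ⧸ I))) :=
      sub_eq_zero.1 (hbar (.inr i))
    rw [mul_assoc, e2, ← mul_assoc, ← mul_assoc]
    congr 1
    refine ū.isUnit.mul_left_cancel ?_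
    rw [← mul_assoc, e1, mul_assoc, Units.mul_inv, mul_one, ← mul_assoc, Units.mul_inv, one_mul]
  obtain ⟨cb, hcb⟩ := exists_scalar_of_central (bc (R := R) (A ⧸ I)) hn (qA_regular hQ) hcen
  have hcu : IsUnit cb := isUnit_of_algebraMap (bc (R := R) (A ⧸ I)) (qA Q (A ⧸ I)) (hcb ▸ (ū⁻¹ * xb).isUnit)
  obtain ⟨c0, hc0⟩ := Ideal.Quotient.mk_surjective cb
  obtain ⟨c, rfl⟩ : IsUnit c0 := by
    refine IsLocalRing.notMem_maximalIdeal.1 fun hm ↦ ?_
    haveI : Nontrivial (A ⧸ I) := Ideal.Quotient.nontrivial_iff.2 hI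
    obtain ⟨d, hd⟩ := hcu.exists_right_inv
    obtain ⟨d0, rfl⟩ := Ideal.Quotient.mk_surjective d
    rw [← hc0, ← map_mul, ← map_one (Ideal.Quotient.mk I), Ideal.Quotient.eq] at hd
    have h1 := sub_mem (Ideal.mul_mem_right d0 _ hm) (IsLocalRing.le_maximalIdeal hI hd)
    rw [sub_sub_cancel] at h1
    exact (IsLocalRing.maximalIdeal.isMaximal A).ne_top ((Ideal.eq_top_iff_one _).2 h1)
  let cC : (CliffordAlgebra (qA Q A))ˣ := Units.map (algebraMap A (CliffordAlgebra (qA Q A))).toMonoidHom c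
  have hmem : u * cC ∈ QuadGrp.GPin' (qA Q A) := mem_GPin'_of_conj _ g'' fun w ↦ by
    rw [Units.val_mul]
    change (u : CliffordAlgebra (qA Q A)) * algebraMap A _ c * _ = _ * (u * algebraMap A _ c)
    rw [mul_assoc, Algebra.commutes, ← mul_assoc, huc, mul_assoc]
  obtain ⟨v', hv', hx'⟩ := exists_sol hQ hmem
  have hv'π : ∀ k, zOf Q (π ∘ v') k = 0 := fun k ↦ by rw [← cliffHom_zOf, hv', map_zero]
  have heq : π ∘ v' = π ∘ v := by
    refine sol_ext hv'π hbar ?_
    rw [← cliffHom_xOf, hx', Units.val_mul, map_mul]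
    change (ū : CliffordAlgebra (qA Q (A ⧸ I))) * cliffHom Q π (algebraMap A _ c) = _
    rw [cliffHom_algebraMap, show π c = cb from hc0, hcb, ← mul_assoc, Units.mul_inv, one_mul]
    rfl
  refine ⟨v' - v, fun i ↦ Ideal.Quotient.eq.1 (congrFun heq i), fun k ↦ ?_⟩
  rw [add_sub_cancel]
  exact (gpinEqn_iff Q v').2 hv' k

variable (Q) in
/-- The points of the Clifford group scheme. -/
noncomputable def gpinSolEquiv (hn : Even n) (hQ : QuadGrp.IsRegular Q) (A : Type u) [CommRing A] [Algebra R A] :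
    {v : GVar n → A // ∀ k, MvPolynomial.aeval v (gpinEqn Q k) = 0} ≃ ↥(QuadGrp.gpin Q A) :=
  Equiv.ofBijective (fun v ↦ ⟨solUnit v.1 ((gpinEqn_iff Q v.1).1 v.2), solUnit_mem hn hQ _ _⟩)
    ⟨fun v v' h ↦ Subtype.ext (sol_ext ((gpinEqn_iff Q v.1).1 v.2) ((gpinEqn_iff Q v'.1).1 v'.2)
      (congrArg (fun w : ↥(QuadGrp.gpin Q A) ↦ ((w : (CliffordAlgebra (qA Q A))ˣ) : CliffordAlgebra (qA Q A))) h)),
    fun u ↦ by
      obtain ⟨v, hv, hx⟩ := exists_sol hQ u.2.1
      exact ⟨⟨v, (gpinEqn_iff Q v).2 hv⟩, Subtype.ext (Units.ext hx)⟩⟩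

open MonObj in
theorem smooth_isAffineHom_gpin (hn : Even n) (hQ : QuadGrp.IsRegular Q) {G : Over (Spec (CommRingCat.of R))} [GrpObj G]
    (D : QuadGrp.GPinRep Q G) : Smooth G.hom ∧ IsAffineHom G.hom := by
  let e : ∀ (A : Type u) [CommRing A] [Algebra R A], (QuadGrp.specOver R A ⟶ G) ≃ (eqAlg (gpinEqn Q) →ₐ[R] A) :=
    fun A _ _ ↦ ((D.pts A).toEquiv.trans (gpinSolEquiv Q hn hQ A).symm).trans (eqPoints (gpinEqn Q) A).symm
  have hnat : ∀ (A B : Type u) [CommRing A] [Algebra R A] [CommRing B] [Algebra R B] (φ : A →ₐ[R] B)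
      (y : QuadGrp.specOver R A ⟶ G), e B (QuadGrp.specOverMap R φ ≫ y) = φ.comp (e A y) := by
    intro A B _ _ _ _ φ y
    refine (eqPoints (gpinEqn Q) B).injective ((gpinSolEquiv Q hn hQ B).injective (Subtype.ext (Units.ext ?_)))
    have hA : ∀ (A : Type u) [CommRing A] [Algebra R A] (y : QuadGrp.specOver R A ⟶ G),
        gpinSolEquiv Q hn hQ A (eqPoints (gpinEqn Q) A (e A y)) = D.pts A y := by
      intro A _ _ y
      simp [e]
    rw [hA, D.natural A B φ (cliffHom Q φ) (cliffHom_ι Q φ) (cliffHom_algebraMap Q φ) y]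
    change _ = xOf Q ((eqPoints (gpinEqn Q) B (φ.comp (e A y))).1)
    rw [show (eqPoints (gpinEqn Q) B (φ.comp (e A y))).1 = φ ∘ (eqPoints (gpinEqn Q) A (e A y)).1 from rfl,
      ← cliffHom_xOf, ← hA]
    rfl
  refine ⟨(smooth_iff_of_points G _ e hnat).2 (smooth_gpinAlg hn hQ), ?_⟩
  obtain ⟨i⟩ := exists_iso_of_points G _ e hnat
  rw [← Over.w i.inv]
  change IsAffineHom (i.inv.left ≫ Spec.map (CommRingCat.ofHom (algebraMap R (eqAlg (gpinEqn Q)))))
  haveI : IsIso i.inv.left := (inferInstance : IsIso ((Over.forget _).map i.inv))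
  haveI : IsAffineHom (Spec.map (CommRingCat.ofHom (algebraMap R (eqAlg (gpinEqn Q))))) := isAffineHom_of_isAffine _
  haveI : IsAffine (QuadGrp.specOver R (eqAlg (gpinEqn Q))).left := isAffine_Spec _
  exact (MorphismProperty.cancel_left_of_respectsIso @IsAffineHom _ _).2 (isAffineHom_of_isAffine _)

end Groth.Agent.QuadH13
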