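import Groth.Agent.Lib.QuadH13.SplitFppf
import Mathlib.LinearAlgebra.Matrix.ToLin
import Mathlib.LinearAlgebra.StdBasis

/-!
The Clifford algebra of a hyperbolic form is a matrix algebra, and the even Clifford algebra of a split form of odd
rank is one.
-/

universe u v w

open QuadraticMap CliffordAlgebra

namespace Groth.Agent.QuadH13

set_option backward.isDefEq.respectTransparency.types false

variable {R : Type u} [CommRing R] {m : ℕ}

/-- The exterior algebra on `R^m`. -/
abbrev ExtM (R : Type u) [CommRing R] (m : ℕ) := CliffordAlgebra (0 : QuadraticForm R (Fin m → R))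

/-- The annihilation operators. -/
noncomputable def extD (i : Fin m) : Module.End R (ExtM R m) :=
  contractLeft ((Pi.basisFun R (Fin m)).coord i)

/-- The creation operators. -/
noncomputable def extL (i : Fin m) : Module.End R (ExtM R m) :=
  LinearMap.mulLeft R (ι 0 (Pi.basisFun R (Fin m) i))

theorem isCAR_ext : IsCAR (extD : Fin m → Module.End R (ExtM R m)) extL :=
  isCAR_contract (Pi.basisFun R (Fin m)) 0

theorem extD_jproj {i : Fin m} {k : ℕ} (hk : k ≤ i) (x : ExtM R m) :
    extD i (jproj extD extL k x) = jproj extD extL k (extD i x) := by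
  induction k with
  | zero => rfl
  | succ k ih =>
    have hkm : k < m := by have := i.isLt; omega
    have hne : i ≠ ⟨k, hkm⟩ := fun h ↦ by rw [h] at hk; simp at hk
    simp only [jproj, dif_pos hkm, LinearMap.comp_apply]
    rw [eq_neg_of_add_eq_zero_left ((isCAR_ext (R := R)).anti i ⟨k, hkm⟩ (extL ⟨k, hkm⟩ (jproj extD extL k x))),
      (isCAR_ext (R := R)).homotopy_ne hne, map_neg, neg_neg,
      ih (by omega)]

theorem subalgebra_eq_top (B : Subalgebra R (Module.End R (ExtM R m))) (hD : ∀ i, extD i ∈ B) (hL : ∀ i, extL i ∈ B) :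
    B = ⊤ := by
  let P : ℕ → Module.End R (ExtM R m) := jproj extD extL
  have hP : ∀ k, P k ∈ B := by
    intro k
    induction k with
    | zero => exact B.one_mem
    | succ k ih =>
      simp only [P, jproj]
      split_ifs with h
      · exact B.mul_mem (hD _) (B.mul_mem (hL _) ih)
      · exact ih
  let S := Submodule.span R {f : Module.End R (ExtM R m) | ∃ u ∈ B, ∃ w ∈ B, f = u * P m * w}
  have hS : ∀ j k, k + j = m → ∀ u ∈ B, ∀ w ∈ B, u * P k * w ∈ S := by
    intro j
    induction j with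
    | zero => intro k hk u hu w hw; exact Submodule.subset_span ⟨u, hu, w, hw, by rw [show P k = P m from congrArg P (by omega)]⟩
    | succ j ih =>
      intro k hk u hu w hw
      have hkm : k < m := by omega
      have hstep : P k = P (k + 1) + extL ⟨k, hkm⟩ * P (k + 1) * extD ⟨k, hkm⟩ := by
        refine LinearMap.ext fun x ↦ ?_
        simp only [P, jproj, dif_pos hkm, LinearMap.add_apply, Module.End.mul_apply, LinearMap.comp_apply]
        rw [← extD_jproj (i := ⟨k, hkm⟩) le_rfl x]
        have h1 := isCAR_ext.homotopy_self ⟨k, hkm⟩ (extD ⟨k, hkm⟩ (jproj extD extL k x))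
        rw [isCAR_ext.sq, map_zero, add_zero] at h1
        rw [h1, isCAR_ext.homotopy_self]
      rw [hstep, mul_add, add_mul]
      refine add_mem (ih (k + 1) (by omega) u hu w hw) ?_
      rw [show u * (extL ⟨k, hkm⟩ * P (k + 1) * extD ⟨k, hkm⟩) * w =
        (u * extL ⟨k, hkm⟩) * P (k + 1) * (extD ⟨k, hkm⟩ * w) by simp only [mul_assoc]]
      exact ih (k + 1) (by omega) _ (B.mul_mem hu (hL _)) _ (B.mul_mem (hD _) hw)
  have h1 : (1 : Module.End R (ExtM R m)) ∈ S := by
    have := hS m 0 (by omega) 1 B.one_mem 1 B.one_mem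
    rwa [one_mul, mul_one] at this
  have hmid : ∀ g : Module.End R (ExtM R m), ∃ c : R, P m * g * P m = c • P m := by
    intro g
    obtain ⟨c, hc⟩ := jproj_mem_range (Pi.basisFun R (Fin m)) (g 1)
    refine ⟨c, LinearMap.ext fun x ↦ ?_⟩
    obtain ⟨r, hr⟩ := jproj_mem_range (Pi.basisFun R (Fin m)) x
    change P m (g (P m x)) = c • P m x
    have hr' : P m x = r • (1 : ExtM R m) := hr.symm.trans (Algebra.algebraMap_eq_smul_one r)
    have hc' : P m (g 1) = c • (1 : ExtM R m) := hc.symm.trans (Algebra.algebraMap_eq_smul_one c)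
    rw [hr', map_smul, map_smul, hc', smul_comm]
  refine eq_top_iff.2 fun f _ ↦ ?_
  suffices ∀ s ∈ S, ∀ t ∈ S, s * f * t ∈ B by simpa using this 1 h1 1 h1
  intro s hs t ht
  induction hs using Submodule.span_induction with
  | mem s hs =>
    obtain ⟨u, hu, w, hw, rfl⟩ := hs
    induction ht using Submodule.span_induction with
    | mem t ht =>
      obtain ⟨u', hu', w', hw', rfl⟩ := ht
      obtain ⟨c, hc⟩ := hmid (w * f * u')
      rw [show u * P m * w * f * (u' * P m * w') = u * (P m * (w * f * u') * P m) * w' by simp only [mul_assoc], hc,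
        mul_smul_comm, smul_mul_assoc]
      exact B.smul_mem (B.mul_mem (B.mul_mem hu (hP m)) hw') c
    | zero => rw [mul_zero]; exact B.zero_mem
    | add a c _ _ ha hc => rw [mul_add]; exact B.add_mem ha hc
    | smul r a _ ha => rw [mul_smul_comm]; exact B.smul_mem ha r
  | zero => rw [zero_mul, zero_mul]; exact B.zero_mem
  | add a c _ _ ha hc => rw [add_mul, add_mul]; exact B.add_mem ha hc
  | smul r a _ ha => rw [smul_mul_assoc, smul_mul_assoc]; exact B.smul_mem ha r

theorem exists_equiv_matrix {V : Type v} [AddCommGroup V] [Module R V] (b : Module.Basis (Fin (2 * m)) R V)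
    (Q : QuadraticForm R V) (α β : V →ₗ[R] (Fin m → R)) (hQ : ∀ v, Q v = ∑ i, α v i * β v i)
    (hL : ∀ i, ∃ v, α v = Pi.single i 1 ∧ β v = 0) (hD : ∀ i, ∃ v, α v = 0 ∧ β v = Pi.single i 1) :
    Nonempty (CliffordAlgebra Q ≃ₐ[R] Matrix (Fin (2 ^ m)) (Fin (2 ^ m)) R) := by
  classical
  let d : V →ₗ[R] Module.Dual R (Fin m → R) := (Fintype.linearCombination R fun i ↦ (Pi.basisFun R (Fin m)).coord i).comp β
  let φ : V →ₗ[R] Module.End R (ExtM R m) :=
    (LinearMap.mul R (ExtM R m)).comp ((ι 0).comp α) + (contractLeft (Q := (0 : QuadraticForm R (Fin m → R)))).comp d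
  have hd : ∀ v a, d v a = ∑ i, a i * β v i := fun v a ↦ by
    simp [d, Fintype.linearCombination_apply, mul_comm]
  have hφ : ∀ v, φ v * φ v = algebraMap R _ (Q v) := by
    intro v
    refine LinearMap.ext fun x ↦ ?_
    change φ v (φ v x) = _
    simp only [φ, LinearMap.add_apply, LinearMap.comp_apply, LinearMap.mul_apply_apply, mul_add, map_add,
      contractLeft_ι_mul, contractLeft_contractLeft, ← mul_assoc, ι_sq_scalar]
    simp [hd, hQ, Module.algebraMap_end_apply, Finset.sum_smul, smul_smul, mul_comm]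
  let Φ := CliffordAlgebra.lift Q ⟨φ, hφ⟩
  let e := ((Pi.basisFun R (Fin m)).ExteriorAlgebra : Module.Basis (Finset (Fin m)) R (ExtM R m)).reindex
    (Fintype.equivFinOfCardEq (by rw [Fintype.card_finset, Fintype.card_fin]))
  have htop : Φ.range = ⊤ := by
    refine subalgebra_eq_top _ (fun i ↦ ?_) fun i ↦ ?_
    · obtain ⟨v, h1, h2⟩ := hD i
      refine ⟨ι Q v, ?_⟩
      refine LinearMap.ext fun x ↦ ?_
      simp only [Φ, AlgHom.toRingHom_eq_coe, RingHom.coe_coe, CliffordAlgebra.lift_ι_apply]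
      simp [φ, d, h1, h2, extD, Fintype.linearCombination_apply, Pi.single_apply]
    · obtain ⟨v, h1, h2⟩ := hL i
      refine ⟨ι Q v, ?_⟩
      refine LinearMap.ext fun x ↦ ?_
      simp only [Φ, AlgHom.toRingHom_eq_coe, RingHom.coe_coe, CliffordAlgebra.lift_ι_apply]
      simp [φ, d, h1, h2, extL, Fintype.linearCombination_apply]
  let Ψ : CliffordAlgebra Q →ₐ[R] Matrix (Fin (2 ^ m)) (Fin (2 ^ m)) R := (LinearMap.toMatrixAlgEquiv e).toAlgHom.comp Φ
  have hs : Function.Surjective Ψ := (LinearMap.toMatrixAlgEquiv e).surjective.comp (AlgHom.range_eq_top Φ |>.1 htop)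
  let E : Matrix (Fin (2 ^ m)) (Fin (2 ^ m)) R ≃ₗ[R] CliffordAlgebra Q :=
    (Matrix.stdBasis R (Fin (2 ^ m)) (Fin (2 ^ m))).equiv (cliffBasis b Q) (Fintype.equivOfCardEq (by
      simp [Fintype.card_finset, ← pow_add, two_mul]))
  haveI := finite_clifford b Q
  have hinj := OrzechProperty.injective_of_surjective_endomorphism (E.toLinearMap.comp Ψ.toLinearMap)
    (E.surjective.comp hs)
  exact ⟨AlgEquiv.ofBijective Ψ ⟨fun x y h ↦ hinj (congrArg E h), hs⟩⟩

theorem split_even_matrix (m : ℕ) :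
    Nonempty (↥(CliffordAlgebra.even (QuadGrp.splitForm R (m * 2 + 1))) ≃ₐ[R] Matrix (Fin (2 ^ m)) (Fin (2 ^ m)) R) := by
  classical
  have hn : m * 2 + 1 = 2 * m + 1 := by omega
  let Q := QuadGrp.splitForm R (m * 2 + 1)
  let bas := (Pi.basisFun R (Fin (m * 2 + 1))).reindex (finCongr hn)
  let c2 : Fin m → Fin 2 → Fin (2 * m) := fun i j ↦ (finProdFinEquiv (i, j)).cast (Nat.mul_comm m 2)
  have hbas : ∀ k : Fin (2 * m), bas ((0 : Fin (2 * m + 1)).succAbove k) = Pi.single ((k.cast (Nat.mul_comm 2 m)).succ) 1 := fun k ↦ by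
    simp only [bas, Module.Basis.reindex_apply, Pi.basisFun_apply, Fin.succAbove_zero]
    rfl
  have hbas0 : bas 0 = Pi.single 0 1 := by
    simp only [bas, Module.Basis.reindex_apply, Pi.basisFun_apply]
    rfl
  have hsucc : ∀ k : Fin (m * 2), (Pi.single k.succ (1 : R) : Fin (m * 2 + 1) → R) ∘ Fin.succ = Pi.single k 1 := fun k ↦ by
    funext l; simp [Pi.single_apply]
  have hpol : ∀ x y : Fin (m * 2 + 1) → R, polar Q x y = 2 * (x 0 * y 0) +
      polar (QuadGrp.splitForm R (m * 2)) (x ∘ Fin.succ) (y ∘ Fin.succ) := fun x y ↦ by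
    simp only [Q, polar, splitForm_odd_apply, Pi.add_apply,
      show (x + y) ∘ Fin.succ = x ∘ Fin.succ + y ∘ Fin.succ from rfl]
    ring
  have hval : Q (bas 0) = ((1 : Rˣ) : R) := by
    rw [hbas0]
    change QuadGrp.splitForm R (m * 2 + 1) _ = _
    rw [splitForm_odd_apply, show (Pi.single (0 : Fin (m * 2 + 1)) (1 : R)) ∘ Fin.succ = 0 by
      funext l; simp [Fin.succ_ne_zero], map_zero]
    simp
  let S : OddSplit Q m :=
    { bas := bas
      idx := 0
      a := 1
      val := hval
      orth := fun k ↦ by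
        rw [hbas0, hbas, hpol, hsucc, show (Pi.single (0 : Fin (m * 2 + 1)) (1 : R)) ∘ Fin.succ = 0 by
          funext l; simp [Fin.succ_ne_zero], polar_zero_left]
        simp [(Fin.succ_ne_zero _).symm]
      minor := by
        convert (isUnit_det_polarMat (Pi.basisFun R (Fin (m * 2))) (splitForm_even_regular (R := R) m)) using 1
        rw [← Matrix.det_submatrix_equiv_self (finCongr (Nat.mul_comm 2 m))]
        congr 1
        ext k l
        rw [Matrix.of_apply, Matrix.submatrix_apply, polarMat_apply, hbas, hbas, hpol, hsucc, hsucc, Pi.basisFun_apply,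
          Pi.basisFun_apply]
        simp [(Fin.succ_ne_zero _).symm] }
  let Φ := AlgEquiv.ofBijective (S.phi.codRestrict (CliffordAlgebra.even Q) S.phi_mem)
    ⟨fun x y h ↦ S.phi_injective (congrArg Subtype.val h), fun y ↦ by
      obtain ⟨p, hp⟩ := S.exists_phi y.2; exact ⟨p, Subtype.ext hp⟩⟩
  have hemb : ∀ v l, S.emb v (Fin.succ l) = v (l.cast (Nat.mul_comm m 2)) := fun v l ↦ by
    rw [OddSplit.emb, Module.Basis.constr_apply_fintype, Finset.sum_apply, Finset.sum_eq_single (l.cast (Nat.mul_comm m 2))]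
    · change _ * bas ((0 : Fin (2 * m + 1)).succAbove _) _ = _
      rw [hbas]; simp
    · intro k _ hk
      change _ * bas ((0 : Fin (2 * m + 1)).succAbove _) _ = _
      rw [hbas, Pi.single_eq_of_ne, mul_zero]
      intro h; exact hk (by rw [Fin.succ_inj.1 h]; rfl)
    · simp
  have hemb0 : ∀ v, S.emb v 0 = 0 := fun v ↦ by
    rw [OddSplit.emb, Module.Basis.constr_apply_fintype, Finset.sum_apply]
    refine Finset.sum_eq_zero fun k _ ↦ ?_
    change _ * bas ((0 : Fin (2 * m + 1)).succAbove _) _ = _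
    rw [hbas, Pi.single_eq_of_ne (Fin.succ_ne_zero _).symm, mul_zero]
  let α : (Fin (2 * m) → R) →ₗ[R] (Fin m → R) := LinearMap.pi fun i ↦ -LinearMap.proj (c2 i 0)
  let β : (Fin (2 * m) → R) →ₗ[R] (Fin m → R) := LinearMap.pi fun i ↦ LinearMap.proj (c2 i 1)
  have hc2 : Function.Injective fun p : Fin m × Fin 2 ↦ c2 p.1 p.2 := fun p p' h ↦
    finProdFinEquiv.injective (Fin.cast_injective _ h)
  obtain ⟨M⟩ := exists_equiv_matrix (Pi.basisFun R (Fin (2 * m))) S.qf α β (fun v ↦ by
      change (-((1 : Rˣ) : R)) * QuadGrp.splitForm R (m * 2 + 1) (S.emb v) = _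
      rw [splitForm_odd_apply, splitForm_even_apply, hemb0]
      simp only [Function.comp_apply, hemb, smul_eq_mul, mul_zero, zero_add, Finset.mul_sum]
      refine Finset.sum_congr rfl fun i _ ↦ ?_
      simp [α, β, c2, S])
    (fun i ↦ ⟨-Pi.single (c2 i 0) 1, funext fun l ↦ by
        simp [α, Pi.single_apply, hc2.eq_iff' (a := (l, (0 : Fin 2))) (b := (i, (0 : Fin 2))) rfl, eq_comm],
      funext fun l ↦ by
        simp only [β, LinearMap.pi_apply, LinearMap.proj_apply, Pi.neg_apply, Pi.zero_apply]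
        rw [Pi.single_eq_of_ne fun h ↦ zero_ne_one (α := Fin 2) (congrArg Prod.snd (hc2 (a₁ := (i, 0)) (a₂ := (l, 1)) h.symm)),
          neg_zero]⟩)
    (fun i ↦ ⟨Pi.single (c2 i 1) 1, funext fun l ↦ by
        simp only [α, LinearMap.pi_apply, LinearMap.neg_apply, LinearMap.proj_apply, Pi.zero_apply]
        rw [Pi.single_eq_of_ne fun h ↦ one_ne_zero (α := Fin 2) (congrArg Prod.snd (hc2 (a₁ := (i, 1)) (a₂ := (l, 0)) h.symm)),
          neg_zero],
      funext fun l ↦ by
        simp [β, Pi.single_apply, hc2.eq_iff' (a := (l, (1 : Fin 2))) (b := (i, (1 : Fin 2))) rfl, eq_comm]⟩)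
  exact ⟨Φ.symm.trans M⟩

end Groth.Agent.QuadH13
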