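import Groth.Agent.Lib.QuadH13.Cliff
import Mathlib.RingTheory.LocalRing.MaximalIdeal.Basic
import Mathlib.LinearAlgebra.Dimension.Free

/-!
Isometries of regular forms of even rank are inner in the Clifford algebra; the Dickson condition.
-/

universe u v

open QuadraticMap CliffordAlgebra

namespace Groth.Agent.QuadH13

variable {R : Type u} [CommRing R] {n : ℕ} {M : Type v} [AddCommGroup M] [Module R M]
variable {b : Module.Basis (Fin n) R M} {Q : QuadraticForm R M}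

/-- The twisted commutator with a vector. -/
noncomputable def tw (Q : QuadraticForm R M) (g : M →ₗ[R] M) (v : M) : CliffordAlgebra Q →ₗ[R] CliffordAlgebra Q :=
  LinearMap.mulLeft R (ι Q (g v)) - LinearMap.mulRight R (ι Q v) ∘ₗ (involute (Q := Q)).toLinearMap

theorem tw_apply (g : M →ₗ[R] M) (v : M) (x : CliffordAlgebra Q) :
    tw Q g v x = ι Q (g v) * x - involute x * ι Q v := rfl

theorem polar_map {g : M →ₗ[R] M} (hg : ∀ v, Q (g v) = Q v) (v w : M) :
    polar Q (g v) (g w) = polar Q v w := by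
  simp only [polar, ← map_add, hg]

theorem tw_tw (g : M →ₗ[R] M) (v w : M) (x : CliffordAlgebra Q) :
    tw Q g v (tw Q g w x) = ι Q (g v) * ι Q (g w) * x - x * (ι Q w * ι Q v)
      + (ι Q (g w) * involute x * ι Q v - ι Q (g v) * involute x * ι Q w) := by
  simp only [tw_apply, map_sub, map_mul, involute_ι, involute_involute]
  noncomm_ring

theorem tw_sq {g : M →ₗ[R] M} (hg : ∀ v, Q (g v) = Q v) (v : M) (x : CliffordAlgebra Q) :
    tw Q g v (tw Q g v x) = 0 := by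
  rw [tw_tw, ι_sq_scalar, ι_sq_scalar, hg, Algebra.commutes, sub_self, sub_self, add_zero]

theorem tw_anti {g : M →ₗ[R] M} (hg : ∀ v, Q (g v) = Q v) (v w : M) (x : CliffordAlgebra Q) :
    tw Q g v (tw Q g w x) + tw Q g w (tw Q g v x) = 0 := by
  have h : (ι Q (g v) * ι Q (g w) + ι Q (g w) * ι Q (g v)) * x = x * (ι Q w * ι Q v + ι Q v * ι Q w) := by
    rw [ι_mul_ι_add_swap, ι_mul_ι_add_swap, polar_map hg, polar_comm (⇑Q) w v, Algebra.commutes]
  rw [tw_tw, tw_tw, ← sub_eq_zero.2 h]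
  noncomm_ring

theorem tw_mul_add {g : M →ₗ[R] M} (hg : ∀ v, Q (g v) = Q v) (v w : M) (x : CliffordAlgebra Q) :
    tw Q g v (ι Q (g w) * x) + ι Q (g w) * tw Q g v x = polar Q v w • x := by
  rw [Algebra.smul_def, ← polar_map hg, ← ι_mul_ι_add_swap, tw_apply, tw_apply, map_mul, involute_ι]
  noncomm_ring

theorem tw_mem (g : M →ₗ[R] M) (v : M) {x : CliffordAlgebra Q} :
    (x ∈ evenOdd Q 0 → tw Q g v x ∈ evenOdd Q 1) ∧ (x ∈ evenOdd Q 1 → tw Q g v x ∈ evenOdd Q 0) := by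
  constructor <;> intro hx <;> rw [tw_apply]
  · rw [involute_eq_of_mem_even hx]
    exact sub_mem (ι_mul_mem₀ _ hx) ((add_zero (1 : ZMod 2)) ▸ (by simpa using SetLike.mul_mem_graded hx (ι_mem_evenOdd_one Q v)))
  · rw [involute_eq_of_mem_odd hx, neg_mul, sub_neg_eq_add]
    exact add_mem (ι_mul_mem₁ _ hx) (mul_ι_mem₁ _ hx)

theorem exists_coord_dual (b : Module.Basis (Fin n) R M) (hQ : QuadGrp.IsRegular Q) :
    ∃ w : Fin n → M, (∀ i, polarBilin Q (w i) = b.coord i) ∧ ∀ v, v = ∑ i, polar Q v (b i) • w i := by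
  choose w hw using fun i ↦ contract_eq_of_regular hQ (b.coord i)
  refine ⟨w, hw, fun v ↦ hQ.1 (b.ext fun j ↦ ?_)⟩
  rw [map_sum, LinearMap.sum_apply]
  simp only [map_smul, LinearMap.smul_apply, hw]
  rw [Finset.sum_eq_single j]
  · simp
  · intro i _ hi; simp [Finsupp.single_eq_of_ne hi]
  · simp

theorem isCAR_tw {g : M →ₗ[R] M} (hg : ∀ v, Q (g v) = Q v) {w : Fin n → M}
    (hw : ∀ i, polarBilin Q (w i) = b.coord i) :
    IsCAR (fun i ↦ tw Q g (w i)) (fun j ↦ LinearMap.mulLeft R (ι Q (g (b j)))) where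
  sq i x := tw_sq hg _ x
  anti i j x := tw_anti hg _ _ x
  homotopy i j x := by
    simp only [LinearMap.mulLeft_apply]
    rw [tw_mul_add hg, ← polarBilin_apply_apply, hw, Module.Basis.coord_apply, Module.Basis.repr_self,
      Finsupp.single_apply]
    by_cases h : i = j
    · subst h; simp
    · rw [if_neg (Ne.symm h), if_neg h, zero_smul]

theorem eq_zero_of_one_sub_smul [IsLocalRing R] {C : Type*} [AddCommGroup C] [Module R C] {μ : R}
    (hμ : μ ∈ IsLocalRing.maximalIdeal R) {u : C} (h : μ • u = u) : u = 0 := by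
  obtain ⟨c, hc⟩ := IsLocalRing.isUnit_one_sub_self_of_mem_nonunits μ hμ
  rw [← one_smul R u, ← c.inv_mul, mul_smul, hc, sub_smul, one_smul, h, sub_self, smul_zero]

/-- Over a local ring an isometry of a regular form is twisted conjugation by a homogeneous unit. -/
theorem exists_twisted_conj [IsLocalRing R] (b : Module.Basis (Fin n) R M) (hQ : QuadGrp.IsRegular Q)
    (g : M ≃ₗ[R] M) (hg : g ∈ QuadGrp.O Q) :
    ∃ (p : ZMod 2) (u : (CliffordAlgebra Q)ˣ), (u : CliffordAlgebra Q) ∈ evenOdd Q p ∧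
      ∀ v, ι Q (g v) * u = involute (u : CliffordAlgebra Q) * ι Q v := by
  haveI := free_clifford b Q
  haveI := finite_clifford b Q
  obtain ⟨w, hw, hspan⟩ := exists_coord_dual b hQ
  let D := fun i ↦ tw Q (g : M →ₗ[R] M) (w i)
  let L := fun j ↦ LinearMap.mulLeft R (ι Q (g (b j)))
  have hcar : IsCAR D L := isCAR_tw hg hw
  have hmem : ∀ x : CliffordAlgebra Q, x ∈ jker D n ↔ ∀ v, ι Q (g v) * x = involute x * ι Q v := by
    intro x
    rw [mem_jker]
    refine ⟨fun h v ↦ ?_, fun h i _ ↦ sub_eq_zero.2 (h (w i))⟩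
    rw [← sub_eq_zero, hspan v]
    simp only [map_sum, map_smul, Finset.sum_mul, Finset.mul_sum, ← Finset.sum_sub_distrib, smul_mul_assoc,
      mul_smul_comm, ← smul_sub]
    exact Finset.sum_eq_zero fun i _ ↦ by rw [show ι Q (g (w i)) * x - involute x * ι Q (w i) = 0 from h i i.isLt, smul_zero]
  obtain ⟨hfree, hfin, hrk⟩ := hcar.exists_finrank n le_rfl
  rw [finrank_clifford b Q] at hrk
  have hrk1 : Module.finrank R (jker D n) = 1 :=
    Nat.eq_of_mul_eq_mul_left (show 0 < 2 ^ n by positivity) (by rw [hrk, mul_one])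
  let B := Module.finBasisOfFinrankEq R (jker D n) hrk1
  let u₀ : CliffordAlgebra Q := (B 0 : jker D n)
  have hgen : ∀ x ∈ jker D n, ∃ r : R, r • u₀ = x := fun x hx ↦ ⟨B.repr ⟨x, hx⟩ 0, by
    have := congrArg (Subtype.val : jker D n → CliffordAlgebra Q) (B.sum_repr ⟨x, hx⟩)
    simpa [u₀] using this⟩
  have hinj : ∀ r : R, r • u₀ = 0 → r = 0 := fun r hr ↦ by
    have h' : r • B 0 = 0 := Subtype.ext hr
    have := congrArg (fun y ↦ B.repr y 0) h'
    simpa using this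
  obtain ⟨x₀, hx₀, x₁, hx₁, hsum⟩ := exists_even_odd u₀
  have hparts : x₀ ∈ jker D n ∧ x₁ ∈ jker D n := by
    have hu : ∀ i, D i u₀ = 0 := fun i ↦ (mem_jker D).1 (B 0).2 i i.isLt
    have : ∀ i, D i x₀ = 0 ∧ D i x₁ = 0 := by
      intro i
      have h := hu i
      rw [← hsum, map_add] at h
      have h0 := (tw_mem (g : M →ₗ[R] M) (w i)).1 hx₀
      have h1 := (tw_mem (g : M →ₗ[R] M) (w i)).2 hx₁
      have e : D i x₀ = -D i x₁ := eq_neg_of_add_eq_zero_left h
      have := eq_zero_of_mem_both (e ▸ neg_mem h1 : D i x₀ ∈ evenOdd Q 0) h0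
      exact ⟨this, neg_eq_zero.1 (e.symm.trans this)⟩
    exact ⟨(mem_jker D).2 fun i _ ↦ (this i).1, (mem_jker D).2 fun i _ ↦ (this i).2⟩
  obtain ⟨a₀, ha₀⟩ := hgen x₀ hparts.1
  obtain ⟨a₁, ha₁⟩ := hgen x₁ hparts.2
  have ha : a₀ + a₁ = 1 := sub_eq_zero.1 (hinj _ (by rw [sub_smul, add_smul, ha₀, ha₁, hsum, one_smul, sub_self]))
  obtain ⟨p, hp⟩ : ∃ p, u₀ ∈ evenOdd Q p := by
    rcases IsLocalRing.isUnit_or_isUnit_of_add_one ha with ⟨c, hc⟩ | ⟨c, hc⟩
    · refine ⟨0, ?_⟩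
      have := Submodule.smul_mem (evenOdd Q 0) (↑c⁻¹ : R) hx₀
      rwa [← ha₀, smul_smul, ← hc, c.inv_mul, one_smul] at this
    · refine ⟨1, ?_⟩
      have := Submodule.smul_mem (evenOdd Q 1) (↑c⁻¹ : R) hx₁
      rwa [← ha₁, smul_smul, ← hc, c.inv_mul, one_smul] at this
  obtain ⟨s, hs⟩ : ∃ s : R, involute u₀ = s • u₀ := by
    rcases (show ∀ i : ZMod 2, i = 0 ∨ i = 1 by decide) p with rfl | rfl
    · exact ⟨1, by rw [involute_eq_of_mem_even hp, one_smul]⟩
    · exact ⟨-1, by rw [involute_eq_of_mem_odd hp, neg_smul, one_smul]⟩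
  have hK := (hmem u₀).1 (B 0).2
  have hs2 : s * s = 1 := sub_eq_zero.1 (hinj _ (by
    rw [sub_smul, one_smul, mul_smul, ← hs, ← map_smul, ← hs, involute_involute, sub_self]))
  have hrl : ∀ c, ∃ c', c * u₀ = u₀ * c' := by
    intro c
    induction c using CliffordAlgebra.induction with
    | algebraMap r => exact ⟨algebraMap R _ r, Algebra.commutes r u₀⟩
    | ι v =>
      refine ⟨s • ι Q (g.symm v), ?_⟩
      have := hK (g.symm v)
      rw [g.apply_symm_apply, hs] at this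
      rw [this, smul_mul_assoc, mul_smul_comm]
    | mul x y hx hy =>
      obtain ⟨x', hx'⟩ := hx
      obtain ⟨y', hy'⟩ := hy
      exact ⟨x' * y', by rw [mul_assoc, hy', ← mul_assoc, hx', mul_assoc]⟩
    | add x y hx hy =>
      obtain ⟨x', hx'⟩ := hx
      obtain ⟨y', hy'⟩ := hy
      exact ⟨x' + y', by rw [add_mul, hx', hy', mul_add]⟩
  have hlr : ∀ c, ∃ c', u₀ * c = c' * u₀ := by
    intro c
    induction c using CliffordAlgebra.induction with
    | algebraMap r => exact ⟨algebraMap R _ r, (Algebra.commutes r u₀).symm⟩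
    | ι v =>
      refine ⟨s • ι Q (g v), ?_⟩
      rw [smul_mul_assoc, hK v, hs, smul_mul_assoc, smul_smul, hs2, one_smul]
    | mul x y hx hy =>
      obtain ⟨x', hx'⟩ := hx
      obtain ⟨y', hy'⟩ := hy
      exact ⟨x' * y', by rw [← mul_assoc, hx', mul_assoc, hy', ← mul_assoc]⟩
    | add x y hx hy =>
      obtain ⟨x', hx'⟩ := hx
      obtain ⟨y', hy'⟩ := hy
      exact ⟨x' + y', by rw [mul_add, hx', hy', add_mul]⟩
  let S : Submodule R (CliffordAlgebra Q) := LinearMap.range (LinearMap.mulLeft R u₀)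
  let mC : Submodule R (CliffordAlgebra Q) := IsLocalRing.maximalIdeal R • ⊤
  have hu0 : u₀ ∉ mC := fun h ↦ by
    have key : ∀ x ∈ mC, ∃ μ ∈ IsLocalRing.maximalIdeal R, jproj D L n x = μ • u₀ := by
      intro x hx
      refine Submodule.smul_induction_on hx (fun r hr m _ ↦ ?_) fun x y ⟨a, ha, hxa⟩ ⟨c, hc, hyc⟩ ↦ ?_
      · obtain ⟨t, ht⟩ := hgen _ (hcar.jproj_mem n m)
        exact ⟨r * t, Ideal.mul_mem_right _ _ hr, by rw [map_smul, ← ht, smul_smul]⟩
      · exact ⟨a + c, add_mem ha hc, by rw [map_add, hxa, hyc, add_smul]⟩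
    obtain ⟨μ, hμ, he⟩ := key _ h
    rw [hcar.jproj_eq_self n fun i ↦ (mem_jker D).1 (B 0).2 i i.isLt] at he
    have h0 : u₀ = 0 := eq_zero_of_one_sub_smul hμ he.symm
    exact one_ne_zero (hinj 1 (by rw [h0, smul_zero]))
  have hdS : ∀ i, ∀ x ∈ S, contractLeft (b.coord i) x ∈ S := by
    rintro i _ ⟨c, rfl⟩
    rw [← hw i, polar_contract, LinearMap.mulLeft_apply, map_mul, hs]
    obtain ⟨c', hc'⟩ := hrl (ι Q (w i))
    refine ⟨c' * c - s • (involute c * ι Q (w i)), ?_⟩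
    rw [LinearMap.mulLeft_apply, mul_sub, ← mul_assoc, ← hc', mul_smul_comm, smul_mul_assoc, smul_mul_assoc,
      mul_assoc, mul_assoc]
  obtain ⟨y, hyS, hym, hyd⟩ := (isCAR_contract b Q).exists_mem_sub_of_notMem S mC hdS
    (fun i x hx ↦ map_mem_smul_top _ _ hx) (x := u₀) ⟨1, mul_one u₀⟩ hu0
  obtain ⟨r, hr⟩ := eq_algebraMap_of_contract b Q fun i ↦ (isCAR_contract b Q).D_jproj y i
  have hry := jproj_sub_mem (isCAR_contract b Q) mC (fun i x hx ↦ map_mem_smul_top _ _ hx)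
    (fun i x hx ↦ map_mem_smul_top _ _ hx) hyd n
  rw [← hr] at hry
  have hru : IsUnit r := IsLocalRing.notMem_maximalIdeal.1 fun hr' ↦ hym (by
    have h1 : algebraMap R (CliffordAlgebra Q) r ∈ mC := by
      rw [Algebra.algebraMap_eq_smul_one]; exact Submodule.smul_mem_smul hr' Submodule.mem_top
    have := sub_mem h1 hry
    rwa [sub_sub_cancel] at this)
  obtain ⟨rc, rfl⟩ := hru
  have htop : (⊤ : Submodule R (CliffordAlgebra Q)) ≤ S ⊔ IsLocalRing.maximalIdeal R • ⊤ := by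
    intro c _
    obtain ⟨cy, hcy⟩ := hyS
    have h1 : algebraMap R (CliffordAlgebra Q) rc * c ∈ S ⊔ mC := by
      rw [show algebraMap R (CliffordAlgebra Q) rc = y + (algebraMap R (CliffordAlgebra Q) rc - y) by abel, add_mul]
      refine Submodule.add_mem_sup ⟨cy * c, ?_⟩ (map_mem_smul_top _ (LinearMap.mulRight R c) hry)
      rw [← hcy]
      simp [mul_assoc]
    have h2 := Submodule.smul_mem _ (↑rc⁻¹ : R) h1
    rwa [← Algebra.smul_def, smul_smul, Units.inv_mul, one_smul] at h2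
  have hone : (1 : CliffordAlgebra Q) ∈ S := Submodule.le_of_le_smul_of_le_jacobson_bot Module.Finite.fg_top
    (IsLocalRing.maximalIdeal_le_jacobson ⊥) htop Submodule.mem_top
  obtain ⟨c, hc⟩ := hone
  rw [LinearMap.mulLeft_apply] at hc
  obtain ⟨c', hc'⟩ := hlr c
  rw [hc] at hc'
  have hcc : c' = c := left_inv_eq_right_inv hc'.symm hc
  exact ⟨p, ⟨u₀, c, hc, hcc ▸ hc'.symm⟩, hp, hK⟩

include b in
theorem nontrivial_clifford [Nontrivial R] : Nontrivial (CliffordAlgebra Q) :=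
  (algebraMap_inj b Q).nontrivial

/-- An even element anticommuting with the vectors. -/
theorem exists_anticomm_unit [IsLocalRing R] (b : Module.Basis (Fin n) R M) (hn : Even n) (hQ : QuadGrp.IsRegular Q) :
    ∃ u : (CliffordAlgebra Q)ˣ, (u : CliffordAlgebra Q) ∈ evenOdd Q 0 ∧ ∀ v, ι Q v * u = -((u : CliffordAlgebra Q) * ι Q v) := by
  obtain ⟨p, u, hu, h⟩ := exists_twisted_conj b hQ (LinearEquiv.neg R) (fun v ↦ by simp)
  rcases (show ∀ i : ZMod 2, i = 0 ∨ i = 1 by decide) p with rfl | rfl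
  · refine ⟨u, hu, fun v ↦ ?_⟩
    have := h v
    rw [involute_eq_of_mem_even hu, LinearEquiv.neg_apply, map_neg, neg_mul] at this
    rw [← this, neg_neg]
  · have h0 : (u : CliffordAlgebra Q) = 0 := eq_zero_of_central_odd b hn hQ hu fun v ↦ by
      have := h v
      rw [involute_eq_of_mem_odd hu, LinearEquiv.neg_apply, map_neg, neg_mul, neg_mul, neg_inj] at this
      exact this
    haveI := nontrivial_clifford (b := b) (Q := Q)
    exact absurd h0 u.ne_zero

/-- Over a local ring an isometry is conjugation by a homogeneous unit. -/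
theorem exists_conj [IsLocalRing R] (b : Module.Basis (Fin n) R M) (hn : Even n) (hQ : QuadGrp.IsRegular Q)
    (g : M ≃ₗ[R] M) (hg : g ∈ QuadGrp.O Q) :
    ∃ (p : ZMod 2) (u : (CliffordAlgebra Q)ˣ), (u : CliffordAlgebra Q) ∈ evenOdd Q p ∧
      ∀ v, (u : CliffordAlgebra Q) * ι Q v = ι Q (g v) * u := by
  obtain ⟨p, u, hu, h⟩ := exists_twisted_conj b hQ g hg
  rcases (show ∀ i : ZMod 2, i = 0 ∨ i = 1 by decide) p with rfl | rfl
  · exact ⟨0, u, hu, fun v ↦ by rw [h v, involute_eq_of_mem_even hu]⟩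
  · obtain ⟨ω, hω, hωv⟩ := exists_anticomm_unit b hn hQ
    refine ⟨1, u * ω, ?_, fun v ↦ ?_⟩
    · rw [Units.val_mul]
      simpa using SetLike.mul_mem_graded hu hω
    · rw [Units.val_mul, mul_assoc, show (ω : CliffordAlgebra Q) * ι Q v = -(ι Q v * ω) by rw [hωv, neg_neg],
        mul_neg, ← mul_assoc, ← mul_assoc, h v, involute_eq_of_mem_odd hu, neg_mul, neg_mul]

theorem conj_eq_iff (u : (CliffordAlgebra Q)ˣ) (x y : CliffordAlgebra Q) :
    (u : CliffordAlgebra Q) * x * ↑u⁻¹ = y ↔ (u : CliffordAlgebra Q) * x = y * u :=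
  ⟨fun h ↦ by rw [← h, mul_assoc, u.inv_mul, mul_one], fun h ↦ by rw [h, mul_assoc, u.mul_inv, mul_one]⟩

theorem mem_GPin'_of_conj (u : (CliffordAlgebra Q)ˣ) (g : M ≃ₗ[R] M)
    (h : ∀ v, (u : CliffordAlgebra Q) * ι Q v = ι Q (g v) * u) : u ∈ QuadGrp.GPin' Q := by
  rw [QuadGrp.mem_GPin']
  ext x
  simp only [Submodule.mem_smul_pointwise_iff_exists, ConjAct.units_smul_def, ConjAct.ofConjAct_toConjAct]
  constructor
  · rintro ⟨_, ⟨y, rfl⟩, rfl⟩
    exact ⟨g y, ((conj_eq_iff u _ _).2 (h y)).symm⟩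
  · rintro ⟨y, rfl⟩
    exact ⟨_, ⟨g.symm y, rfl⟩, (conj_eq_iff u _ _).2 (by rw [h, g.apply_symm_apply])⟩

theorem exists_conj_mem_range {u : (CliffordAlgebra Q)ˣ} (hu : u ∈ QuadGrp.GPin' Q) (v : M) :
    ∃ w, (u : CliffordAlgebra Q) * ι Q v = ι Q w * u := by
  rw [QuadGrp.mem_GPin'] at hu
  have := Submodule.smul_mem_pointwise_smul _ (ConjAct.toConjAct u) _ (LinearMap.mem_range_self (ι Q) v)
  rw [hu, ConjAct.units_smul_def, ConjAct.ofConjAct_toConjAct] at this
  obtain ⟨w, hw⟩ := this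
  exact ⟨w, (conj_eq_iff u _ _).1 hw.symm⟩

/-- The isometry induced by a normalising unit. -/
theorem exists_isometry_of_mem_GPin' (b : Module.Basis (Fin n) R M) {u : (CliffordAlgebra Q)ˣ}
    (hu : u ∈ QuadGrp.GPin' Q) :
    ∃ g ∈ QuadGrp.O Q, ∀ v, (u : CliffordAlgebra Q) * ι Q v = ι Q (g v) * u := by
  have hinj := ι_inj b Q
  have aux : ∀ u' : (CliffordAlgebra Q)ˣ, u' ∈ QuadGrp.GPin' Q →
      ∃ f : M →ₗ[R] M, ∀ v, (u' : CliffordAlgebra Q) * ι Q v = ι Q (f v) * u' := by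
    intro u' hu'
    choose f hf using exists_conj_mem_range hu'
    refine ⟨{ toFun := f, map_add' := fun x y ↦ hinj ?_, map_smul' := fun r x ↦ hinj ?_ }, hf⟩
    · refine u'.isUnit.mul_right_cancel ?_
      rw [← hf, map_add, map_add, mul_add, add_mul, hf, hf]
    · refine u'.isUnit.mul_right_cancel ?_
      rw [← hf, map_smul, map_smul, mul_smul_comm, smul_mul_assoc, hf]
      rfl
  obtain ⟨f, hf⟩ := aux u hu
  obtain ⟨f', hf'⟩ := aux u⁻¹ ((QuadGrp.GPin' Q).inv_mem hu)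
  have h1 : ∀ v, f (f' v) = v := fun v ↦ hinj (u.isUnit.mul_right_cancel (by
    have h := congrArg (fun y ↦ (u : CliffordAlgebra Q) * y) (hf' v)
    simp only [← mul_assoc, Units.mul_inv, one_mul] at h
    rw [hf] at h
    conv_rhs => rw [h]
    rw [mul_assoc, mul_assoc, Units.inv_mul, mul_one]))
  have h2 : ∀ v, f' (f v) = v := fun v ↦ hinj (u⁻¹.isUnit.mul_right_cancel (by
    have h := congrArg (fun y ↦ (↑u⁻¹ : CliffordAlgebra Q) * y) (hf v)
    simp only [← mul_assoc, Units.inv_mul, one_mul] at h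
    rw [hf'] at h
    conv_rhs => rw [h]
    rw [mul_assoc, mul_assoc, Units.mul_inv, mul_one]))
  refine ⟨LinearEquiv.ofLinear f f' (LinearMap.ext h1) (LinearMap.ext h2), fun v ↦ ?_, hf⟩
  refine algebraMap_inj b Q (u.isUnit.mul_right_cancel ?_)
  rw [← ι_sq_scalar, ← ι_sq_scalar, LinearEquiv.ofLinear_apply, mul_assoc, ← hf, ← mul_assoc, ← hf, mul_assoc, ι_sq_scalar]
  exact (Algebra.commutes _ _).symm

/-- Every normalising unit is locally homogeneous. -/
theorem isLocHomog_of_mem_GPin' (b : Module.Basis (Fin n) R M) (hn : Even n) (hQ : QuadGrp.IsRegular Q)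
    {u : (CliffordAlgebra Q)ˣ} (hu : u ∈ QuadGrp.GPin' Q) : QuadGrp.IsLocHomog Q (u : CliffordAlgebra Q) := by
  obtain ⟨x₀, h₀, x₁, h₁, hsum⟩ := exists_even_odd (u : CliffordAlgebra Q)
  have hsep : ∀ v, (↑u⁻¹ * x₀) * ι Q v = ι Q v * (↑u⁻¹ * x₀) := by
    intro v
    obtain ⟨w, hw⟩ := exists_conj_mem_range hu v
    have h := hw
    rw [← hsum, mul_add, add_mul] at h
    have e : x₀ * ι Q v - ι Q w * x₀ = ι Q w * x₁ - x₁ * ι Q v := by
      rw [sub_eq_sub_iff_add_eq_add, h, add_comm]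
    have ho : x₀ * ι Q v - ι Q w * x₀ ∈ evenOdd Q 1 :=
      sub_mem (by simpa using SetLike.mul_mem_graded h₀ (ι_mem_evenOdd_one Q v)) (ι_mul_mem₀ w h₀)
    have he : x₀ * ι Q v - ι Q w * x₀ ∈ evenOdd Q 0 := e ▸ sub_mem (ι_mul_mem₁ w h₁) (mul_ι_mem₁ v h₁)
    have hx := sub_eq_zero.1 (eq_zero_of_mem_both he ho)
    rw [mul_assoc, hx, ← mul_assoc]
    have hw' : (↑u⁻¹ : CliffordAlgebra Q) * ι Q w = ι Q v * ↑u⁻¹ := by
      have := congrArg (fun y ↦ (↑u⁻¹ : CliffordAlgebra Q) * y * ↑u⁻¹) hw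
      simp only [← mul_assoc, Units.inv_mul, one_mul] at this
      rw [this, mul_assoc, Units.mul_inv, mul_one]
    rw [hw', mul_assoc]
  obtain ⟨e, he⟩ := exists_scalar_of_central b hn hQ fun v ↦ (hsep v).symm
  have hx0 : e • (u : CliffordAlgebra Q) = x₀ := by
    rw [Algebra.smul_def, Algebra.commutes, he, ← mul_assoc, Units.mul_inv, one_mul]
  have hx1 : (1 - e) • (u : CliffordAlgebra Q) = x₁ := by
    rw [sub_smul, one_smul, hx0, ← hsum, add_sub_cancel_left]
  refine ⟨e, ?_, hx0 ▸ h₀, hx1 ▸ h₁⟩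
  have hz : (e * (1 - e)) • (u : CliffordAlgebra Q) = 0 := eq_zero_of_mem_both
    (by rw [mul_comm, mul_smul, hx0]; exact Submodule.smul_mem _ _ h₀)
    (by rw [mul_smul, hx1]; exact Submodule.smul_mem _ _ h₁)
  rw [Algebra.smul_def] at hz
  have h0 : e * (1 - e) = 0 := algebraMap_inj b Q (by rw [map_zero]; exact u.isUnit.mul_left_eq_zero.1 hz)
  change e * e = e
  linear_combination -h0

theorem map_eq_conj (g : M ≃ₗ[R] M) (hg : g ∈ QuadGrp.O Q) (u : (CliffordAlgebra Q)ˣ)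
    (h : ∀ v, (u : CliffordAlgebra Q) * ι Q v = ι Q (g v) * u) (x : CliffordAlgebra Q) :
    CliffordAlgebra.map (QuadGrp.isometryOfMem Q g hg) x * u = (u : CliffordAlgebra Q) * x := by
  induction x using CliffordAlgebra.induction with
  | algebraMap r => rw [AlgHom.commutes, Algebra.commutes]
  | ι v => rw [map_apply_ι, QuadGrp.isometryOfMem_apply, ← h]
  | mul x y hx hy => rw [map_mul, mul_assoc, hy, ← mul_assoc, hx, mul_assoc]
  | add x y hx hy => rw [map_add, add_mul, hx, hy, mul_add]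

/-- The Dickson element. -/
theorem exists_dickson_element (b : Module.Basis (Fin n) R M) (hQ : QuadGrp.IsRegular Q) :
    ∃ z ∈ evenOdd Q 0, ∀ v, ι Q v * z + z * ι Q v = ι Q v := by
  obtain ⟨w, hw, hspan⟩ := exists_coord_dual b hQ
  have hneg : ∀ v, Q ((-LinearMap.id : M →ₗ[R] M) v) = Q v := fun v ↦ by simp
  have hιw : ∀ a c, tw Q (-LinearMap.id) a (-ι Q c) = ι Q a * ι Q c - ι Q c * ι Q a := fun a c ↦ by
    rw [tw_apply, LinearMap.neg_apply, LinearMap.id_apply, map_neg, map_neg, involute_ι]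
    noncomm_ring
  obtain ⟨z, hz⟩ := (isCAR_tw hneg hw).exists_eq_of_cocycle (fun i ↦ -ι Q (w i))
    (fun i ↦ by rw [hιw, sub_self]) (fun i j ↦ by rw [hιw, hιw]; abel)
  obtain ⟨z₀, h₀, z₁, h₁, rfl⟩ := exists_even_odd z
  refine ⟨z₀, h₀, fun v ↦ ?_⟩
  have key : ∀ i, ι Q (w i) * z₀ + z₀ * ι Q (w i) = ι Q (w i) := by
    intro i
    have h := hz i
    rw [map_add] at h
    have e : tw Q (-LinearMap.id) (w i) z₀ - -ι Q (w i) = -tw Q (-LinearMap.id) (w i) z₁ := by
      rw [← h]; abel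
    have ho : tw Q (-LinearMap.id) (w i) z₀ - -ι Q (w i) ∈ evenOdd Q 1 :=
      sub_mem ((tw_mem _ _).1 h₀) (neg_mem (ι_mem_evenOdd_one Q _))
    have he : tw Q (-LinearMap.id) (w i) z₀ - -ι Q (w i) ∈ evenOdd Q 0 := e ▸ neg_mem ((tw_mem _ _).2 h₁)
    have := sub_eq_zero.1 (eq_zero_of_mem_both he ho)
    rw [tw_apply, LinearMap.neg_apply, LinearMap.id_apply, map_neg, involute_eq_of_mem_even h₀, neg_mul,
      ← neg_add', neg_inj] at this
    exact this
  rw [hspan v]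
  simp only [map_sum, map_smul, Finset.sum_mul, Finset.mul_sum, ← Finset.sum_add_distrib, smul_mul_assoc,
    mul_smul_comm, ← smul_add, key]

theorem odd_mul_dickson {z : CliffordAlgebra Q} (h : ∀ v, ι Q v * z + z * ι Q v = ι Q v) {x : CliffordAlgebra Q}
    (hx : x ∈ evenOdd Q 1) : x * z = (1 - z) * x := by
  have hv : ∀ v, ι Q v * z = (1 - z) * ι Q v := fun v ↦ by rw [sub_mul, one_mul]; exact eq_sub_of_add_eq (h v)
  have hv' : ∀ v, ι Q v * (1 - z) = z * ι Q v := fun v ↦ by rw [mul_sub, mul_one, sub_eq_iff_eq_add', h]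
  induction x, hx using CliffordAlgebra.odd_induction with
  | ι v => exact hv v
  | add a c _ _ ha hc => rw [add_mul, ha, hc, mul_add]
  | ι_mul_ι_mul m₁ m₂ y hy ih =>
    rw [mul_assoc _ y, ih, ← mul_assoc, mul_assoc (ι Q m₁) (ι Q m₂), hv', ← mul_assoc, hv, mul_assoc,
      mul_assoc (1 - z), mul_assoc (ι Q m₁)]

theorem even_commute_dickson {z : CliffordAlgebra Q} (h : ∀ v, ι Q v * z + z * ι Q v = ι Q v) {x : CliffordAlgebra Q}
    (hx : x ∈ evenOdd Q 0) : x * z = z * x := by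
  induction x, hx using CliffordAlgebra.even_induction with
  | algebraMap r => exact Algebra.commutes r z
  | add a c _ _ ha hc => rw [add_mul, ha, hc, mul_add]
  | ι_mul_ι_mul m₁ m₂ y hy ih =>
    have hv : ι Q m₂ * z = (1 - z) * ι Q m₂ := by rw [sub_mul, one_mul]; exact eq_sub_of_add_eq (h m₂)
    have hv' : ι Q m₁ * (1 - z) = z * ι Q m₁ := by rw [mul_sub, mul_one, sub_eq_iff_eq_add', h]
    rw [mul_assoc _ y, ih, ← mul_assoc, mul_assoc (ι Q m₁) (ι Q m₂), hv, ← mul_assoc, hv', mul_assoc,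
      mul_assoc z, mul_assoc (ι Q m₁)]

theorem isUnit_two_of_smul_eq_one (b : Module.Basis (Fin n) R M) {z : CliffordAlgebra Q}
    (h : (2 : R) • z = 1) : IsUnit (2 : R) := by
  obtain ⟨r, hr⟩ := jproj_mem_range b (toExt b Q z)
  have h' : (2 : R) • toExt b Q z = 1 := by
    rw [← map_smul, h]
    exact changeForm_one (neg_toBilin_proof b Q)
  have := congrArg (jproj (fun i ↦ contractLeft (Q := (0 : QuadraticForm R M)) (b.coord i))
    (fun i ↦ LinearMap.mulLeft R (ι 0 (b i))) n) h'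
  rw [map_smul, ← hr, (isCAR_contract b 0).jproj_eq_self n fun i ↦ contractLeft_one _ _,
    Algebra.smul_def, ← map_mul, ← map_one (algebraMap R (CliffordAlgebra (0 : QuadraticForm R M)))] at this
  exact IsUnit.of_mul_eq_one r (algebraMap_inj b 0 this)

/-- An isometry which is conjugation by a homogeneous unit satisfies the Dickson condition iff the unit is even. -/
theorem isDicksonTrivial_iff [IsLocalRing R] (b : Module.Basis (Fin n) R M) (hn : Even n) (hQ : QuadGrp.IsRegular Q)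
    (g : M ≃ₗ[R] M) (hg : g ∈ QuadGrp.O Q) (p : ZMod 2) (u : (CliffordAlgebra Q)ˣ)
    (hu : (u : CliffordAlgebra Q) ∈ evenOdd Q p) (h : ∀ v, (u : CliffordAlgebra Q) * ι Q v = ι Q (g v) * u) :
    QuadGrp.IsDicksonTrivial Q g hg ↔ p = 0 := by
  constructor
  · intro hd
    rcases (show ∀ i : ZMod 2, i = 0 ∨ i = 1 by decide) p with rfl | rfl
    · rfl
    exfalso
    have fix : ∀ z (hz : z ∈ evenOdd Q 0), (∀ x ∈ evenOdd Q 0, x * z = z * x) → (u : CliffordAlgebra Q) * z = z * u :=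
      fun z hz hc ↦ by
        have := hd ⟨z, hz⟩ (Subalgebra.mem_center_iff.2 fun y ↦ Subtype.ext (hc y.1 y.2))
        rw [← map_eq_conj g hg u h z, this]
    obtain ⟨z, hz, hzv⟩ := exists_dickson_element b hQ
    have h1 := (fix z hz fun x hx ↦ even_commute_dickson hzv hx).symm.trans (odd_mul_dickson hzv hu)
    have h2 : (2 : R) • z = 1 := by
      have := u.isUnit.mul_right_cancel h1
      rw [two_smul]
      nth_rewrite 1 [this]
      exact sub_add_cancel 1 z
    have two := isUnit_two_of_smul_eq_one b h2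
    obtain ⟨ω, hω, hωv⟩ := exists_anticomm_unit b hn hQ
    have hωe : ∀ x ∈ evenOdd Q 0, x * (ω : CliffordAlgebra Q) = ω * x := by
      intro x hx
      induction x, hx using CliffordAlgebra.even_induction with
      | algebraMap r => exact Algebra.commutes r _
      | add a c _ _ ha hc => rw [add_mul, ha, hc, mul_add]
      | ι_mul_ι_mul m₁ m₂ y hy ih =>
        rw [mul_assoc _ y, ih, ← mul_assoc, mul_assoc (ι Q m₁) (ι Q m₂), hωv, mul_neg, ← mul_assoc, hωv]
        simp only [neg_mul, neg_neg, mul_assoc]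
    have hωo : ∀ x ∈ evenOdd Q 1, x * (ω : CliffordAlgebra Q) = -(ω * x) := by
      intro x hx
      induction x, hx using CliffordAlgebra.odd_induction with
      | ι v => exact hωv v
      | add a c _ _ ha hc => rw [add_mul, ha, hc, mul_add, neg_add]
      | ι_mul_ι_mul m₁ m₂ y hy ih =>
        have he : ι Q m₁ * ι Q m₂ * (ω : CliffordAlgebra Q) = ω * (ι Q m₁ * ι Q m₂) :=
          hωe _ (ι_mul_ι_mem_evenOdd_zero Q m₁ m₂)
        rw [mul_assoc _ y, ih, mul_neg, ← mul_assoc, he, mul_assoc]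
    have h4 : (u : CliffordAlgebra Q) * ω = -(ω * u) := hωo _ hu
    rw [fix _ hω hωe, eq_neg_iff_add_eq_zero, ← two_smul R] at h4
    have h5 : ((ω * u : (CliffordAlgebra Q)ˣ) : CliffordAlgebra Q) = 0 := by
      rw [Units.val_mul]; exact two.smul_eq_zero.1 h4
    haveI := nontrivial_clifford (b := b) (Q := Q)
    exact Units.ne_zero _ h5
  · rintro rfl z hz
    have hc : (u : CliffordAlgebra Q) * z = z * u :=
      congrArg Subtype.val (Subalgebra.mem_center_iff.1 hz ⟨_, hu⟩)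
    exact u.isUnit.mul_right_cancel ((map_eq_conj g hg u h z).trans hc)

end Groth.Agent.QuadH13
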