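import Groth.Agent.Lib.QuadH13.NondegField
import Mathlib.LinearAlgebra.Dimension.Free
import Mathlib.Data.Sym.Card

/-!
Dimensions of the Lie algebras of orthogonal groups over a field.
-/

universe u v

open QuadraticMap Matrix

namespace Groth.Agent.QuadH13

set_option backward.isDefEq.respectTransparency.types false

variable {K : Type u} [Field K] {n : ℕ}

/-- A matrix defines an alternating form. -/
def IsAltMat (A : Matrix (Fin n) (Fin n) K) : Prop := (∀ i, A i i = 0) ∧ ∀ i j, A i j + A j i = 0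

theorem isAltMat_iff (A : Matrix (Fin n) (Fin n) K) : IsAltMat A ↔ ∀ x, x ⬝ᵥ A *ᵥ x = 0 := by
  have hsum : ∀ x, x ⬝ᵥ A *ᵥ x = ∑ i, ∑ j, x i * A i j * x j := fun x ↦ by
    simp [dotProduct, Matrix.mulVec, Finset.mul_sum, mul_assoc]
  constructor
  · intro h x
    rw [hsum, ← Finset.sum_product']
    refine Finset.sum_involution (fun p _ ↦ (p.2, p.1)) (fun p _ ↦ ?_) (fun p _ hne heq ↦ hne ?_)
      (fun _ _ ↦ Finset.mem_univ _) fun p _ ↦ rfl
    · linear_combination (x p.1 * x p.2) * h.2 p.1 p.2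
    · have : p.2 = p.1 := (congrArg Prod.fst heq)
      rw [this, h.1, mul_zero, zero_mul]
  · intro h
    have hd : ∀ i, A i i = 0 := fun i ↦ by simpa [Pi.single_apply] using h (Pi.single i 1)
    refine ⟨hd, fun i j ↦ ?_⟩
    have := h (Pi.single i 1 + Pi.single j 1)
    simp [Matrix.mulVec_add, dotProduct_add, hd] at this
    linear_combination this

theorem isAltMat_congr {A G : Matrix (Fin n) (Fin n) K} (h : IsAltMat A) : IsAltMat (Gᵀ * A * G) := by
  rw [isAltMat_iff] at h ⊢
  intro x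
  rw [← Matrix.mulVec_mulVec, ← Matrix.mulVec_mulVec, Matrix.dotProduct_mulVec, Matrix.vecMul_transpose]
  exact h _

theorem trace_mul_alt {S A : Matrix (Fin n) (Fin n) K} (hS : Sᵀ = S) (hA : IsAltMat A) : (S * A).trace = 0 := by
  let B : Matrix (Fin n) (Fin n) K := Matrix.of fun i j ↦ if i < j then A i j else 0
  have hB : A = B - Bᵀ := by
    ext i j
    rcases lt_trichotomy i j with h | h | h
    · simp [B, h, h.not_gt]
    · subst h; simp [B, hA.1]
    · simp only [B, Matrix.sub_apply, Matrix.transpose_apply, Matrix.of_apply, if_pos h, if_neg h.not_gt]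
      linear_combination hA.2 i j
  rw [hB, Matrix.mul_sub, Matrix.trace_sub, sub_eq_zero, ← Matrix.trace_transpose (S * Bᵀ), Matrix.transpose_mul,
    Matrix.transpose_transpose, hS, Matrix.trace_mul_comm]

/-- The alternating matrices. -/
def altMat (K : Type u) [Field K] (n : ℕ) : Submodule K (Matrix (Fin n) (Fin n) K) where
  carrier := {A | IsAltMat A}
  add_mem' := by
    rintro A B ⟨h1, h2⟩ ⟨h3, h4⟩
    exact ⟨fun i ↦ by simp [h1, h3], fun i j ↦ by simp only [Matrix.add_apply]; linear_combination h2 i j + h4 i j⟩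
  zero_mem' := ⟨fun i ↦ rfl, fun i j ↦ by simp⟩
  smul_mem' := by
    rintro c A ⟨h1, h2⟩
    exact ⟨fun i ↦ by simp [h1], fun i j ↦ by simp only [Matrix.smul_apply, smul_eq_mul]; linear_combination c * h2 i j⟩

theorem mem_altMat {A : Matrix (Fin n) (Fin n) K} : A ∈ altMat K n ↔ IsAltMat A := Iff.rfl

theorem finrank_altMat : Module.finrank K (altMat K n) = n.choose 2 := by
  let f : altMat K n →ₗ[K] ({p : Fin n × Fin n // p.1 < p.2} → K) :=
    { toFun := fun A p ↦ A.1 p.1.1 p.1.2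
      map_add' := fun A B ↦ rfl
      map_smul' := fun c A ↦ rfl }
  have hf : Function.Bijective f := by
    refine ⟨fun A B h ↦ Subtype.ext ?_, fun y ↦ ?_⟩
    · ext i j
      rcases lt_trichotomy i j with h' | h' | h'
      · exact congrFun h ⟨(i, j), h'⟩
      · subst h'; rw [A.2.1, B.2.1]
      · have := congrFun h ⟨(j, i), h'⟩
        change A.1 j i = B.1 j i at this
        linear_combination A.2.2 i j - B.2.2 i j - this
    · let M : Matrix (Fin n) (Fin n) K := Matrix.of fun i j ↦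
        if h : i < j then y ⟨(i, j), h⟩ else if h' : j < i then -y ⟨(j, i), h'⟩ else 0
      refine ⟨⟨M, fun i ↦ by simp [M], fun i j ↦ ?_⟩, funext fun p ↦ ?_⟩
      · rcases lt_trichotomy i j with h' | h' | h'
        · simp [M, h', h'.not_gt]
        · subst h'; simp [M]
        · simp [M, h', h'.not_gt]
      · change M p.1.1 p.1.2 = y p
        simp [M, p.2]
  rw [LinearEquiv.finrank_eq (LinearEquiv.ofBijective f hf), Module.finrank_fintype_fun_eq_card]
  let g : {p : Fin n × Fin n // p.1 < p.2} → {s : Sym2 (Fin n) // ¬ s.IsDiag} :=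
    fun p ↦ ⟨s(p.1.1, p.1.2), fun h ↦ p.2.ne (Sym2.mk_isDiag_iff.1 h)⟩
  have hg : Function.Bijective g := by
    refine ⟨fun ⟨⟨a, b⟩, h⟩ ⟨⟨c, d⟩, h'⟩ e ↦ ?_, fun ⟨s, hs⟩ ↦ ?_⟩
    · rcases Sym2.eq_iff.1 (congrArg Subtype.val e) with ⟨h1, h2⟩ | ⟨h1, h2⟩
      · exact Subtype.ext (Prod.ext h1 h2)
      · simp only at h1 h2 h h'; subst h1 h2; exact absurd h h'.not_gt
    · induction s using Sym2.ind with
      | _ a b =>
        rcases lt_trichotomy a b with h' | h' | h'
        · exact ⟨⟨(a, b), h'⟩, rfl⟩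
        · exact absurd (Sym2.mk_isDiag_iff.2 h') hs
        · exact ⟨⟨(b, a), h'⟩, Subtype.ext Sym2.eq_swap⟩
  rw [Fintype.card_of_bijective hg, Sym2.card_subtype_not_diag, Fintype.card_fin]

theorem choose_two_two_mul (m : ℕ) : (2 * m).choose 2 = m * (2 * m - 1) := by
  rw [Nat.choose_two_right, mul_assoc, Nat.mul_div_cancel_left _ two_pos]

/-- The Lie algebra of the orthogonal group of a form with polar matrix `P`. -/
def lieO (P : Matrix (Fin n) (Fin n) K) : Submodule K (Matrix (Fin n) (Fin n) K) :=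
  (altMat K n).comap (LinearMap.mulLeft K P)

/-- Its elements of trace zero. -/
def lieSO (P : Matrix (Fin n) (Fin n) K) : Submodule K (Matrix (Fin n) (Fin n) K) :=
  lieO P ⊓ LinearMap.ker (Matrix.traceLinearMap (Fin n) K K)

theorem mem_lieO {P W : Matrix (Fin n) (Fin n) K} : W ∈ lieO P ↔ IsAltMat (P * W) := Iff.rfl

theorem mem_lieSO {P W : Matrix (Fin n) (Fin n) K} : W ∈ lieSO P ↔ IsAltMat (P * W) ∧ W.trace = 0 := Iff.rfl

theorem finrank_lieO {P : Matrix (Fin n) (Fin n) K} (hP : IsUnit P.det) :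
    Module.finrank K (lieO P) = n.choose 2 := by
  rw [← finrank_altMat (K := K) (n := n)]
  let e : Matrix (Fin n) (Fin n) K ≃ₗ[K] Matrix (Fin n) (Fin n) K :=
    LinearEquiv.ofLinearMap (LinearMap.mulLeft K P) (LinearMap.mulLeft K P⁻¹)
      (LinearMap.ext fun A ↦ by simp [Matrix.mul_nonsing_inv_cancel_left _ _ hP])
      (LinearMap.ext fun A ↦ by simp [Matrix.nonsing_inv_mul_cancel_left _ _ hP])
  exact LinearEquiv.finrank_eq (e.ofSubmodule' (altMat K n))

theorem finrank_lieSO_congr {P G : Matrix (Fin n) (Fin n) K} (hG : IsUnit G.det) :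
    Module.finrank K (lieSO (Gᵀ * P * G)) = Module.finrank K (lieSO P) := by
  have hG' : IsUnit Gᵀ.det := by rwa [Matrix.det_transpose]
  let e : Matrix (Fin n) (Fin n) K ≃ₗ[K] Matrix (Fin n) (Fin n) K :=
    LinearEquiv.ofLinearMap ((LinearMap.mulLeft K G).comp (LinearMap.mulRight K G⁻¹))
      ((LinearMap.mulLeft K G⁻¹).comp (LinearMap.mulRight K G))
      (LinearMap.ext fun A ↦ by
        simp [Matrix.mul_assoc, Matrix.mul_nonsing_inv _ hG, Matrix.mul_nonsing_inv_cancel_left _ _ hG])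
      (LinearMap.ext fun A ↦ by
        simp [Matrix.mul_assoc, Matrix.nonsing_inv_mul _ hG, Matrix.nonsing_inv_mul_cancel_left _ _ hG])
  have : lieSO (Gᵀ * P * G) = (lieSO P).comap (e : Matrix (Fin n) (Fin n) K →ₗ[K] Matrix (Fin n) (Fin n) K) := by
    ext W
    rw [Submodule.mem_comap, mem_lieSO, mem_lieSO]
    change _ ↔ IsAltMat (P * (G * (W * G⁻¹))) ∧ (G * (W * G⁻¹)).trace = 0
    rw [Matrix.trace_mul_comm G, Matrix.mul_assoc W, Matrix.nonsing_inv_mul _ hG, Matrix.mul_one]
    refine and_congr_left fun _ ↦ ⟨fun h ↦ ?_, fun h ↦ ?_⟩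
    · have h' := isAltMat_congr (G := G⁻¹) h
      rw [Matrix.transpose_nonsing_inv] at h'
      simpa [Matrix.mul_assoc, Matrix.nonsing_inv_mul_cancel_left _ _ hG'] using h'
    · have h' := isAltMat_congr (G := G) h
      simpa [Matrix.mul_assoc, Matrix.nonsing_inv_mul _ hG] using h'
  rw [this]
  exact LinearEquiv.finrank_eq (e.ofSubmodule' (lieSO P))

theorem finrank_lieSO_block (m : ℕ) (i₀ : Fin (2 * m + 1)) (P : Matrix (Fin (2 * m + 1)) (Fin (2 * m + 1)) K)
    (hsym : Pᵀ = P) (h0 : ∀ k, P i₀ (i₀.succAbove k) = 0) (a : K) (ha : P i₀ i₀ = 2 * a)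
    (hminor : IsUnit (P.submatrix i₀.succAbove i₀.succAbove).det) :
    Module.finrank K (lieSO P) = m * (2 * m + 1) := by
  let P' := P.submatrix i₀.succAbove i₀.succAbove
  let σ := i₀.succAbove
  have h0' : ∀ k, P (σ k) i₀ = 0 := fun k ↦ by
    have := congrFun (congrFun hsym i₀) (σ k)
    rw [Matrix.transpose_apply] at this
    exact this.trans (h0 k)
  have hrow0 : ∀ W j, (P * W : Matrix (Fin (2 * m + 1)) (Fin (2 * m + 1)) K) i₀ j = 2 * a * W i₀ j := fun W j ↦ by
    rw [Matrix.mul_apply, Fin.sum_univ_succAbove _ i₀, ha]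
    simp [h0]
  have hrow : ∀ W k j, (P * W : Matrix (Fin (2 * m + 1)) (Fin (2 * m + 1)) K) (σ k) j =
      (P' *ᵥ fun l ↦ W (σ l) j) k := fun W k j ↦ by
    rw [Matrix.mul_apply, Fin.sum_univ_succAbove _ i₀, h0' k]
    simp [P', σ, Matrix.mulVec, dotProduct]
  let toAlt : lieSO P →ₗ[K] altMat K (2 * m) :=
    { toFun := fun W ↦ ⟨P' * W.1.submatrix σ σ, by
        have h := (mem_lieSO.1 W.2).1
        have e : ∀ i j, (P' * W.1.submatrix σ σ) i j = (P * W.1) (σ i) (σ j) := fun i j ↦ by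
          rw [hrow]; rfl
        exact ⟨fun i ↦ by rw [e]; exact h.1 _, fun i j ↦ by rw [e, e]; exact h.2 _ _⟩⟩
      map_add' := fun W W' ↦ Subtype.ext (by
        ext k l
        simp [Matrix.mul_apply, mul_add, Finset.sum_add_distrib])
      map_smul' := fun c W ↦ Subtype.ext (by
        ext k l
        simp [Matrix.mul_apply, Finset.mul_sum, mul_left_comm]) }
  let toRow : lieSO P →ₗ[K] (Fin (2 * m) → K) :=
    { toFun := fun W j ↦ W.1 i₀ (σ j)
      map_add' := fun W W' ↦ rfl
      map_smul' := fun c W ↦ rfl }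
  have hsymP' : P'ᵀ = P' := by rw [Matrix.transpose_submatrix, hsym]
  have hS : (P'⁻¹)ᵀ = P'⁻¹ := by rw [Matrix.transpose_nonsing_inv, hsymP']
  have htrace : ∀ W : Matrix (Fin (2 * m + 1)) (Fin (2 * m + 1)) K, IsAltMat (P' * W.submatrix σ σ) →
      W.trace = W i₀ i₀ := fun W hW ↦ by
    have h1 : W.trace = W i₀ i₀ + (W.submatrix σ σ).trace := by
      simp [Matrix.trace, Fin.sum_univ_succAbove _ i₀, σ]
    have h2 : (W.submatrix σ σ).trace = 0 := by
      rw [← Matrix.nonsing_inv_mul_cancel_left P' (W.submatrix σ σ) hminor]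
      exact trace_mul_alt hS hW
    rw [h1, h2, add_zero]
  have hbij : Function.Bijective (toAlt.prod toRow) := by
    refine ⟨(injective_iff_map_eq_zero _).2 fun W hW ↦ Subtype.ext ?_, fun ⟨A, r⟩ ↦ ?_⟩
    · have hA : P' * W.1.submatrix σ σ = 0 := congrArg (fun z ↦ (z.1 : Matrix (Fin (2 * m)) (Fin (2 * m)) K)) hW
      have hr : ∀ j, W.1 i₀ (σ j) = 0 := fun j ↦ congrFun (congrArg Prod.snd hW) j
      have hsub : W.1.submatrix σ σ = 0 := by
        rw [← Matrix.nonsing_inv_mul_cancel_left P' (W.1.submatrix σ σ) hminor, hA, Matrix.mul_zero]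
      obtain ⟨halt, htr⟩ := mem_lieSO.1 W.2
      have h00 : W.1 i₀ i₀ = 0 := by
        rw [← htrace W.1 (by rw [hA]; exact (altMat K (2 * m)).zero_mem)]; exact htr
      have hcol : (fun l ↦ W.1 (σ l) i₀) = 0 := by
        refine Matrix.mulVec_injective_iff_isUnit.2 ((Matrix.isUnit_iff_isUnit_det _).2 hminor) ?_
        rw [Matrix.mulVec_zero]
        funext k
        change (P' *ᵥ fun l ↦ W.1 (σ l) i₀) k = 0
        have := halt.2 (σ k) i₀
        rw [hrow, hrow0, hr, mul_zero, add_zero] at this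
        exact this
      ext i j
      rcases i₀.eq_self_or_eq_succAbove i with hi | ⟨i, rfl⟩ <;>
        rcases i₀.eq_self_or_eq_succAbove j with hj | ⟨j, rfl⟩ <;> (try subst i) <;> (try subst j)
      · exact h00
      · exact hr j
      · exact congrFun hcol i
      · exact congrFun (congrFun hsub i) j
    · let c : Fin (2 * m) → K := P'⁻¹ *ᵥ fun k ↦ -(2 * a * r k)
      let M : Matrix (Fin (2 * m + 1)) (Fin (2 * m + 1)) K := Matrix.of
        (i₀.insertNth (i₀.insertNth 0 r) fun k ↦ i₀.insertNth (c k) ((P'⁻¹ * A.1) k))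
      have hM0 : M i₀ i₀ = 0 := by simp [M]
      have hMr : ∀ j, M i₀ (σ j) = r j := fun j ↦ by simp [M, σ]
      have hMc : (fun k ↦ M (σ k) i₀) = c := funext fun k ↦ by simp [M, σ]
      have hMs : M.submatrix σ σ = P'⁻¹ * A.1 := by ext k l; simp [M, σ]
      have hPM : P' * M.submatrix σ σ = A.1 := by rw [hMs, Matrix.mul_nonsing_inv_cancel_left _ _ hminor]
      have hss : ∀ k l, (P * M) (σ k) (σ l) = A.1 k l := fun k l ↦ by
        rw [hrow, ← hPM]; rfl
      have hs0 : ∀ k, (P * M) (σ k) i₀ = -(2 * a * r k) := fun k ↦ by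
        rw [hrow, hMc, Matrix.mulVec_mulVec, Matrix.mul_nonsing_inv _ hminor, Matrix.one_mulVec]
      refine ⟨⟨M, mem_lieSO.2 ⟨⟨fun i ↦ ?_, fun i j ↦ ?_⟩, ?_⟩⟩, Prod.ext (Subtype.ext hPM) (funext hMr)⟩
      · rcases i₀.eq_self_or_eq_succAbove i with hi | ⟨i, rfl⟩
        · subst i; rw [hrow0, hM0, mul_zero]
        · rw [hss]; exact A.2.1 i
      · rcases i₀.eq_self_or_eq_succAbove i with hi | ⟨i, rfl⟩ <;>
          rcases i₀.eq_self_or_eq_succAbove j with hj | ⟨j, rfl⟩ <;> (try subst i) <;> (try subst j)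
        · rw [hrow0, hM0, mul_zero, add_zero]
        · rw [hrow0, hMr, hs0, add_neg_cancel]
        · rw [hs0, hrow0, hMr, neg_add_cancel]
        · rw [hss, hss]; exact A.2.2 i j
      · rw [htrace M (by rw [hPM]; exact A.2), hM0]
  rw [LinearEquiv.finrank_eq (LinearEquiv.ofBijective _ hbij), Module.finrank_prod, finrank_altMat,
    Module.finrank_fintype_fun_eq_card, Fintype.card_fin, choose_two_two_mul]
  rcases m with _ | m
  · rfl
  · rw [show 2 * (m + 1) - 1 = 2 * m + 1 by omega]; ring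

theorem finrank_lieSO_of_semiregular {W : Type v} [AddCommGroup W] [Module K W] (m : ℕ)
    (b : Module.Basis (Fin (2 * m + 1)) K W) (q : QuadraticForm K W)
    (hq : QuadGrp.IsSemiregular b (LinearEquiv.refl K K) q) :
    Module.finrank K (lieSO (polarMat b q)) = m * (2 * m + 1) := by
  obtain ⟨S⟩ := exists_oddSplit m b q hq
  have hc : (b.toMatrix S.bas)ᵀ * polarMat b q * b.toMatrix S.bas = polarMat S.bas q := by
    rw [polarMat, polarMat]
    exact LinearMap.toMatrix₂_mul_basis_toMatrix b b S.bas S.bas (polarBilin q)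
  haveI := b.invertibleToMatrix S.bas
  rw [← finrank_lieSO_congr (P := polarMat b q) (G := b.toMatrix S.bas) (Matrix.isUnit_det_of_invertible _), hc]
  refine finrank_lieSO_block m S.idx (polarMat S.bas q) ?_ (fun k ↦ by rw [polarMat_apply]; exact S.orth k) (S.a : K)
    (by rw [polarMat_apply, polar_self, S.val, two_smul, two_mul]) ?_
  · ext i j; rw [Matrix.transpose_apply, polarMat_apply, polarMat_apply, polar_comm]
  · convert S.minor using 2
    ext k l
    rw [Matrix.submatrix_apply, polarMat_apply]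
    rfl

end Groth.Agent.QuadH13
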