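import Groth.Agent.Lib.QuadH13.EqTan
import Mathlib.AlgebraicGeometry.PullbackCarrier
import Mathlib.AlgebraicGeometry.Fiber
import Mathlib.RingTheory.Jacobson.Ring
import Mathlib.RingTheory.FiniteStability
import Groth.Prelude.Def_QuadGrp2

/-!
Groups of matrices cut out by equations: tangent spaces by translation, connectedness of the fibres by curves.
-/

universe u

open MvPolynomial TensorProduct CategoryTheory Limits AlgebraicGeometry Matrix

namespace Groth.Agent.QuadH13

set_option backward.isDefEq.respectTransparency false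
set_option backward.isDefEq.respectTransparency.types false

variable {R : Type u} [CommRing R] {n : ℕ} {κ : Type} [Fintype κ] (F : κ → MvPolynomial (Fin n × Fin n) R)

/-- The matrices solving the equations. -/
def sol (A : Type u) [CommRing A] [Algebra R A] : Set (Matrix (Fin n) (Fin n) A) :=
  {M | ∀ k, aeval (fun ij ↦ M ij.1 ij.2) (F k) = 0}

/-- The solutions form groups of matrices. -/
structure IsGrpEqns : Prop where
  one_mem : ∀ (A : Type u) [CommRing A] [Algebra R A], (1 : Matrix (Fin n) (Fin n) A) ∈ sol F A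
  mul_mem : ∀ (A : Type u) [CommRing A] [Algebra R A] {M N : Matrix (Fin n) (Fin n) A},
    M ∈ sol F A → N ∈ sol F A → M * N ∈ sol F A
  exists_inv : ∀ (A : Type u) [CommRing A] [Algebra R A] {M : Matrix (Fin n) (Fin n) A},
    M ∈ sol F A → ∃ N ∈ sol F A, M * N = 1 ∧ N * M = 1

variable {F}

theorem sol_map {A B : Type u} [CommRing A] [Algebra R A] [CommRing B] [Algebra R B] (φ : A →ₐ[R] B)
    {M : Matrix (Fin n) (Fin n) A} (hM : M ∈ sol F A) : M.map φ ∈ sol F B := fun k ↦ by
  have h : aeval (fun ij : Fin n × Fin n ↦ M.map φ ij.1 ij.2) = φ.comp (aeval fun ij ↦ M ij.1 ij.2) :=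
    MvPolynomial.algHom_ext fun i ↦ by simp
  rw [h, AlgHom.comp_apply, hM k, map_zero]

section Tan

variable {L : Type u} [Field L] [Algebra R L]

/-- `G + εW`. -/
noncomputable def dualMat (G W : Matrix (Fin n) (Fin n) L) : Matrix (Fin n) (Fin n) (DualNumber L) :=
  Matrix.of fun i j ↦ TrivSqZeroExt.inl (G i j) + TrivSqZeroExt.inr (W i j)

open TrivSqZeroExt in
theorem dualMat_mul (G W G' W' : Matrix (Fin n) (Fin n) L) :
    dualMat G W * dualMat G' W' = dualMat (G * G') (G * W' + W * G') := by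
  refine Matrix.ext fun i j ↦ ?_
  ext
  · simp [dualMat, Matrix.mul_apply, fst_sum]
  · simp [dualMat, Matrix.mul_apply, snd_sum, Finset.sum_add_distrib, mul_comm]

theorem mem_tan_iff_dual (G W : Matrix (Fin n) (Fin n) L) (hG : G ∈ sol F L) :
    (fun ij : Fin n × Fin n ↦ W ij.1 ij.2) ∈ tanSpace F (fun ij : Fin n × Fin n ↦ G ij.1 ij.2) ↔
      dualMat G W ∈ sol F (DualNumber L) := by
  rw [mem_tanSpace]
  refine forall_congr' fun k ↦ ?_
  rw [show (fun ij : Fin n × Fin n ↦ dualMat G W ij.1 ij.2) =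
    fun ij ↦ TrivSqZeroExt.inl (G ij.1 ij.2) + TrivSqZeroExt.inr (W ij.1 ij.2) from rfl,
    aeval_dualNumber, hG k, TrivSqZeroExt.inl_zero, zero_add]
  exact ⟨fun h ↦ by rw [h, TrivSqZeroExt.inr_zero], fun h ↦ TrivSqZeroExt.inr_injective (h.trans (TrivSqZeroExt.inr_zero L).symm)⟩

theorem dualMat_zero_mem {G : Matrix (Fin n) (Fin n) L} (hG : G ∈ sol F L) : dualMat G 0 ∈ sol F (DualNumber L) :=
  (mem_tan_iff_dual G 0 hG).1 (Submodule.zero_mem _)

theorem mul_mem_tan (h : IsGrpEqns F) {G W G' : Matrix (Fin n) (Fin n) L} (hG : G ∈ sol F L) (hG' : G' ∈ sol F L)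
    (hW : (fun ij : Fin n × Fin n ↦ W ij.1 ij.2) ∈ tanSpace F (fun ij : Fin n × Fin n ↦ G ij.1 ij.2)) :
    (fun ij : Fin n × Fin n ↦ (W * G') ij.1 ij.2) ∈ tanSpace F (fun ij : Fin n × Fin n ↦ (G * G') ij.1 ij.2) := by
  rw [mem_tan_iff_dual _ _ (h.mul_mem L hG hG')]
  have := h.mul_mem (DualNumber L) ((mem_tan_iff_dual G W hG).1 hW) (dualMat_zero_mem hG')
  rwa [dualMat_mul, Matrix.mul_zero, zero_add] at this

/-- The tangent spaces are translates of the one at the identity. -/
theorem finrank_tan_eq_one (h : IsGrpEqns F) {G : Matrix (Fin n) (Fin n) L} (hG : G ∈ sol F L) :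
    Module.finrank L (tanSpace F (fun ij : Fin n × Fin n ↦ G ij.1 ij.2)) =
      Module.finrank L (tanSpace F (fun ij : Fin n × Fin n ↦ (1 : Matrix (Fin n) (Fin n) L) ij.1 ij.2)) := by
  obtain ⟨N, hN, hGN, hNG⟩ := h.exists_inv L hG
  let r : Matrix (Fin n) (Fin n) L → (Fin n × Fin n → L) →ₗ[L] (Fin n × Fin n → L) := fun N ↦
    { toFun := fun w ij ↦ ((Matrix.of fun i j ↦ w (i, j)) * N) ij.1 ij.2
      map_add' := fun a b ↦ by funext ij; simp [Matrix.mul_apply, add_mul, Finset.sum_add_distrib]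
      map_smul' := fun c a ↦ by funext ij; simp [Matrix.mul_apply, Finset.mul_sum, mul_assoc] }
  have hrr : ∀ N N' : Matrix (Fin n) (Fin n) L, N * N' = 1 → (r N').comp (r N) = LinearMap.id := fun N N' hh ↦
    LinearMap.ext fun w ↦ funext fun ij ↦ by
      change ((Matrix.of fun i j ↦ ((Matrix.of fun i j ↦ w (i, j)) * N) i j) * N') ij.1 ij.2 = w ij
      rw [show (Matrix.of fun i j ↦ ((Matrix.of fun i j ↦ w (i, j)) * N) i j) = (Matrix.of fun i j ↦ w (i, j)) * N from rfl,
        Matrix.mul_assoc, hh, Matrix.mul_one]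
      rfl
  let e : (Fin n × Fin n → L) ≃ₗ[L] (Fin n × Fin n → L) :=
    LinearEquiv.ofLinearMap (r N) (r G) (hrr G N hGN) (hrr N G hNG)
  refine LinearEquiv.finrank_eq (e.ofSubmodules _ _ (le_antisymm ?_ fun w hw ↦ ?_))
  · rintro _ ⟨w, hw, rfl⟩
    have := mul_mem_tan h (W := Matrix.of fun i j ↦ w (i, j)) hG hN hw
    rwa [hGN] at this
  · refine ⟨r G w, ?_, LinearMap.congr_fun (hrr G N hGN) w⟩
    have := mul_mem_tan h (W := Matrix.of fun i j ↦ w (i, j)) (h.one_mem L) hG hw
    rwa [Matrix.one_mul] at this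

end Tan

/-- The spectrum of an algebra of finite type is connected when idempotents are constant on the rational points. -/
theorem preconnected_of_points {L : Type u} [Field L] [IsAlgClosed L] (C : Type u) [CommRing C] [Algebra L C]
    [Algebra.FiniteType L C] (χ₀ : C →ₐ[L] L) (h : ∀ e, IsIdempotentElem e → ∀ χ : C →ₐ[L] L, χ e = χ₀ e) :
    PreconnectedSpace (PrimeSpectrum C) := by
  haveI : IsJacobsonRing C := isJacobsonRing_of_finiteType (A := L)
  have h0 : ∀ e, IsIdempotentElem e → χ₀ e = 0 → e = 0 := by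
    intro e he he0
    refine he.eq_zero_of_isNilpotent (mem_nilradical.1 ?_)
    change e ∈ (0 : Ideal C).radical
    rw [Ideal.radical_eq_jacobson, Ideal.jacobson, Submodule.mem_sInf]
    rintro M ⟨-, hM⟩
    letI := Ideal.Quotient.field M
    haveI : Module.Finite L (C ⧸ M) := finite_of_finite_type_of_isJacobsonRing L _
    let eL : L ≃ₐ[L] C ⧸ M := AlgEquiv.ofBijective (Algebra.ofId L _)
      (IsAlgClosed.algebraMap_bijective_of_isIntegral)
    have := h e he (eL.symm.toAlgHom.comp (Ideal.Quotient.mkₐ L M))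
    rw [he0] at this
    change eL.symm (Ideal.Quotient.mk M e) = 0 at this
    rwa [EmbeddingLike.map_eq_zero_iff, Ideal.Quotient.eq_zero_iff_mem] at this
  refine preconnectedSpace_iff_clopen.2 fun s hs ↦ ?_
  obtain ⟨e, f, hef, hsum, rfl⟩ := PrimeSpectrum.isClopen_iff_mul_add.1 hs
  have he : IsIdempotentElem e := by
    change e * e = e
    linear_combination e * hsum - hef
  have hf : IsIdempotentElem f := by
    change f * f = f
    linear_combination f * hsum - hef
  rcases mul_eq_zero.1 (show χ₀ e * χ₀ f = 0 by rw [← map_mul, hef, map_zero]) with h1 | h1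
  · exact .inl (by rw [h0 e he h1, PrimeSpectrum.basicOpen_zero]; rfl)
  · refine .inr ?_
    rw [show e = 1 by rw [h0 f hf h1, add_zero] at hsum; exact hsum, PrimeSpectrum.basicOpen_one]
    rfl

section Conn

variable (F) (L : Type u) [Field L] [Algebra R L]

/-- The point given by a solution. -/
noncomputable def solHom {B : Type u} [CommRing B] [Algebra R B] [Algebra L B] [IsScalarTower R L B]
    {M : Matrix (Fin n) (Fin n) B} (hM : M ∈ sol F B) : L ⊗[R] eqAlg F →ₐ[L] B :=
  Algebra.TensorProduct.lift (Algebra.ofId L B) ((eqPoints F B).symm ⟨fun ij ↦ M ij.1 ij.2, hM⟩) fun _ _ ↦ mul_comm _ _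

theorem solHom_congr {B : Type u} [CommRing B] [Algebra R B] [Algebra L B] [IsScalarTower R L B]
    {M M' : Matrix (Fin n) (Fin n) B} (hM : M ∈ sol F B) (hM' : M' ∈ sol F B) (e : M = M') :
    solHom F L hM = solHom F L hM' := by
  subst e; rfl

theorem comp_solHom {B C : Type u} [CommRing B] [Algebra R B] [Algebra L B] [IsScalarTower R L B] [CommRing C]
    [Algebra R C] [Algebra L C] [IsScalarTower R L C] (a : B →ₐ[L] C)
    {M : Matrix (Fin n) (Fin n) B} (hM : M ∈ sol F B) :
    a.comp (solHom F L hM) = solHom F L (sol_map (a.restrictScalars R) hM) := by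
  refine Algebra.TensorProduct.ext (Subsingleton.elim _ _) (Ideal.Quotient.algHom_ext _ (MvPolynomial.algHom_ext fun i ↦ ?_))
  simp [solHom, eqPoints]

/-- Translations by the solution `g` fix every idempotent. -/
def Good (g : Matrix (Fin n) (Fin n) L) : Prop :=
  g ∈ sol F L ∧ ∀ e : L ⊗[R] eqAlg F, IsIdempotentElem e → ∀ (h : Matrix (Fin n) (Fin n) L) (hh : h ∈ sol F L)
    (hgh : g * h ∈ sol F L), solHom F L hgh e = solHom F L hh e

variable {F L}

theorem good_one (h : IsGrpEqns F) : Good F L 1 :=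
  ⟨h.one_mem L, fun e _ M _ hM ↦ by rw [solHom_congr F L hM (by rwa [Matrix.one_mul] at hM) (Matrix.one_mul M)]⟩

theorem Good.mul (h : IsGrpEqns F) {g g' : Matrix (Fin n) (Fin n) L} (hg : Good F L g) (hg' : Good F L g') :
    Good F L (g * g') := by
  refine ⟨h.mul_mem L hg.1 hg'.1, fun e he M hM hgM ↦ ?_⟩
  rw [solHom_congr F L hgM (h.mul_mem L hg.1 (h.mul_mem L hg'.1 hM)) (Matrix.mul_assoc g g' M),
    hg.2 e he (g' * M) (h.mul_mem L hg'.1 hM), hg'.2 e he M hM]

theorem Good.inv (h : IsGrpEqns F) {g g' : Matrix (Fin n) (Fin n) L} (hg : Good F L g) (hg' : g' ∈ sol F L)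
    (e1 : g * g' = 1) : Good F L g' := by
  refine ⟨hg', fun e he M hM hgM ↦ ?_⟩
  rw [← hg.2 e he (g' * M) hgM (h.mul_mem L hg.1 hgM), solHom_congr F L (h.mul_mem L hg.1 hgM) hM
    (by rw [← Matrix.mul_assoc, e1, Matrix.one_mul])]

/-- A solution joined to the identity by a curve is good. -/
theorem good_of_curve (h : IsGrpEqns F) {g : Matrix (Fin n) (Fin n) L} (B : Type u) [CommRing B] [IsDomain B]
    [Algebra R B] [Algebra L B] [IsScalarTower R L B] {w : Matrix (Fin n) (Fin n) B} (hw : w ∈ sol F B)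
    (a b : B →ₐ[L] L) (ha : w.map a = g) (hb : w.map b = 1) : Good F L g := by
  have hg : g ∈ sol F L := ha ▸ sol_map (a.restrictScalars R) hw
  refine ⟨hg, fun e he M hM hgM ↦ ?_⟩
  let ι : L →ₐ[R] B := IsScalarTower.toAlgHom R L B
  have hwM : w * M.map ι ∈ sol F B := h.mul_mem B hw (sol_map ι hM)
  have key : ∀ (c : B →ₐ[L] L) (N : Matrix (Fin n) (Fin n) L) (hN : N ∈ sol F L), w.map c * M = N →
      solHom F L hN e = c (solHom F L hwM e) := by
    intro c N hN hc
    rw [← AlgHom.comp_apply, comp_solHom]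
    refine congrArg (fun φ : L ⊗[R] eqAlg F →ₐ[L] L ↦ φ e) (solHom_congr F L _ _ ?_)
    rw [← hc]
    change _ = (w * M.map ι).map c
    rw [Matrix.map_mul, Matrix.map_map]
    congr 1
    ext i j
    simp [ι]
  rw [key a _ hgM (by rw [ha]), key b _ hM (by rw [hb, Matrix.one_mul])]
  rcases eq_or_ne (solHom F L hwM e) 0 with h0 | h0
  · rw [h0, map_zero, map_zero]
  · rw [show solHom F L hwM e = 1 from mul_left_cancel₀ h0 ((he.map (solHom F L hwM)).eq.trans (mul_one _).symm),
      map_one, map_one]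

theorem preconnected_of_good [IsAlgClosed L] (h : IsGrpEqns F) (hall : ∀ g ∈ sol F L, Good F L g) :
    PreconnectedSpace (PrimeSpectrum (L ⊗[R] eqAlg F)) := by
  refine preconnected_of_points (L ⊗[R] eqAlg F) (solHom F L (h.one_mem L)) fun e he χ ↦ ?_
  let v := eqPoints F L ((χ.restrictScalars R).comp Algebra.TensorProduct.includeRight)
  have hg : (Matrix.of fun i j ↦ v.1 (i, j)) ∈ sol F L := v.2
  have hχ : solHom F L hg = χ := by
    refine Algebra.TensorProduct.ext (Subsingleton.elim _ _)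
      (Ideal.Quotient.algHom_ext _ (MvPolynomial.algHom_ext fun i ↦ ?_))
    simp [solHom, v, eqPoints]
  rw [← hχ, solHom_congr F L hg (h.mul_mem L hg (h.one_mem L)) (Matrix.mul_one _).symm,
    (hall _ hg).2 e he 1 (h.one_mem L)]

end Conn

theorem connectedSpace_fiber (h : IsGrpEqns F)
    (hall : ∀ (L : Type u) [Field L] [IsAlgClosed L] [Algebra R L], ∀ g ∈ sol F L, Good F L g)
    {G : Over (Spec (CommRingCat.of R))} (i : QuadGrp.specOver R (eqAlg F) ≅ G) (s : ↥(Spec (CommRingCat.of R))) :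
    ConnectedSpace ↥(G.hom.fiber s) := by
  let L := AlgebraicClosure s.asIdeal.ResidueField
  let fL := Spec.map (CommRingCat.ofHom (algebraMap R L))
  let g := Spec.map (CommRingCat.ofHom (algebraMap R (eqAlg F)))
  have hker : RingHom.ker (algebraMap R L) = s.asIdeal := by
    rw [IsScalarTower.algebraMap_eq R s.asIdeal.ResidueField L,
      RingHom.ker_comp_of_injective _ (algebraMap s.asIdeal.ResidueField L).injective, Ideal.ker_algebraMap_residueField]
  have hpt : ∀ x, fL x = s := fun x ↦ PrimeSpectrum.ext (by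
    change Ideal.comap (algebraMap R L) x.asIdeal = s.asIdeal
    rw [(Ideal.eq_bot_or_top (K := L) x.asIdeal).resolve_right x.2.ne_top, ← RingHom.ker_eq_comap_bot, hker])
  have hrange : Set.range fL = {s} := by
    refine Set.eq_singleton_iff_unique_mem.2 ⟨?_, ?_⟩
    · exact ⟨(IsLocalRing.closedPoint L : PrimeSpectrum L), hpt _⟩
    · rintro _ ⟨x, rfl⟩; exact hpt x
  let e := (pullbackSpecIso R L (eqAlg F)).inv.homeomorph
  haveI : Nonempty (PrimeSpectrum (L ⊗[R] eqAlg F)) :=
    ⟨PrimeSpectrum.comap (solHom F L (h.one_mem L)).toRingHom (IsLocalRing.closedPoint L)⟩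
  haveI := preconnected_of_good h (hall L)
  haveI : ConnectedSpace (PrimeSpectrum (L ⊗[R] eqAlg F)) := ⟨inferInstance⟩
  haveI : ConnectedSpace ↥(Spec (CommRingCat.of (L ⊗[R] eqAlg F))) :=
    inferInstanceAs (ConnectedSpace (PrimeSpectrum (L ⊗[R] eqAlg F)))
  haveI : ConnectedSpace ↥(pullback fL g) := e.surjective.connectedSpace e.continuous
  have hconn : _root_.IsConnected (g ⁻¹' {s}) := by
    rw [← hrange, ← Scheme.Pullback.range_snd fL g]
    exact isConnected_range (pullback.snd fL g).continuous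
  have hG : (G.hom : G.left → _) ⁻¹' {s} = i.hom.left '' (g ⁻¹' {s}) := by
    ext z
    constructor
    · intro hz
      refine ⟨i.inv.left z, ?_, ?_⟩
      · change (i.inv.left ≫ (QuadGrp.specOver R (eqAlg F)).hom) z = s
        rw [Over.w]; exact hz
      · change (i.inv.left ≫ i.hom.left) z = z
        rw [← Over.comp_left, i.inv_hom_id]; rfl
    · rintro ⟨y, hy, rfl⟩
      change (i.hom.left ≫ G.hom) y = s
      rw [Over.w]; exact hy
  haveI : ConnectedSpace ↥((G.hom : G.left → _) ⁻¹' {s}) := by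
    rw [← isConnected_iff_connectedSpace, hG]
    exact hconn.image _ i.hom.left.continuous.continuousOn
  exact (G.hom.fiberHomeo s).symm.surjective.connectedSpace (G.hom.fiberHomeo s).symm.continuous

end Groth.Agent.QuadH13
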