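import Groth.Agent.Lib.QuadH13.Centre

/-!
Non-degenerate forms of rank at least three: the two by two minors of the polar matrix have no common zero.
-/

universe u

open QuadraticMap TensorProduct

namespace Groth.Agent.QuadH13

variable {R : Type u} [CommRing R] {n : ℕ}

theorem exists_minor_of_regular {M : Type u} [AddCommGroup M] [Module R M] (hn : 2 ≤ n)
    (b : Module.Basis (Fin n) R M) (Q : QuadraticForm R M) (hQ : QuadGrp.IsRegular Q) (p : Ideal R) (hp : p.IsMaximal) :
    ∃ a c i j, polar Q (b a) (b j) * polar Q (b c) (b i) - polar Q (b c) (b j) * polar Q (b a) (b i) ∉ p := by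
  by_contra h
  push Not at h
  choose z hz using fun i ↦ hQ.2 (b.coord i)
  have h1 : ∀ i j, ∑ k, b.repr (z i) k * polar Q (b k) (b j) = if i = j then 1 else 0 := by
    intro i j
    have := LinearMap.congr_fun (hz i) (b j)
    have e : polar Q (z i) (b j) = ∑ k, b.repr (z i) k * polar Q (b k) (b j) := by
      rw [← polarBilin_apply_apply]
      conv_lhs => rw [← b.sum_repr (z i)]
      rw [LinearMap.map_sum₂]
      exact Finset.sum_congr rfl fun k _ ↦ by rw [LinearMap.map_smul₂, polarBilin_apply_apply, smul_eq_mul]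
    rw [← e]
    simpa [Finsupp.single_apply, eq_comm] using this
  let a₀ : Fin n := ⟨0, by omega⟩
  let a₁ : Fin n := ⟨1, by omega⟩
  have hrow : ∀ j, polar Q (b a₀) (b j) ∈ p := by
    intro j
    -- Σ_c z_{1 c} (P₀ⱼ P_c₁ - P_cⱼ P₀₁) = P₀ⱼ - δ₁ⱼ P₀₁
    have key : ∀ l m, (if l = l then polar Q (b a₀) (b m) else 0) - (if l = m then polar Q (b a₀) (b l) else 0) ∈ p := by
      intro l m
      have h2 : ∑ c, b.repr (z l) c * (polar Q (b a₀) (b m) * polar Q (b c) (b l) - polar Q (b c) (b m) * polar Q (b a₀) (b l))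
          = polar Q (b a₀) (b m) - (if l = m then polar Q (b a₀) (b l) else 0) := by
        calc _ = polar Q (b a₀) (b m) * (∑ c, b.repr (z l) c * polar Q (b c) (b l)) -
              (∑ c, b.repr (z l) c * polar Q (b c) (b m)) * polar Q (b a₀) (b l) := by
              rw [Finset.mul_sum, Finset.sum_mul, ← Finset.sum_sub_distrib]
              exact Finset.sum_congr rfl fun c _ ↦ by ring
          _ = _ := by rw [h1, h1, if_pos rfl, mul_one, ite_mul, one_mul, zero_mul]
      rw [if_pos rfl, ← h2]
      exact Submodule.sum_mem _ fun c _ ↦ p.mul_mem_left _ (h a₀ c l m)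
    by_cases hj : j = a₁
    · have := key a₀ j
      rwa [if_pos rfl, if_neg (by rw [hj]; simp [a₀, a₁, Fin.ext_iff]), sub_zero] at this
    · have := key a₁ j
      rwa [if_pos rfl, if_neg (Ne.symm hj), sub_zero] at this
  refine hp.ne_top ((Ideal.eq_top_iff_one p).2 ?_)
  have h3 := h1 a₀ a₀
  rw [if_pos rfl] at h3
  -- evaluate the first functional against the zero row, using symmetry
  rw [← h3]
  refine Submodule.sum_mem _ fun k _ ↦ p.mul_mem_left _ ?_
  rw [polar_comm]
  exact hrow k

theorem exists_minor_of_semiregular {M : Type u} [AddCommGroup M] [Module R M] (hn : 3 ≤ n) (hodd : Odd n)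
    (b : Module.Basis (Fin n) R M) (Q : QuadraticForm R M)
    (hQ : QuadGrp.IsSemiregular b (LinearEquiv.refl R R) Q) (p : Ideal R) (hp : p.IsMaximal) :
    ∃ a c i j, polar Q (b a) (b j) * polar Q (b c) (b i) - polar Q (b c) (b j) * polar Q (b a) (b i) ∉ p := by
  by_contra h
  push Not at h
  letI := Ideal.Quotient.field p
  let φ : R →+* R ⧸ p := Ideal.Quotient.mk p
  have hmin : ∀ a c i j, φ (polar Q (b a) (b j)) * φ (polar Q (b c) (b i)) =
      φ (polar Q (b c) (b j)) * φ (polar Q (b a) (b i)) := fun a c i j ↦ by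
    rw [← map_mul, ← map_mul]
    exact (Ideal.Quotient.eq).2 (h a c i j)
  refine hp.ne_top (Ideal.eq_top_of_isUnit_mem p (Ideal.Quotient.eq_zero_iff_mem.1 ?_) hQ)
  change φ (QuadGrp.halfDisc b (LinearEquiv.refl R R) Q) = 0
  by_cases h2 : (2 : R ⧸ p) = 0
  · have hoff : ∀ i j, i ≠ j → φ (polar Q (b i) (b j)) = 0 := by
      intro i j hij
      have h0 : ∀ i, φ (polar Q (b i) (b i)) = 0 := fun i ↦ by
        rw [polar_self, two_smul, ← two_mul, map_mul, map_ofNat, h2, zero_mul]
      have := hmin i j i j
      rw [polar_comm (⇑Q) (b j) (b i), h0, zero_mul] at this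
      exact mul_self_eq_zero.1 this
    let bS : Module.Basis (Fin n) (MvPolynomial (Fin n) ℤ) (Fin n → MvPolynomial (Fin n) ℤ) := Pi.basisFun _ (Fin n)
    let QS : QuadraticForm (MvPolynomial (Fin n) ℤ) (Fin n → MvPolynomial (Fin n) ℤ) := LinearMap.BilinMap.toQuadraticMap
      (Matrix.toBilin' (Matrix.diagonal fun i ↦ MvPolynomial.X i))
    let ψ : MvPolynomial (Fin n) ℤ →+* R ⧸ p := MvPolynomial.eval₂Hom (Int.castRingHom _) fun i ↦ φ (Q (b i))
    have hS : φ ∘ QuadGrp.coeffs b (LinearEquiv.refl R R) Q = ψ ∘ QuadGrp.coeffs bS (LinearEquiv.refl _ _) QS := by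
      funext s
      induction s using Sym2.ind with
      | _ i j =>
        simp only [Function.comp_apply, QuadGrp.coeffs_mk, LinearEquiv.refl_apply, bS, QS, Pi.basisFun_apply, polar,
          LinearMap.BilinMap.toQuadraticMap_apply, map_add, LinearMap.add_apply, Matrix.toBilin'_single]
        by_cases hij : i = j
        · subst hij; simp [ψ]
        · rw [if_neg hij, if_neg hij]
          simp only [Matrix.diagonal_apply_ne _ hij, Matrix.diagonal_apply_ne _ (Ne.symm hij)]
          have := hoff i j hij
          rw [polar] at this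
          simpa [← map_add, ← map_sub] using this
    have hd : QuadGrp.halfDisc bS (LinearEquiv.refl _ _) QS = 2 ^ (n - 1) * ∏ i, MvPolynomial.X i := by
      refine mul_left_cancel₀ (two_ne_zero (α := MvPolynomial (Fin n) ℤ)) ?_
      rw [two_mul_halfDisc hodd, ← mul_assoc, ← pow_succ', Nat.sub_add_cancel (by omega)]
      have : polarMat bS QS = Matrix.diagonal fun i ↦ 2 * MvPolynomial.X i := by
        ext i j
        simp only [polarMat_apply, bS, QS, Pi.basisFun_apply, polar, LinearMap.BilinMap.toQuadraticMap_apply, map_add,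
          LinearMap.add_apply, Matrix.toBilin'_single]
        by_cases hij : i = j
        · subst hij; simp only [Matrix.diagonal_apply_eq]; ring
        · simp [Matrix.diagonal_apply_ne _ hij, Matrix.diagonal_apply_ne _ (Ne.symm hij)]
      rw [this, Matrix.det_diagonal, Finset.prod_mul_distrib, Finset.prod_const, Finset.card_univ, Fintype.card_fin]
    rw [QuadGrp.halfDisc, MvPolynomial.eval₂_comp_left, hS, RingHom.ext_int (φ.comp _) (ψ.comp (Int.castRingHom _)),
      ← MvPolynomial.eval₂_comp_left]
    change ψ (QuadGrp.halfDisc bS (LinearEquiv.refl _ _) QS) = 0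
    rw [hd, map_mul, map_pow, map_ofNat, h2, zero_pow (by omega), zero_mul]
  · have h0 : ((polarMat b Q).map φ).det = 0 := by
      let P := (polarMat b Q).map φ
      have hP : ∀ a c i j, P a j * P c i = P c j * P a i := fun a c i j ↦ by
        simpa [P, polarMat_apply] using hmin a c i j
      by_contra hd
      let a : Fin n := ⟨0, by omega⟩
      let c : Fin n := ⟨1, by omega⟩
      have hac : a ≠ c := by simp [a, c, Fin.ext_iff]
      have hzero : ∀ i, P a i = 0 := by
        intro i
        have hrow : Matrix.vecMul (Pi.single a (P c i) - Pi.single c (P a i)) P = 0 := by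
          funext j
          rw [Matrix.sub_vecMul, Pi.sub_apply, Matrix.single_vecMul, Matrix.single_vecMul, Pi.zero_apply]
          simp only [Pi.smul_apply, smul_eq_mul, Matrix.row]
          linear_combination hP a c i j
        have := Matrix.eq_zero_of_vecMul_eq_zero hd hrow
        simpa [hac, hac.symm] using congrFun this c
      exact hd (Matrix.det_eq_zero_of_row_eq_zero a hzero)
    rw [← RingHom.mapMatrix_apply, ← RingHom.map_det, ← two_mul_halfDisc hodd, map_mul, map_ofNat] at h0
    exact (mul_eq_zero.1 h0).resolve_left h2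

theorem exists_minor (hn : 3 ≤ n) (Q : QuadraticForm R (Fin n → R))
    (hQ : QuadGrp.IsNondeg (Pi.basisFun R (Fin n)) (LinearEquiv.refl R R) Q) (p : Ideal R) (hp : p.IsMaximal) :
    ∃ a c i j, polar Q (Pi.basisFun R _ a) (Pi.basisFun R _ j) * polar Q (Pi.basisFun R _ c) (Pi.basisFun R _ i) -
      polar Q (Pi.basisFun R _ c) (Pi.basisFun R _ j) * polar Q (Pi.basisFun R _ a) (Pi.basisFun R _ i) ∉ p := by
  rcases Nat.even_or_odd n with he | ho
  · exact exists_minor_of_regular (by omega) _ Q (hQ.1 he) p hp
  · exact exists_minor_of_semiregular hn ho _ Q (hQ.2 ho) p hp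

theorem baseChange_eq_smul {M : Type u} [AddCommGroup M] [Module R M] (g : M ≃ₗ[R] M) (c : R)
    (hg : ∀ v, g v = c • v) (A : Type u) [CommRing A] [Algebra R A] (y : A ⊗[R] M) :
    g.baseChange R A M M y = algebraMap R A c • y := by
  induction y using TensorProduct.induction_on with
  | zero => rw [map_zero, smul_zero]
  | tmul a m =>
    rw [LinearEquiv.baseChange_tmul, hg, TensorProduct.tmul_smul, algebraMap_smul]
  | add x y hx hy => rw [map_add, hx, hy, smul_add]

theorem commute_of_smul {M : Type u} [AddCommGroup M] [Module R M] (g : M ≃ₗ[R] M) (c : R)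
    (hg : ∀ v, g v = c • v) (A : Type u) [CommRing A] [Algebra R A] (h : (A ⊗[R] M) ≃ₗ[A] (A ⊗[R] M)) :
    g.baseChange R A M M * h = h * g.baseChange R A M M := by
  refine LinearEquiv.ext fun y ↦ ?_
  rw [LinearEquiv.mul_apply, LinearEquiv.mul_apply, baseChange_eq_smul g c hg, baseChange_eq_smul g c hg, map_smul]

end Groth.Agent.QuadH13
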