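import Groth.Agent.Lib.QuadH13.OddLocal
import Mathlib.LinearAlgebra.QuadraticForm.Radical
import Mathlib.LinearAlgebra.Dimension.Constructions
import Mathlib.LinearAlgebra.Dimension.OrzechProperty

/-!
Over a field a form of odd rank is nondegenerate if and only if its half-discriminant is non-zero.
-/

universe u v

open QuadraticMap

namespace Groth.Agent.QuadH13

set_option backward.isDefEq.respectTransparency.types false

variable {K : Type u} [Field K] {W : Type v} [AddCommGroup W] [Module K W]

theorem nondeg_of_ne_zero (m : ℕ) (b : Module.Basis (Fin (2 * m + 1)) K W) (Q : QuadraticForm K W)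
    (h : QuadGrp.halfDisc b (LinearEquiv.refl K K) Q ≠ 0) : QuadraticMap.Nondegenerate (Q := Q) := by
  classical
  obtain ⟨S⟩ := exists_oddSplit m b Q (isUnit_iff_ne_zero.2 h)
  have hreg : QuadGrp.IsRegular S.qf := S.qf_regular
  have hker : ∀ x, polarBilin Q x = 0 → x ∈ Submodule.span K {S.bas S.idx} := by
    intro x hx
    let y : Fin (2 * m) → K := fun k ↦ S.bas.repr x (S.idx.succAbove k)
    have hdec : x = S.bas.repr x S.idx • S.bas S.idx + S.emb y := by
      conv_lhs => rw [← S.bas.sum_repr x, Fin.sum_univ_succAbove _ S.idx]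
      congr 1
      simp only [OddSplit.emb, Module.Basis.constr_apply_fintype, Pi.basisFun_equivFun, LinearEquiv.refl_apply, y]
    have hy : y = 0 := hreg.1 (a₂ := 0) (by
      rw [map_zero]
      refine LinearMap.ext fun z ↦ ?_
      have h0 := LinearMap.congr_fun hx (S.emb z)
      rw [polarBilin_apply_apply, hdec, polar_add_left, polar_smul_left, S.orth_emb, smul_zero, _root_.zero_add,
        LinearMap.zero_apply] at h0
      rw [polarBilin_apply_apply, S.polar_qf, h0, mul_zero, LinearMap.zero_apply])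
    rw [hdec, hy, map_zero, _root_.add_zero]
    exact Submodule.smul_mem _ _ (Submodule.mem_span_singleton_self _)
  refine ⟨(Submodule.eq_bot_iff _).2 fun x hx ↦ ?_, ?_⟩
  · obtain ⟨c, rfl⟩ := Submodule.mem_span_singleton.1 (hker x hx.2)
    have h1 := hx.1
    rw [QuadraticMap.map_smul, S.val, smul_eq_mul, mul_eq_zero] at h1
    rw [mul_self_eq_zero.1 (h1.resolve_right S.a.ne_zero), zero_smul]
  · refine le_trans (Submodule.rank_mono (t := Submodule.span K {S.bas S.idx}) fun x hx ↦ hker x hx) ?_
    simpa using rank_span_le (R := K) ({S.bas S.idx} : Set W)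

theorem ne_zero_of_nondeg {n : ℕ} (hn : Odd n) (b : Module.Basis (Fin n) K W) (Q : QuadraticForm K W)
    (h : QuadraticMap.Nondegenerate (Q := Q)) : QuadGrp.halfDisc b (LinearEquiv.refl K K) Q ≠ 0 := by
  classical
  intro h0
  have hd : (polarMat b Q).det = 0 := by rw [← two_mul_halfDisc hn, h0, mul_zero]
  obtain ⟨r, hr0, hr⟩ := Matrix.exists_mulVec_eq_zero_iff.2 hd
  obtain ⟨i₀, hi₀⟩ : ∃ i, r i ≠ 0 := Function.ne_iff.1 hr0
  let f : Fin n → W := Function.update (⇑b) i₀ (∑ i, r i • b i)
  have hb : ∀ j, j ≠ i₀ → b j ∈ Submodule.span K (Set.range f) :=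
    fun j hj ↦ Submodule.subset_span ⟨j, Function.update_of_ne hj _ _⟩
  have hsp : ⊤ ≤ Submodule.span K (Set.range f) := by
    rw [← b.span_eq, Submodule.span_le]
    rintro _ ⟨j, rfl⟩
    by_cases hj : j = i₀
    · subst hj
      have : r j • b j = (∑ i, r i • b i) - ∑ i ∈ Finset.univ.erase j, r i • b i :=
        eq_sub_of_add_eq (Finset.add_sum_erase Finset.univ (fun i ↦ r i • b i) (Finset.mem_univ j))
      rw [show b j = (r j)⁻¹ • (r j • b j) by rw [smul_smul, inv_mul_cancel₀ hi₀, one_smul], this]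
      exact Submodule.smul_mem _ _ (sub_mem (Submodule.subset_span ⟨j, Function.update_self ..⟩)
        (Submodule.sum_mem _ fun i hi ↦ Submodule.smul_mem _ _ (hb i (Finset.ne_of_mem_erase hi))))
    · exact hb j hj
  let c : Module.Basis (Fin n) K W := basisOfTopLeSpanOfCardEqFinrank f hsp (Module.finrank_eq_card_basis b).symm
  have hci : c i₀ = ∑ i, r i • b i := by simp [c, f, coe_basisOfTopLeSpanOfCardEqFinrank]
  have hrker : polarBilin Q (c i₀) = 0 := b.ext fun l ↦ by
    have h' := congrFun hr l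
    rw [Matrix.mulVec, dotProduct, Pi.zero_apply] at h'
    rw [hci, LinearMap.map_sum₂, LinearMap.zero_apply, ← h']
    refine Finset.sum_congr rfl fun i _ ↦ ?_
    rw [LinearMap.map_smul₂, polarBilin_apply_apply, polarMat_apply, polar_comm, smul_eq_mul, mul_comm]
  have hc0 : QuadGrp.halfDisc c (LinearEquiv.refl K K) Q = 0 := by
    rw [show c = b.map (b.equiv c (Equiv.refl _)) by ext i; simp, halfDisc_map Q b hn, h0, mul_zero]
  have hsplit := halfDisc_eq_mul Q c hn i₀ fun j _ ↦ LinearMap.congr_fun hrker (c j)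
  rw [hc0, eq_comm, mul_eq_zero] at hsplit
  rcases hsplit with hq | hW
  · exact c.ne_zero i₀ ((Submodule.eq_bot_iff _).1 h.radical_eq_bot _ ⟨hq, hrker⟩)
  obtain ⟨s, hs0, hs⟩ := Matrix.exists_mulVec_eq_zero_iff.2 hW
  have hsi : s i₀ = 0 := by
    simpa [Matrix.mulVec, Matrix.updateRow_self] using congrFun hs i₀
  let x := ∑ i, s i • c i
  have hx : polarBilin Q x = 0 := c.ext fun l ↦ by
    rw [LinearMap.zero_apply, polarBilin_apply_apply, polar_comm]
    by_cases hl : l = i₀
    · subst hl; exact LinearMap.congr_fun hrker x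
    · have h' := congrFun hs l
      rw [Matrix.mulVec, dotProduct, Pi.zero_apply] at h'
      rw [← polarBilin_apply_apply, map_sum, ← h']
      refine Finset.sum_congr rfl fun i _ ↦ ?_
      rw [map_smul, polarBilin_apply_apply, Matrix.updateRow_ne hl, polarMat_apply, smul_eq_mul, mul_comm]
  have hind : LinearIndependent K ![(⟨c i₀, hrker⟩ : LinearMap.ker (polarBilin Q)), ⟨x, hx⟩] := by
    refine LinearIndependent.pair_iff.2 fun a e hae ↦ ?_
    have hae' : a • c i₀ + e • x = 0 := congrArg Subtype.val hae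
    have key : ∀ l, a * (if i₀ = l then 1 else 0) + e * s l = 0 := fun l ↦ by
      have h' := congrArg (fun z ↦ c.repr z l) hae'
      simpa [x, Finsupp.single_apply] using h'
    obtain ⟨l, hl⟩ := Function.ne_iff.1 hs0
    have hl0 : i₀ ≠ l := fun hh ↦ hl (hh ▸ hsi)
    exact ⟨by simpa [hsi] using key i₀, by simpa [if_neg hl0, show s l ≠ 0 from hl] using key l⟩
  have h2 := le_trans hind.cardinal_lift_le_rank (Cardinal.lift_le.2 h.rank_rad_polar_le)
  simp at h2

end Groth.Agent.QuadH13
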