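import Groth.Agent.Lib.QuadH13.Inner

/-!
Automorphisms of the Clifford algebra of a regular form of even rank over a local ring are inner.
-/

universe u v

open QuadraticMap CliffordAlgebra

namespace Groth.Agent.QuadH13

variable {R : Type u} [CommRing R] {n : ℕ} {M : Type v} [AddCommGroup M] [Module R M]
variable {Q : QuadraticForm R M}

theorem exists_inner [IsLocalRing R] (b : Module.Basis (Fin n) R M) (hn : Even n) (hQ : QuadGrp.IsRegular Q)
    (σ : CliffordAlgebra Q ≃ₐ[R] CliffordAlgebra Q) :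
    ∃ u : (CliffordAlgebra Q)ˣ, ∀ x, σ x * u = (u : CliffordAlgebra Q) * x := by
  haveI := free_clifford b Q
  haveI := finite_clifford b Q
  obtain ⟨w, hw, hspan⟩ := exists_coord_dual b hQ
  obtain ⟨ω, hω, hωv⟩ := exists_anticomm_unit b hn hQ
  obtain ⟨s, hs⟩ := exists_scalar_of_central b hn hQ (z := (ω : CliffordAlgebra Q) * ω) fun v ↦ by
    rw [← mul_assoc, hωv, neg_mul, mul_assoc, hωv, mul_neg, neg_neg, mul_assoc]
  have hsu : IsUnit (s : R) := by
    obtain ⟨r, hr⟩ := exists_scalar_of_central b hn hQ (z := ((ω * ω)⁻¹ : (CliffordAlgebra Q)ˣ).val) fun v ↦ by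
      refine (Commute.units_inv_right ?_).eq
      change ι Q v * (ω * ω : (CliffordAlgebra Q)ˣ).val = (ω * ω : (CliffordAlgebra Q)ˣ).val * ι Q v
      rw [Units.val_mul, ← hs, Algebra.commutes]
    refine IsUnit.of_mul_eq_one r (algebraMap_inj b Q ?_)
    rw [map_mul, hr, hs, map_one, ← Units.val_mul ω ω, Units.mul_inv]
  obtain ⟨su, rfl⟩ := hsu
  let Γ : CliffordAlgebra Q →ₗ[R] CliffordAlgebra Q :=
    (↑su⁻¹ : R) • (LinearMap.mulRight R (ω : CliffordAlgebra Q) ∘ₗ LinearMap.mulLeft R (σ (ω : CliffordAlgebra Q)))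
  have hΓ : ∀ x, Γ x = (↑su⁻¹ : R) • (σ (ω : CliffordAlgebra Q) * x * ω) := fun x ↦ rfl
  have hΓ2 : ∀ x, Γ (Γ x) = x := by
    intro x
    rw [hΓ, hΓ, mul_smul_comm, smul_mul_assoc, smul_smul, ← mul_assoc, ← mul_assoc, ← map_mul, ← hs, AlgEquiv.commutes,
      mul_assoc _ (ω : CliffordAlgebra Q), ← hs, ← Algebra.commutes (su : R), ← Algebra.smul_def,
      ← Algebra.smul_def, smul_smul, smul_smul]
    convert one_smul R x
    linear_combination (↑su⁻¹ * ↑su + 1) * su.inv_mul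
  have hΓl : ∀ v x, Γ (σ (ι Q v) * x) = -(σ (ι Q v) * Γ x) := by
    intro v x
    rw [hΓ, hΓ, ← mul_assoc, ← map_mul, show (ω : CliffordAlgebra Q) * ι Q v = -(ι Q v * ω) by rw [hωv, neg_neg],
      map_neg, map_mul, neg_mul, neg_mul, smul_neg, mul_smul_comm]
    simp only [mul_assoc]
  have hΓr : ∀ v x, Γ (x * ι Q v) = -(Γ x * ι Q v) := by
    intro v x
    rw [hΓ, hΓ, ← mul_assoc, mul_assoc _ (ι Q v), hωv, mul_neg, ← mul_assoc, smul_neg, smul_mul_assoc]
  let T : M → CliffordAlgebra Q →ₗ[R] CliffordAlgebra Q := fun v ↦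
    LinearMap.mulLeft R (σ (ι Q v)) - LinearMap.mulRight R (ι Q v) ∘ₗ Γ
  have hT : ∀ v x, T v x = σ (ι Q v) * x - Γ x * ι Q v := fun v x ↦ rfl
  have hTΓ : ∀ v x, Γ (T v x) = -(σ (ι Q v) * Γ x) + x * ι Q v := fun v x ↦ by
    rw [hT, map_sub, hΓl, hΓr, hΓ2, sub_neg_eq_add]
  have hTT : ∀ v v' x, T v (T v' x) = σ (ι Q v) * σ (ι Q v') * x - x * (ι Q v' * ι Q v)
      + (σ (ι Q v') * Γ x * ι Q v - σ (ι Q v) * Γ x * ι Q v') := fun v v' x ↦ by
    rw [hT, hTΓ, hT]
    noncomm_ring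
  let D := fun i ↦ T (w i)
  let L := fun j ↦ LinearMap.mulLeft R (σ (ι Q (b j)))
  have hcar : IsCAR D L :=
    { sq := fun i x ↦ by
        rw [hTT, ← map_mul, ι_sq_scalar, AlgEquiv.commutes, Algebra.commutes, sub_self, sub_self, add_zero]
      anti := fun i j x ↦ by
        have h : (σ (ι Q (w i)) * σ (ι Q (w j)) + σ (ι Q (w j)) * σ (ι Q (w i))) * x =
            x * (ι Q (w j) * ι Q (w i) + ι Q (w i) * ι Q (w j)) := by
          rw [← map_mul σ, ← map_mul σ, ← map_add σ, ι_mul_ι_add_swap, ι_mul_ι_add_swap, AlgEquiv.commutes,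
            polar_comm (⇑Q) (w j) (w i), Algebra.commutes]
        rw [hTT, hTT, ← sub_eq_zero.2 h]
        noncomm_ring
      homotopy := fun i j x ↦ by
        have h : (σ (ι Q (w i)) * σ (ι Q (b j)) + σ (ι Q (b j)) * σ (ι Q (w i))) * x = polar Q (w i) (b j) • x := by
          rw [← map_mul σ, ← map_mul σ, ← map_add σ, ι_mul_ι_add_swap, AlgEquiv.commutes, ← Algebra.smul_def]
        have hp : polar Q (w i) (b j) = if i = j then 1 else 0 := by
          rw [← polarBilin_apply_apply, hw, Module.Basis.coord_apply, Module.Basis.repr_self, Finsupp.single_apply]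
          exact if_congr ⟨Eq.symm, Eq.symm⟩ rfl rfl
        change T (w i) (σ (ι Q (b j)) * x) + σ (ι Q (b j)) * T (w i) x = _
        rw [hT, hΓl, hT]
        rw [hp, ite_smul, one_smul, zero_smul] at h
        rw [← h]
        noncomm_ring }
  obtain ⟨hfree, hfin, hrk⟩ := hcar.exists_finrank n le_rfl
  rw [finrank_clifford b Q] at hrk
  have hrk1 : Module.finrank R (jker D n) = 1 :=
    Nat.eq_of_mul_eq_mul_left (show 0 < 2 ^ n by positivity) (by rw [hrk, mul_one])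
  let B := Module.finBasisOfFinrankEq R (jker D n) hrk1
  let u₀ : CliffordAlgebra Q := (B 0 : jker D n)
  have hgen : ∀ x ∈ jker D n, ∃ r : R, r • u₀ = x := fun x hx ↦ ⟨B.repr ⟨x, hx⟩ 0, by
    have := congrArg (Subtype.val : jker D n → CliffordAlgebra Q) (B.sum_repr ⟨x, hx⟩)
    simpa [u₀] using this⟩
  have hinj : ∀ r : R, r • u₀ = 0 → r = 0 := fun r hr ↦ by
    have h' : r • B 0 = 0 := Subtype.ext hr
    have := congrArg (fun y ↦ B.repr y 0) h'
    simpa using this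
  have hker : ∀ x, (∀ i, D i x = 0) → ∀ v, σ (ι Q v) * x = Γ x * ι Q v := by
    intro x hx v
    rw [← sub_eq_zero, hspan v]
    simp only [map_sum, map_smul, Finset.sum_mul, Finset.mul_sum, ← Finset.sum_sub_distrib, smul_mul_assoc,
      mul_smul_comm, ← smul_sub]
    exact Finset.sum_eq_zero fun i _ ↦ by rw [show σ (ι Q (w i)) * x - Γ x * ι Q (w i) = 0 from hx i, smul_zero]
  have hu1 : ∀ i, D i u₀ = 0 := fun i ↦ (mem_jker D).1 (B 0).2 i i.isLt
  obtain ⟨γ, hγ⟩ := hgen (Γ u₀) ((mem_jker D).2 fun i _ ↦ by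
    change T (w i) (Γ u₀) = 0
    have e : T (w i) (Γ u₀) = -Γ (T (w i) u₀) := by rw [hT, hΓ2, hTΓ]; abel
    rw [e, show T (w i) u₀ = 0 from hu1 i, map_zero, neg_zero])
  have hγ2 : γ * γ = 1 := sub_eq_zero.1 (hinj _ (by
    rw [sub_smul, one_smul, mul_smul, hγ, ← map_smul, hγ, hΓ2, sub_self]))
  have hev : ∀ x ∈ evenOdd Q 0, σ x * u₀ = u₀ * x := by
    intro x hx
    induction x, hx using CliffordAlgebra.even_induction with
    | algebraMap r => rw [AlgEquiv.commutes, Algebra.commutes]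
    | add a c _ _ ha hc => rw [map_add, add_mul, ha, hc, mul_add]
    | ι_mul_ι_mul m₁ m₂ y hy ih =>
      rw [map_mul, mul_assoc, ih, ← mul_assoc, map_mul, mul_assoc (σ (ι Q m₁)), hker u₀ hu1, ← hγ, smul_mul_assoc,
        mul_smul_comm, ← mul_assoc, hker u₀ hu1, ← hγ]
      simp only [smul_mul_assoc, smul_smul, hγ2, one_smul, mul_assoc]
  have hΓu : Γ u₀ = u₀ := by
    rw [hΓ, hev _ hω, mul_assoc, ← hs, ← Algebra.commutes, ← Algebra.smul_def, smul_smul, su.inv_mul, one_smul]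
  have hall : ∀ x, σ x * u₀ = u₀ * x := by
    intro x
    induction x using CliffordAlgebra.induction with
    | algebraMap r => rw [AlgEquiv.commutes, Algebra.commutes]
    | ι v => rw [hker u₀ hu1, hΓu]
    | mul x y hx hy => rw [map_mul, mul_assoc, hy, ← mul_assoc, hx, mul_assoc]
    | add x y hx hy => rw [map_add, add_mul, hx, hy, mul_add]
  have hrl : ∀ c, ∃ c', c * u₀ = u₀ * c' := fun c ↦ ⟨σ.symm c, by rw [← hall, AlgEquiv.apply_symm_apply]⟩
  have hlr : ∀ c, ∃ c', u₀ * c = c' * u₀ := fun c ↦ ⟨σ c, (hall c).symm⟩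
  have hinv : ∀ x, involute x = (ω : CliffordAlgebra Q) * x * (↑ω⁻¹ : CliffordAlgebra Q) := by
    intro x
    induction x using CliffordAlgebra.induction with
    | algebraMap r => rw [AlgHom.commutes, ← Algebra.commutes, mul_assoc, Units.mul_inv, mul_one]
    | ι v =>
      rw [involute_ι, show (ω : CliffordAlgebra Q) * ι Q v = -(ι Q v * ω) by rw [hωv, neg_neg], neg_mul, mul_assoc,
        Units.mul_inv, mul_one]
    | mul x y hx hy =>
      rw [map_mul, hx, hy]
      simp only [← mul_assoc, Units.inv_mul_cancel_right]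
    | add x y hx hy => rw [map_add, hx, hy, mul_add, add_mul]
  let S : Submodule R (CliffordAlgebra Q) := LinearMap.range (LinearMap.mulLeft R u₀)
  let mC : Submodule R (CliffordAlgebra Q) := IsLocalRing.maximalIdeal R • ⊤
  have hu0 : u₀ ∉ mC := fun h ↦ by
    have key : ∀ x ∈ mC, ∃ μ ∈ IsLocalRing.maximalIdeal R, jproj D L n x = μ • u₀ := by
      intro x hx
      refine Submodule.smul_induction_on hx (fun r hr m _ ↦ ?_) fun x y ⟨a, ha, hxa⟩ ⟨c, hc, hyc⟩ ↦ ?_
      · obtain ⟨t, ht⟩ := hgen _ (hcar.jproj_mem n m)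
        exact ⟨r * t, Ideal.mul_mem_right _ _ hr, by rw [map_smul, ← ht, smul_smul]⟩
      · exact ⟨a + c, add_mem ha hc, by rw [map_add, hxa, hyc, add_smul]⟩
    obtain ⟨μ, hμ, he⟩ := key _ h
    rw [hcar.jproj_eq_self n fun i ↦ (mem_jker D).1 (B 0).2 i i.isLt] at he
    have h0 : u₀ = 0 := eq_zero_of_one_sub_smul hμ he.symm
    exact one_ne_zero (hinj 1 (by rw [h0, smul_zero]))
  have hdS : ∀ i, ∀ x ∈ S, contractLeft (b.coord i) x ∈ S := by
    rintro i _ ⟨c, rfl⟩
    rw [← hw i, polar_contract, LinearMap.mulLeft_apply, hinv]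
    obtain ⟨c', hc'⟩ := hrl (ι Q (w i))
    obtain ⟨c'', hc''⟩ := hrl (ω : CliffordAlgebra Q)
    refine ⟨c' * c - c'' * c * (↑ω⁻¹ : CliffordAlgebra Q) * ι Q (w i), ?_⟩
    rw [LinearMap.mulLeft_apply, mul_sub, ← mul_assoc u₀ c', ← hc', ← mul_assoc (ω : CliffordAlgebra Q) u₀, hc'']
    simp only [mul_assoc]
  obtain ⟨y, hyS, hym, hyd⟩ := (isCAR_contract b Q).exists_mem_sub_of_notMem S mC hdS
    (fun i x hx ↦ map_mem_smul_top _ _ hx) (x := u₀) ⟨1, mul_one u₀⟩ hu0
  obtain ⟨r, hr⟩ := eq_algebraMap_of_contract b Q fun i ↦ (isCAR_contract b Q).D_jproj y i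
  have hry := jproj_sub_mem (isCAR_contract b Q) mC (fun i x hx ↦ map_mem_smul_top _ _ hx)
    (fun i x hx ↦ map_mem_smul_top _ _ hx) hyd n
  rw [← hr] at hry
  have hru : IsUnit r := IsLocalRing.notMem_maximalIdeal.1 fun hr' ↦ hym (by
    have h1 : algebraMap R (CliffordAlgebra Q) r ∈ mC := by
      rw [Algebra.algebraMap_eq_smul_one]; exact Submodule.smul_mem_smul hr' Submodule.mem_top
    have := sub_mem h1 hry
    rwa [sub_sub_cancel] at this)
  obtain ⟨rc, rfl⟩ := hru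
  have htop : (⊤ : Submodule R (CliffordAlgebra Q)) ≤ S ⊔ IsLocalRing.maximalIdeal R • ⊤ := by
    intro c _
    obtain ⟨cy, hcy⟩ := hyS
    have h1 : algebraMap R (CliffordAlgebra Q) rc * c ∈ S ⊔ mC := by
      rw [show algebraMap R (CliffordAlgebra Q) rc = y + (algebraMap R (CliffordAlgebra Q) rc - y) by abel, add_mul]
      refine Submodule.add_mem_sup ⟨cy * c, ?_⟩ (map_mem_smul_top _ (LinearMap.mulRight R c) hry)
      rw [← hcy]
      simp [mul_assoc]
    have h2 := Submodule.smul_mem _ (↑rc⁻¹ : R) h1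
    rwa [← Algebra.smul_def, smul_smul, Units.inv_mul, one_smul] at h2
  have hone : (1 : CliffordAlgebra Q) ∈ S := Submodule.le_of_le_smul_of_le_jacobson_bot Module.Finite.fg_top
    (IsLocalRing.maximalIdeal_le_jacobson ⊥) htop Submodule.mem_top
  obtain ⟨c, hc⟩ := hone
  rw [LinearMap.mulLeft_apply] at hc
  obtain ⟨c', hc'⟩ := hlr c
  rw [hc] at hc'
  have hcc : c' = c := left_inv_eq_right_inv hc'.symm hc
  exact ⟨⟨u₀, c, hc, hcc ▸ hc'.symm⟩, hall⟩

end Groth.Agent.QuadH13
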