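import Groth.Agent.Lib.QuadH13.RevSign
import Groth.Agent.Lib.QuadH13.Skolem
import Groth.Agent.Lib.QuadH13.DicksonDet

/-!
Clifford algebras of semiregular forms of odd rank over a local ring.
-/

universe u v

open QuadraticMap CliffordAlgebra

namespace Groth.Agent.QuadH13

set_option backward.isDefEq.respectTransparency.types false

variable {R : Type u} [CommRing R] {M : Type v} [AddCommGroup M] [Module R M]

/-- An anisotropic line with regular orthogonal complement. -/
structure OddSplit (Q : QuadraticForm R M) (m : ℕ) where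
  bas : Module.Basis (Fin (2 * m + 1)) R M
  idx : Fin (2 * m + 1)
  a : Rˣ
  val : Q (bas idx) = a
  orth : ∀ k, polar Q (bas idx) (bas (idx.succAbove k)) = 0
  minor : IsUnit (Matrix.of fun k l ↦ polar Q (bas (idx.succAbove k)) (bas (idx.succAbove l))).det

theorem det_of_row_single {k : ℕ} (W : Matrix (Fin (k + 1)) (Fin (k + 1)) R) (i : Fin (k + 1))
    (h : ∀ j, j ≠ i → W i j = 0) : W.det = W i i * (W.submatrix i.succAbove i.succAbove).det := by
  rw [Matrix.det_succ_row W i, Finset.sum_eq_single i (fun j _ hj ↦ by rw [h j hj, mul_zero, zero_mul])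
    (fun hi ↦ absurd (Finset.mem_univ i) hi), ← two_mul, Even.neg_one_pow (even_two_mul _), one_mul]

theorem exists_oddSplit [IsLocalRing R] (m : ℕ) (b : Module.Basis (Fin (2 * m + 1)) R M) (Q : QuadraticForm R M)
    (hQ : QuadGrp.IsSemiregular b (LinearEquiv.refl R R) Q) : Nonempty (OddSplit Q m) := by
  classical
  have ho : Odd (2 * m + 1) := odd_two_mul_add_one m
  by_cases h2 : IsUnit (2 : R)
  swap
  · obtain ⟨c, i₀, hoff, hc⟩ := exists_basis Q b ho h2 hQ
    have hu : IsUnit (Q (c i₀) * ((polarMat c Q).updateRow i₀ (Pi.single i₀ 1)).det) :=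
      halfDisc_eq_mul Q c ho i₀ hoff ▸ hc
    obtain ⟨a, ha⟩ := (isUnit_of_mul_isUnit_left hu)
    have hW := isUnit_of_mul_isUnit_right hu
    rw [det_of_row_single _ i₀ (fun j hj ↦ by rw [Matrix.updateRow_self, Pi.single_eq_of_ne hj]),
      Matrix.updateRow_self, Pi.single_eq_same, one_mul] at hW
    refine ⟨⟨c, i₀, a, ha.symm, fun k ↦ hoff _ (Fin.succAbove_ne i₀ k), ?_⟩⟩
    convert hW using 2
    ext k l
    rw [Matrix.submatrix_apply, Matrix.updateRow_ne (Fin.succAbove_ne i₀ k), polarMat_apply]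
    rfl
  have hP : IsUnit (polarMat b Q).det := by rw [← two_mul_halfDisc ho]; exact h2.mul hQ
  have hreg := isRegular_of_isUnit_det b hP
  obtain ⟨v, a, hva⟩ : ∃ v, ∃ a : Rˣ, Q v = a := by
    by_contra hcon
    push Not at hcon
    obtain ⟨w, hw⟩ := contract_eq_of_regular hreg (b.coord 0)
    have h1 : polar Q w (b 0) = 1 := by
      rw [← polarBilin_apply_apply, hw]; simp
    have hmem : ∀ v, Q v ∈ IsLocalRing.maximalIdeal R := fun v ↦
      (IsLocalRing.mem_maximalIdeal _).2 fun ⟨a, ha⟩ ↦ hcon v a ha.symm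
    refine (Ideal.ne_top_iff_one _).1 (IsLocalRing.maximalIdeal.isMaximal R).ne_top ?_
    rw [← h1]
    exact sub_mem (sub_mem (hmem _) (hmem _)) (hmem _)
  obtain ⟨i, ci, hi⟩ : ∃ i, ∃ ci : Rˣ, b.repr v i = ci := by
    by_contra hcon
    push Not at hcon
    have hmem : ∀ i, b.repr v i ∈ IsLocalRing.maximalIdeal R := fun i ↦
      (IsLocalRing.mem_maximalIdeal _).2 fun ⟨c, hc⟩ ↦ hcon i c hc.symm
    refine (IsLocalRing.mem_maximalIdeal _).1 ?_ a.isUnit
    rw [← hva, ← b.sum_repr v, apply_eq_triSum b Q, triSum]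
    exact Submodule.sum_mem _ fun k _ ↦ Submodule.sum_mem _ fun l _ ↦ by
      split_ifs
      · exact Ideal.mul_mem_left _ _ (Ideal.mul_mem_right _ _ (hmem k))
      · exact zero_mem _
  let k0 := b.coord i
  have hkv : k0 v = ci := hi
  have hkb : k0 (b i) = 1 := by simp [k0]
  let g1 : M ≃ₗ[R] M := LinearEquiv.ofLinearMap (LinearMap.id + k0.smulRight (v - b i))
    (LinearMap.id - ((↑ci⁻¹ : R) • k0).smulRight (v - b i))
    (LinearMap.ext fun x ↦ by
      simp only [LinearMap.comp_apply, LinearMap.add_apply, LinearMap.sub_apply, LinearMap.id_apply,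
        LinearMap.smulRight_apply, LinearMap.smul_apply, smul_eq_mul]
      rw [map_sub k0, map_smul k0, map_sub k0, hkv, hkb, smul_eq_mul, sub_add, sub_eq_self, ← sub_smul,
        show (↑ci⁻¹ : R) * k0 x - (k0 x - ↑ci⁻¹ * k0 x * (↑ci - 1)) = 0 by
          linear_combination (k0 x) * ci.inv_mul, zero_smul])
    (LinearMap.ext fun x ↦ by
      simp only [LinearMap.comp_apply, LinearMap.add_apply, LinearMap.sub_apply, LinearMap.id_apply,
        LinearMap.smulRight_apply, LinearMap.smul_apply, smul_eq_mul]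
      rw [map_add k0, map_smul k0, map_sub k0, hkv, hkb, smul_eq_mul, add_sub_assoc, add_eq_left, ← sub_smul,
        show k0 x - ↑ci⁻¹ * (k0 x + k0 x * (↑ci - 1)) = 0 by linear_combination (-(k0 x)) * ci.inv_mul, zero_smul])
  let c1 := b.map g1
  have hc1 : c1 i = v := by simp [c1, g1, hkb]
  obtain ⟨ti, hti⟩ := h2.exists_right_inv
  let fl : M →ₗ[R] R := c1.coord i - (ti * (↑a⁻¹ : R)) • polarBilin Q v
  have hfv : fl v = 0 := by
    simp only [fl, LinearMap.sub_apply, LinearMap.smul_apply, polarBilin_apply_apply, polar_self, hva, smul_eq_mul,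
      nsmul_eq_mul, Nat.cast_ofNat]
    rw [Module.Basis.coord_apply]
    conv_lhs => enter [1]; rw [← hc1, Module.Basis.repr_self, Finsupp.single_eq_same]
    linear_combination (-((↑a⁻¹ : R) * a)) * hti - a.inv_mul
  let g2 : M ≃ₗ[R] M := LinearEquiv.ofLinearMap (LinearMap.id + fl.smulRight v) (LinearMap.id - fl.smulRight v)
    (LinearMap.ext fun x ↦ by simp [hfv])
    (LinearMap.ext fun x ↦ by simp [hfv])
  let c2 := c1.map g2
  have hc2 : c2 i = v := by simp [c2, g2, hc1, hfv]
  have horth : ∀ j, j ≠ i → polar Q (c2 i) (c2 j) = 0 := by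
    intro j hj
    rw [hc2]
    simp only [c2, Module.Basis.map_apply, g2, LinearEquiv.coe_ofLinearMap, LinearMap.add_apply, LinearMap.id_apply,
      LinearMap.smulRight_apply, polar_add_right, polar_smul_right, polar_self, hva, smul_eq_mul, nsmul_eq_mul,
      Nat.cast_ofNat, fl, LinearMap.sub_apply, LinearMap.smul_apply, polarBilin_apply_apply, Module.Basis.coord_apply,
      Module.Basis.repr_self, Finsupp.single_eq_of_ne (Ne.symm hj)]
    linear_combination (-(polar Q v (c1 j) * ((↑a⁻¹ : R) * a))) * hti - (polar Q v (c1 j)) * a.inv_mul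
  have hP2 := isUnit_det_polarMat c2 hreg
  rw [det_of_row_single _ i (fun j hj ↦ by rw [polarMat_apply]; exact horth j hj)] at hP2
  refine ⟨⟨c2, i, a, hc2.symm ▸ hva, fun k ↦ horth _ (Fin.succAbove_ne i k), ?_⟩⟩
  convert isUnit_of_mul_isUnit_right hP2 using 2
  ext k l
  rw [Matrix.submatrix_apply, polarMat_apply]
  rfl

namespace OddSplit

variable {Q : QuadraticForm R M} {m : ℕ} (S : OddSplit Q m)

/-- The orthogonal complement. -/
noncomputable def emb : (Fin (2 * m) → R) →ₗ[R] M :=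
  (Pi.basisFun R (Fin (2 * m))).constr R fun k ↦ S.bas (S.idx.succAbove k)

theorem emb_basis (k : Fin (2 * m)) : S.emb (Pi.basisFun R (Fin (2 * m)) k) = S.bas (S.idx.succAbove k) :=
  Module.Basis.constr_basis ..

theorem orth_emb (x : Fin (2 * m) → R) : polar Q (S.bas S.idx) (S.emb x) = 0 := by
  refine LinearMap.congr_fun ((Pi.basisFun R (Fin (2 * m))).ext fun k ↦ ?_ :
    (polarBilin Q (S.bas S.idx)).comp S.emb = 0) x
  rw [LinearMap.comp_apply, emb_basis, LinearMap.zero_apply, polarBilin_apply_apply, S.orth]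

/-- The form whose Clifford algebra is the even Clifford algebra. -/
noncomputable def qf : QuadraticForm R (Fin (2 * m) → R) := (-(S.a : R)) • Q.comp S.emb

theorem polar_qf (x y : Fin (2 * m) → R) : polar S.qf x y = -(S.a : R) * polar Q (S.emb x) (S.emb y) := by
  simp only [qf, polar, QuadraticMap.smul_apply, QuadraticMap.comp_apply, map_add, smul_eq_mul]
  ring

theorem qf_regular : QuadGrp.IsRegular S.qf := by
  refine isRegular_of_isUnit_det (Pi.basisFun R (Fin (2 * m))) ?_
  rw [show polarMat (Pi.basisFun R (Fin (2 * m))) S.qf =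
      (-(S.a : R)) • Matrix.of fun k l ↦ polar Q (S.bas (S.idx.succAbove k)) (S.bas (S.idx.succAbove l)) from ?_,
    Matrix.det_smul]
  · exact (S.a.isUnit.neg.pow _).mul S.minor
  ext k l
  rw [polarMat_apply, polar_qf, emb_basis, emb_basis]
  rfl

/-- The anisotropic vector. -/
noncomputable def e : CliffordAlgebra Q := ι Q (S.bas S.idx)

theorem e_sq : S.e * S.e = algebraMap R _ (S.a : R) := by rw [e, ι_sq_scalar, S.val]

theorem e_emb (x : Fin (2 * m) → R) : S.e * ι Q (S.emb x) = -(ι Q (S.emb x) * S.e) :=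
  eq_neg_of_add_eq_zero_left (by rw [e, ι_mul_ι_add_swap, orth_emb, map_zero])

/-- The map onto the even part. -/
noncomputable def phi : CliffordAlgebra S.qf →ₐ[R] CliffordAlgebra Q :=
  CliffordAlgebra.lift S.qf ⟨(LinearMap.mulLeft R S.e).comp ((ι Q).comp S.emb), fun x ↦ by
    change S.e * ι Q (S.emb x) * (S.e * ι Q (S.emb x)) = _
    rw [mul_assoc, ← mul_assoc (ι Q (S.emb x)) S.e, show ι Q (S.emb x) * S.e = -(S.e * ι Q (S.emb x)) by
      rw [e_emb, neg_neg], neg_mul, mul_assoc, ι_sq_scalar, mul_neg, ← mul_assoc, e_sq, ← map_mul, ← map_neg]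
    congr 1
    simp [qf]⟩

theorem phi_ι (x : Fin (2 * m) → R) : S.phi (ι S.qf x) = S.e * ι Q (S.emb x) := by simp [phi]

theorem phi_mem (x : CliffordAlgebra S.qf) : S.phi x ∈ evenOdd Q 0 := by
  induction x using CliffordAlgebra.induction with
  | algebraMap r => rw [AlgHom.commutes]; exact SetLike.algebraMap_mem_graded _ _
  | ι v => rw [phi_ι]; exact ι_mul_ι_mem_evenOdd_zero Q _ _
  | mul a c ha hc => rw [map_mul]; simpa using SetLike.mul_mem_graded ha hc
  | add a c ha hc => rw [map_add]; exact add_mem ha hc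

theorem phi_e (x : CliffordAlgebra S.qf) : S.phi x * S.e = S.e * S.phi (involute x) := by
  induction x using CliffordAlgebra.induction with
  | algebraMap r => rw [AlgHom.commutes, AlgHom.commutes, AlgHom.commutes, Algebra.commutes]
  | ι v =>
    rw [involute_ι, map_neg, phi_ι, mul_assoc, show ι Q (S.emb v) * S.e = -(S.e * ι Q (S.emb v)) by rw [e_emb, neg_neg]]
  | mul a c ha hc => rw [map_mul, map_mul, mul_assoc, hc, ← mul_assoc, ha, map_mul, mul_assoc]
  | add a c ha hc => rw [map_add, map_add, add_mul, ha, hc, map_add, mul_add]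

theorem pair_bijective : Function.Bijective fun p : CliffordAlgebra S.qf × CliffordAlgebra S.qf ↦
    S.phi p.1 + S.e * S.phi p.2 := by
  let L : (CliffordAlgebra S.qf × CliffordAlgebra S.qf) →ₗ[R] CliffordAlgebra Q :=
    S.phi.toLinearMap.coprod ((LinearMap.mulLeft R S.e).comp S.phi.toLinearMap)
  suffices Function.Bijective L from this
  have hsurj : Function.Surjective L := by
    intro z
    induction z using CliffordAlgebra.left_induction with
    | algebraMap r => exact ⟨(algebraMap R _ r, 0), by simp [L]⟩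
    | add a c ha hc => obtain ⟨p, hp⟩ := ha; obtain ⟨q, hq⟩ := hc; exact ⟨p + q, by rw [map_add, hp, hq]⟩
    | ι_mul z v hz =>
      obtain ⟨⟨p, q⟩, rfl⟩ := hz
      rw [← S.bas.sum_repr v, map_sum, Finset.sum_mul]
      refine Submodule.sum_mem (LinearMap.range L) fun i _ ↦ ?_
      rw [map_smul, smul_mul_assoc]
      refine Submodule.smul_mem _ _ ?_
      change ι Q (S.bas i) * (S.phi p + S.e * S.phi q) ∈ _
      rcases Fin.eq_self_or_eq_succAbove S.idx i with rfl | ⟨k, rfl⟩
      · refine ⟨((S.a : R) • q, p), ?_⟩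
        change S.phi ((S.a : R) • q) + S.e * S.phi p = S.e * (S.phi p + S.e * S.phi q)
        rw [map_smul, mul_add, ← mul_assoc, e_sq, ← Algebra.smul_def, add_comm]
      · refine ⟨(-(ι S.qf (Pi.basisFun R (Fin (2 * m)) k) * q),
          (↑S.a⁻¹ : R) • (ι S.qf (Pi.basisFun R (Fin (2 * m)) k) * p)), ?_⟩
        simp only [L, LinearMap.coprod_apply, LinearMap.comp_apply, LinearMap.mulLeft_apply, AlgHom.toLinearMap_apply]
        rw [← emb_basis]
        generalize (Pi.basisFun R (Fin (2 * m))) k = x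
        rw [map_neg, map_smul, map_mul, map_mul, phi_ι, mul_smul_comm, ← mul_assoc, ← mul_assoc S.e S.e, e_sq,
          mul_assoc (algebraMap R _ _), ← Algebra.smul_def, smul_smul, S.a.inv_mul, one_smul, mul_add, ← mul_assoc,
          show ι Q (S.emb x) * S.e = -(S.e * ι Q (S.emb x)) by rw [e_emb, neg_neg], neg_mul, add_comm]
        try simp only [mul_assoc]
  refine ⟨?_, hsurj⟩
  let b1 := cliffBasis (Pi.basisFun R (Fin (2 * m))) S.qf
  let P : CliffordAlgebra Q ≃ₗ[R] (CliffordAlgebra S.qf × CliffordAlgebra S.qf) :=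
    (cliffBasis S.bas Q).equiv (b1.prod b1) (Fintype.equivOfCardEq (by
      simp [Fintype.card_finset, Fintype.card_sum, pow_succ]; ring))
  haveI := Module.Finite.of_basis (b1.prod b1)
  have := OrzechProperty.injective_of_surjective_endomorphism (P.toLinearMap.comp L) (P.surjective.comp hsurj)
  intro x y h
  exact this (congrArg P h)

theorem phi_injective : Function.Injective S.phi := fun x y h ↦ by
  have := S.pair_bijective.1 (a₁ := (x, 0)) (a₂ := (y, 0)) (by simp [h])
  exact congrArg Prod.fst this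

theorem exists_phi {x : CliffordAlgebra Q} (hx : x ∈ evenOdd Q 0) : ∃ p, S.phi p = x := by
  obtain ⟨⟨p, q⟩, h⟩ := S.pair_bijective.2 x
  dsimp only at h
  have hq1 : S.e * S.phi q ∈ evenOdd Q 1 := ι_mul_mem₀ _ (S.phi_mem q)
  have hq0 : S.e * S.phi q ∈ evenOdd Q 0 := by
    rw [eq_sub_of_add_eq' h]; exact sub_mem hx (S.phi_mem p)
  rw [eq_zero_of_mem_both hq0 hq1, add_zero] at h
  exact ⟨p, h⟩

include S in
theorem exists_scalar_of_commute_even {x : CliffordAlgebra Q} (hx : x ∈ evenOdd Q 0)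
    (hc : ∀ y ∈ evenOdd Q 0, y * x = x * y) : ∃ r, algebraMap R _ r = x := by
  obtain ⟨p, rfl⟩ := S.exists_phi hx
  obtain ⟨r, rfl⟩ := exists_scalar_of_central (Pi.basisFun R (Fin (2 * m))) (even_two_mul m) S.qf_regular (z := p)
    fun v ↦ S.phi_injective (by rw [map_mul, map_mul, hc _ (S.phi_mem _)])
  exact ⟨r, (AlgHom.commutes _ _).symm⟩

include S in
theorem exists_conj_even_map [IsLocalRing R] (g : M ≃ₗ[R] M) (hg : g ∈ QuadGrp.O Q) :
    ∃ u : (CliffordAlgebra Q)ˣ, (u : CliffordAlgebra Q) ∈ evenOdd Q 0 ∧ ∀ y ∈ evenOdd Q 0,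
      CliffordAlgebra.map (QuadGrp.isometryOfMem Q g hg) y * u = (u : CliffordAlgebra Q) * y := by
  have hex : ∀ (g : M ≃ₗ[R] M) (hg : g ∈ QuadGrp.O Q), ∃ σ : CliffordAlgebra S.qf →ₐ[R] CliffordAlgebra S.qf,
      ∀ x, S.phi (σ x) = CliffordAlgebra.map (QuadGrp.isometryOfMem Q g hg) (S.phi x) := by
    intro g hg
    let Φ := AlgEquiv.ofBijective (S.phi.codRestrict (CliffordAlgebra.even Q) S.phi_mem)
      ⟨fun x y h ↦ S.phi_injective (congrArg Subtype.val h), fun y ↦ by
        obtain ⟨p, hp⟩ := S.exists_phi y.2; exact ⟨p, Subtype.ext hp⟩⟩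
    have hG : ∀ x, CliffordAlgebra.map (QuadGrp.isometryOfMem Q g hg) (S.phi x) ∈ CliffordAlgebra.even Q := by
      intro x
      induction x using CliffordAlgebra.induction with
      | algebraMap r => rw [AlgHom.commutes, AlgHom.commutes]; exact Subalgebra.algebraMap_mem _ r
      | ι v => rw [phi_ι, map_mul, e, map_apply_ι, map_apply_ι]; exact ι_mul_ι_mem_evenOdd_zero Q _ _
      | mul a c ha hc => rw [map_mul, map_mul]; exact mul_mem ha hc
      | add a c ha hc => rw [map_add, map_add]; exact add_mem ha hc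
    refine ⟨Φ.symm.toAlgHom.comp (((CliffordAlgebra.map (QuadGrp.isometryOfMem Q g hg)).comp S.phi).codRestrict _ hG),
      fun x ↦ ?_⟩
    exact congrArg Subtype.val (Φ.apply_symm_apply _)
  obtain ⟨σ, hσ⟩ := hex g hg
  obtain ⟨τ, hτ⟩ := hex g⁻¹ ((QuadGrp.O Q).inv_mem hg)
  have hcomp : ∀ (g g' : M ≃ₗ[R] M) (hg : g ∈ QuadGrp.O Q) (hg' : g' ∈ QuadGrp.O Q), (∀ v, g (g' v) = v) →
      ∀ x, CliffordAlgebra.map (QuadGrp.isometryOfMem Q g hg) (CliffordAlgebra.map (QuadGrp.isometryOfMem Q g' hg') x) = x := by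
    intro g g' hg hg' h x
    induction x using CliffordAlgebra.induction with
    | algebraMap r => rw [AlgHom.commutes, AlgHom.commutes]
    | ι v => rw [map_apply_ι, map_apply_ι, QuadGrp.isometryOfMem_apply, QuadGrp.isometryOfMem_apply, h]
    | mul a c ha hc => rw [map_mul, map_mul, ha, hc]
    | add a c ha hc => rw [map_add, map_add, ha, hc]
  let σe : CliffordAlgebra S.qf ≃ₐ[R] CliffordAlgebra S.qf := AlgEquiv.ofAlgHom σ τ
    (AlgHom.ext fun x ↦ S.phi_injective (by
      rw [AlgHom.comp_apply, hσ, hτ]; exact hcomp g g⁻¹ hg _ (fun v ↦ g.apply_symm_apply v) _))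
    (AlgHom.ext fun x ↦ S.phi_injective (by
      rw [AlgHom.comp_apply, hτ, hσ]; exact hcomp g⁻¹ g _ hg (fun v ↦ g.symm_apply_apply v) _))
  obtain ⟨u, hu⟩ := exists_inner (Pi.basisFun R (Fin (2 * m))) (even_two_mul m) S.qf_regular σe
  refine ⟨Units.map S.phi.toRingHom.toMonoidHom u, S.phi_mem _, fun y hy ↦ ?_⟩
  obtain ⟨p, rfl⟩ := S.exists_phi hy
  have := congrArg S.phi (hu p)
  rw [map_mul, map_mul, show σe p = σ p from rfl, hσ] at this
  exact this

include S in
theorem exists_odd_central [IsLocalRing R] :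
    ∃ z : (CliffordAlgebra Q)ˣ, (z : CliffordAlgebra Q) ∈ evenOdd Q 1 ∧ (∀ v, ι Q v * z = z * ι Q v) ∧
      (∃ r, algebraMap R _ r = (z : CliffordAlgebra Q) * z) ∧
      star (z : CliffordAlgebra Q) = (-1 : R) ^ (m + 1) • (z : CliffordAlgebra Q) := by
  obtain ⟨ω, hω, hωv⟩ := exists_anticomm_unit (Pi.basisFun R (Fin (2 * m))) (even_two_mul m) S.qf_regular
  let eu : (CliffordAlgebra Q)ˣ := ⟨S.e, (↑S.a⁻¹ : R) • S.e,
    by rw [mul_smul_comm, e_sq, Algebra.smul_def, ← map_mul, S.a.inv_mul, map_one],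
    by rw [smul_mul_assoc, e_sq, Algebra.smul_def, ← map_mul, S.a.inv_mul, map_one]⟩
  let z := eu * Units.map S.phi.toRingHom.toMonoidHom ω
  have hz : (z : CliffordAlgebra Q) = S.e * S.phi ω := rfl
  have hωe : S.phi ω * S.e = S.e * S.phi ω := by rw [phi_e, involute_eq_of_mem_even hω]
  have hcomm : ∀ v, ι Q v * z = z * ι Q v := by
    intro v
    refine LinearMap.congr_fun (S.bas.ext fun i ↦ ?_ : (LinearMap.mulRight R (z : CliffordAlgebra Q)).comp (ι Q) =
      (LinearMap.mulLeft R (z : CliffordAlgebra Q)).comp (ι Q)) v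
    simp only [LinearMap.comp_apply, LinearMap.mulLeft_apply, LinearMap.mulRight_apply]
    rcases Fin.eq_self_or_eq_succAbove S.idx i with rfl | ⟨k, rfl⟩
    · change S.e * z = z * S.e
      rw [hz, mul_assoc S.e (S.phi ω) S.e, hωe]
    · rw [← emb_basis, hz]
      generalize (Pi.basisFun R (Fin (2 * m))) k = x
      have h := congrArg S.phi (hωv x)
      rw [map_mul, map_neg, map_mul, phi_ι] at h
      rw [← mul_assoc, show ι Q (S.emb x) * S.e = -(S.e * ι Q (S.emb x)) by rw [e_emb, neg_neg], neg_mul, h, neg_neg,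
        ← mul_assoc, hωe]
  obtain ⟨s, hs⟩ := exists_scalar_of_central (Pi.basisFun R (Fin (2 * m))) (even_two_mul m) S.qf_regular
    (z := (ω : CliffordAlgebra S.qf) * ω) fun v ↦ by
      rw [← mul_assoc, hωv, neg_mul, mul_assoc, hωv, mul_neg, neg_neg, mul_assoc]
  refine ⟨z, ι_mul_mem₀ _ (S.phi_mem _), hcomm, ⟨(S.a : R) * s, ?_⟩, ?_⟩
  · rw [map_mul, hz, mul_assoc, ← mul_assoc (S.phi ω), hωe, mul_assoc S.e (S.phi ω), ← mul_assoc, e_sq, ← map_mul S.phi,
      ← hs, AlgHom.commutes]
  · have hstar : ∀ x, star (S.phi x) = S.phi (star x) := by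
      intro x
      induction x using CliffordAlgebra.induction with
      | algebraMap r => rw [AlgHom.commutes, CliffordAlgebra.star_algebraMap, CliffordAlgebra.star_algebraMap, AlgHom.commutes]
      | ι v =>
        rw [phi_ι, e, star_mul, CliffordAlgebra.star_ι, CliffordAlgebra.star_ι, CliffordAlgebra.star_ι, map_neg, phi_ι,
          neg_mul_neg, e, ← e, S.e_emb, neg_neg]
      | mul a c ha hc => rw [map_mul, star_mul, ha, hc, star_mul, map_mul]
      | add a c ha hc => rw [map_add, star_add, ha, hc, star_add, map_add]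
    have hsω : star (ω : CliffordAlgebra S.qf) = (-1 : R) ^ m • (ω : CliffordAlgebra S.qf) := by
      rw [CliffordAlgebra.star_def, involute_eq_of_mem_even hω,
        reverse_anticomm m (Pi.basisFun R (Fin (2 * m))) S.qf_regular ω hωv]
    rw [hz, star_mul, hstar, hsω, e, CliffordAlgebra.star_ι, ← e, map_smul, mul_neg, smul_mul_assoc, hωe,
      pow_succ, mul_smul, neg_one_smul, smul_neg]

include S in
/-- A conjugation by an even unit has determinant one. -/
theorem det_eq_one_of_even_conj [IsLocalRing R] (g : M ≃ₗ[R] M) (u : (CliffordAlgebra Q)ˣ)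
    (hu : (u : CliffordAlgebra Q) ∈ evenOdd Q 0) (hc : ∀ v, (u : CliffordAlgebra Q) * ι Q v = ι Q (g v) * u) :
    LinearMap.det (g : M →ₗ[R] M) = 1 := by
  let k0 := S.bas.coord S.idx
  let Qt : QuadraticForm R (M × R) := Q.comp (LinearMap.fst R M R) +
    QuadraticMap.linMulLin (k0.comp (LinearMap.fst R M R)) (LinearMap.snd R M R)
  have hpol : ∀ p q : M × R, polar Qt p q = polar Q p.1 q.1 + (k0 p.1 * q.2 + k0 q.1 * p.2) := by
    intro p q
    simp only [Qt, polar, QuadraticMap.add_apply, QuadraticMap.comp_apply, QuadraticMap.linMulLin_apply,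
      LinearMap.comp_apply, LinearMap.fst_apply, LinearMap.snd_apply, map_add, Prod.fst_add, Prod.snd_add]
    ring
  have hk0 : k0 (S.bas S.idx) = 1 := by simp [k0]
  have hk0' : ∀ x, k0 (S.emb x) = 0 := fun x ↦ by
    refine LinearMap.congr_fun ((Pi.basisFun R (Fin (2 * m))).ext fun k ↦ ?_ : k0.comp S.emb = 0) x
    rw [LinearMap.comp_apply, emb_basis]
    simp [k0, Finsupp.single_eq_of_ne (Fin.succAbove_ne S.idx k)]
  let bt : Module.Basis (Fin (2 * m + 1 + 1)) R (M × R) :=
    (S.bas.prod (Module.Basis.singleton (Fin 1) R)).reindex finSumFinEquiv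
  have heven : Even (2 * m + 1 + 1) := ⟨m + 1, by ring⟩
  have hdec : ∀ x : M, ∃ y, x = k0 x • S.bas S.idx + S.emb y := fun x ↦
    ⟨fun k ↦ S.bas.repr x (S.idx.succAbove k), by
      conv_lhs => rw [← S.bas.sum_repr x, Fin.sum_univ_succAbove _ S.idx]
      congr 1
      simp only [emb, Module.Basis.constr_apply_fintype, Pi.basisFun_equivFun, LinearEquiv.refl_apply]⟩
  have hj : ∀ x y, polar Q (S.emb x) (S.emb y) = -(↑S.a⁻¹ : R) * polar S.qf x y := fun x y ↦ by
    rw [polar_qf]; linear_combination (-(polar Q (S.emb x) (S.emb y))) * S.a.inv_mul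
  have hreg : QuadGrp.IsRegular Qt := by
    constructor
    · refine (injective_iff_map_eq_zero _).2 fun p hp ↦ ?_
      have hp' : ∀ q, polar Qt p q = 0 := fun q ↦ LinearMap.congr_fun hp q
      obtain ⟨y, hy⟩ := hdec p.1
      have h1 := hp' (0, 1)
      rw [hpol] at h1
      simp only [polar_zero_right, map_zero, zero_mul, add_zero, mul_one, zero_add] at h1
      rw [h1, zero_smul, zero_add] at hy
      have h2 := hp' (S.bas S.idx, 0)
      rw [hpol] at h2
      simp only [hy, polar_comm (⇑Q) (S.emb y), orth_emb, hk0, mul_zero, zero_add, one_mul] at h2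
      have hy0 : y = 0 := S.qf_regular.1 (a₂ := 0) (by
        rw [map_zero]
        refine (Pi.basisFun R (Fin (2 * m))).ext fun w ↦ ?_
        have h3 := hp' (S.emb ((Pi.single w 1 : Fin (2 * m) → R)), 0)
        rw [hpol] at h3
        simp only [hy, hj, hk0', mul_zero, zero_mul, add_zero] at h3
        simp only [Pi.basisFun_apply, polarBilin_apply_apply, LinearMap.zero_apply]
        linear_combination (-(S.a : R)) * h3 - (polar S.qf y (Pi.single w 1)) * S.a.mul_inv)
      exact Prod.ext (by rw [hy, hy0, map_zero]; rfl) h2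
    · intro d
      obtain ⟨y, hy⟩ := S.qf_regular.2 ((-(S.a : R)) • (d.comp ((LinearMap.inl R M R).comp S.emb)))
      refine ⟨(d (0, 1) • S.bas S.idx + S.emb y, d (S.bas S.idx, 0) - d (0, 1) * (2 * (S.a : R))), bt.ext fun i ↦ ?_⟩
      rw [polarBilin_apply_apply, hpol]
      obtain ⟨i, rfl⟩ := finSumFinEquiv.surjective i
      simp only [bt, Module.Basis.reindex_apply, Equiv.symm_apply_apply, Module.Basis.prod_apply]
      rcases i with i | i
      · simp only [Sum.elim_inl, Function.comp_apply, LinearMap.coe_inl, polar_add_left, polar_smul_left, smul_eq_mul,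
          mul_zero, map_add, map_smul, hk0, hk0', add_zero, mul_one, zero_add]
        rcases Fin.eq_self_or_eq_succAbove S.idx i with rfl | ⟨k, rfl⟩
        · rw [polar_self, S.val, polar_comm (⇑Q) (S.emb y), orth_emb, hk0, nsmul_eq_mul, Nat.cast_ofNat]; ring
        · rw [S.orth, ← emb_basis, hk0', hj, show polar S.qf y _ = _ from LinearMap.congr_fun hy _]
          simp only [LinearMap.smul_apply, LinearMap.comp_apply, LinearMap.inl_apply, smul_eq_mul, mul_zero, zero_mul, zero_add, add_zero]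
          linear_combination (d (S.emb (Pi.basisFun R (Fin (2 * m)) k), 0)) * S.a.inv_mul
      · simp only [Sum.elim_inr, Function.comp_apply, LinearMap.coe_inr, Module.Basis.singleton_apply, polar_zero_right,
          map_zero, zero_mul, add_zero, zero_add, mul_one, map_add, map_smul, hk0, hk0', smul_eq_mul]
  let inl' : Q →qᵢ Qt := { LinearMap.inl R M R with map_app' := fun w ↦ by simp [Qt] }
  let F := CliffordAlgebra.map inl'
  have hFι : ∀ w, F (ι Q w) = ι Qt (w, 0) := fun w ↦ map_apply_ι inl' w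
  have hFmem : F u ∈ evenOdd Qt 0 := by
    generalize (u : CliffordAlgebra Q) = x at hu
    induction x, hu using CliffordAlgebra.even_induction with
    | algebraMap r => rw [AlgHom.commutes]; exact SetLike.algebraMap_mem_graded _ _
    | add a c _ _ ha hc => rw [map_add]; exact add_mem ha hc
    | ι_mul_ι_mul m₁ m₂ y hy ih =>
      rw [map_mul, map_mul, hFι, hFι]
      simpa using SetLike.mul_mem_graded (ι_mul_ι_mem_evenOdd_zero Qt (m₁, 0) (m₂, 0)) ih
  let U : (CliffordAlgebra Qt)ˣ := Units.map F.toRingHom.toMonoidHom u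
  have hU : (U : CliffordAlgebra Qt) ∈ evenOdd Qt 0 := hFmem
  have hUM : ∀ w, (U : CliffordAlgebra Qt) * ι Qt (w, 0) = ι Qt (g w, 0) * U := fun w ↦ by
    have h := congrArg F (hc w)
    rw [map_mul, map_mul, hFι, hFι] at h
    exact h
  let f : M × R := (S.bas S.idx, -(2 * (S.a : R)))
  have hfM : ∀ w, polar Qt f (w, 0) = 0 := fun w ↦ by
    obtain ⟨y, hy⟩ := hdec w
    rw [hpol]
    simp only [f, mul_zero, zero_add]
    conv_lhs => enter [1]; rw [hy, polar_add_right, polar_smul_right, orth_emb, polar_self, S.val, smul_eq_mul,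
      add_zero, nsmul_eq_mul, Nat.cast_ofNat]
    ring
  have hfU : ι Qt f * U = U * ι Qt f := by
    change ι Qt f * F u = F u * ι Qt f
    clear hFmem hU hUM
    generalize (u : CliffordAlgebra Q) = x at hu
    induction x, hu using CliffordAlgebra.even_induction with
    | algebraMap r => rw [AlgHom.commutes, Algebra.commutes]
    | add a c _ _ ha hc => rw [map_add, mul_add, ha, hc, add_mul]
    | ι_mul_ι_mul m₁ m₂ y hy ih =>
      have hsw : ∀ w, ι Qt f * ι Qt (w, 0) = -(ι Qt (w, 0) * ι Qt f) := fun w ↦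
        eq_neg_of_add_eq_zero_left (by rw [ι_mul_ι_add_swap, hfM, map_zero])
      rw [map_mul, map_mul, hFι, hFι, ← mul_assoc, ← mul_assoc, hsw, neg_mul, mul_assoc (ι Qt (m₁, 0)), hsw, mul_neg,
        neg_neg, ← mul_assoc, mul_assoc _ (ι Qt f), ih]
      simp only [mul_assoc]
  let h' : CliffordAlgebra Qt := U * ι Qt (0, 1) * ↑U⁻¹
  have hh1 : h' ∈ evenOdd Qt 1 := by
    have hi : (↑U⁻¹ : CliffordAlgebra Qt) ∈ evenOdd Qt 0 := (QuadGrp.evenUnits Qt).inv_mem hU
    simpa using SetLike.mul_mem_graded (SetLike.mul_mem_graded hU (ι_mem_evenOdd_one Qt ((0 : M), (1 : R)))) hi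
  obtain ⟨Y, hY⟩ := hreg.2 ((k0.comp (g.symm : M →ₗ[R] M)).comp (LinearMap.fst R M R))
  let Z := h' - ι Qt Y
  have hZ1 : Z ∈ evenOdd Qt 1 := sub_mem hh1 (ι_mem_evenOdd_one _ _)
  have hZd : ∀ w, contractLeft (polarBilin Qt (w, 0)) Z = 0 := by
    intro w
    have hUinv : (↑U⁻¹ : CliffordAlgebra Qt) * ι Qt (w, 0) = ι Qt (g.symm w, 0) * ↑U⁻¹ := by
      refine U.isUnit.mul_left_cancel ?_
      rw [← mul_assoc, Units.mul_inv, one_mul, ← mul_assoc, hUM, g.apply_symm_apply, mul_assoc, Units.mul_inv, mul_one]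
    have hUw : ι Qt (w, 0) * (U : CliffordAlgebra Qt) = U * ι Qt (g.symm w, 0) := by
      rw [hUM, g.apply_symm_apply]
    have key : ι Qt (w, 0) * h' + h' * ι Qt (w, 0) = algebraMap R _ (k0 (g.symm w)) := by
      simp only [h']
      rw [← mul_assoc, ← mul_assoc, hUw, mul_assoc _ (↑U⁻¹ : CliffordAlgebra Qt), hUinv, ← mul_assoc, ← add_mul,
        mul_assoc (U : CliffordAlgebra Qt), mul_assoc (U : CliffordAlgebra Qt), ← mul_add, ι_mul_ι_add_swap, hpol,
        ← Algebra.commutes, mul_assoc, Units.mul_inv, mul_one]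
      simp
    rw [polar_contract, involute_eq_of_mem_odd hZ1, neg_mul, sub_neg_eq_add, mul_sub, sub_mul, sub_add_sub_comm, key,
      ι_mul_ι_add_swap, polar_comm (⇑Qt) _ Y, show polar Qt Y (w, 0) = _ from LinearMap.congr_fun hY (w, 0), sub_eq_zero]
    simp
  let kf : Module.Dual R (M × R) := k0.comp (LinearMap.fst R M R)
  have hkf : kf f = 1 := by simp [kf, f, hk0]
  have hdi : ∀ d : Module.Dual R (M × R), contractLeft d Z = d f • contractLeft kf Z := by
    intro d
    obtain ⟨p, hp⟩ := hreg.2 (d - d f • kf)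
    have hp0 : polar Qt p f = 0 := by
      rw [← polarBilin_apply_apply, hp, LinearMap.sub_apply, LinearMap.smul_apply, hkf, smul_eq_mul, mul_one, sub_self]
    obtain ⟨x, t⟩ := p
    have ht : t = 0 := by
      have h1 : polar Qt f (x, t) = polar Qt f (x, 0) + t * polar Qt f (0, 1) := by
        rw [← smul_eq_mul, ← polar_smul_right, ← polar_add_right]
        simp
      rw [polar_comm, h1, hfM, zero_add, hpol] at hp0
      simpa [f, hk0] using hp0
    subst ht
    have h := hZd x
    rw [hp, map_sub (contractLeft (Q := Qt)), map_smul (contractLeft (Q := Qt)), LinearMap.sub_apply, LinearMap.smul_apply, sub_eq_zero] at h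
    exact h
  obtain ⟨r, hr⟩ := eq_algebraMap_of_contract bt Qt (x := contractLeft kf Z) fun i ↦ by
    rw [contractLeft_comm, hdi, map_smul, contractLeft_contractLeft, smul_zero, neg_zero]
  have hW : Z = r • ι Qt f := by
    obtain ⟨r', hr'⟩ := eq_algebraMap_of_contract bt Qt (x := Z - r • ι Qt f) fun i ↦ by
      rw [map_sub, map_smul, contractLeft_ι, hdi, ← hr, Algebra.smul_def, Algebra.smul_def, ← map_mul, ← map_mul,
        mul_comm, sub_self]
    exact sub_eq_zero.1 (eq_zero_of_mem_both (hr' ▸ SetLike.algebraMap_mem_graded _ _)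
      (sub_mem hZ1 (Submodule.smul_mem _ _ (ι_mem_evenOdd_one _ _))))
  have hh : h' = ι Qt (Y + r • f) := by rw [map_add, map_smul, ← hW, add_sub_cancel]
  let G : (M × R) →ₗ[R] (M × R) :=
    (LinearMap.inl R M R).comp ((g : M →ₗ[R] M).comp (LinearMap.fst R M R)) + (LinearMap.snd R M R).smulRight (Y + r • f)
  have hG0 : ∀ x, G (x, 0) = (g x, 0) := fun x ↦ by simp [G]
  have hG1 : G (0, 1) = Y + r • f := by simp [G]
  have hconj : ∀ p, (U : CliffordAlgebra Qt) * ι Qt p = ι Qt (G p) * U := by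
    rintro ⟨x, t⟩
    rw [show ((x, t) : M × R) = (x, 0) + t • (0, 1) by simp]
    have e1 : (U : CliffordAlgebra Qt) * ι Qt (0, 1) = ι Qt (Y + r • f) * U := by
      rw [← hh]
      simp only [h', mul_assoc, Units.inv_mul, mul_one]
    rw [map_add G, map_smul G, hG0, hG1, map_add (ι Qt), map_smul (ι Qt), map_add (ι Qt) (g x, 0), map_smul (ι Qt) t,
      mul_add, add_mul, hUM, mul_smul_comm, smul_mul_assoc, e1]
  have hGiso : ∀ p, Qt (G p) = Qt p := fun p ↦ algebraMap_inj bt Qt (U.isUnit.mul_right_cancel (by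
    rw [← ι_sq_scalar, mul_assoc, ← hconj, ← mul_assoc, ← hconj, mul_assoc, ι_sq_scalar, Algebra.commutes]))
  haveI := Module.Free.of_basis bt
  haveI := Module.Finite.of_basis bt
  let Ge := LinearMap.equivOfIsUnitDet (IsUnit.of_mul_eq_one _ (det_sq_of_isUnit Qt bt (isUnit_det_polarMat _ hreg) G hGiso))
  have hGe : ∀ p, Ge p = G p := fun p ↦ LinearMap.equivOfIsUnitDet_apply ..
  have hdet := det_of_isLocalRing bt heven hreg Ge (fun p ↦ by rw [hGe]; exact hGiso p) U hU
    (fun p ↦ by rw [hGe]; exact hconj p)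
  rw [show (Ge : (M × R) →ₗ[R] (M × R)) = G from LinearMap.ext hGe, sgn, if_pos rfl] at hdet
  have hGf : G f = f := ι_inj bt Qt (U.isUnit.mul_right_cancel (by rw [← hconj, hfU]))
  have hlast : (G (0, 1)).2 = 1 := by
    have h1 : polar Qt f (G (0, 1)) = polar Qt f (0, 1) := by
      conv_lhs => rw [← hGf]
      exact polar_map hGiso _ _
    have h2 : ∀ x t, polar Qt f (x, t) = t := fun x t ↦ by
      have := hfM x
      rw [hpol] at this ⊢
      simp only [f, hk0] at this ⊢
      linear_combination this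
    rw [show G (0, 1) = ((G (0, 1)).1, (G (0, 1)).2) from rfl, h2, h2] at h1
    exact h1
  rw [← LinearMap.det_toMatrix (S.bas.prod (Module.Basis.singleton (Fin 1) R)) G,
    show LinearMap.toMatrix (S.bas.prod (Module.Basis.singleton (Fin 1) R)) (S.bas.prod (Module.Basis.singleton (Fin 1) R)) G =
      Matrix.fromBlocks (LinearMap.toMatrix S.bas S.bas g) (Matrix.of fun i _ ↦ S.bas.repr (G (0, 1)).1 i) 0 1 from ?_,
    Matrix.det_fromBlocks_zero₂₁, Matrix.det_one, mul_one, LinearMap.det_toMatrix] at hdet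
  · exact hdet
  ext (i | i) (j | j)
  · simp [LinearMap.toMatrix_apply, hG0]
  · simp [LinearMap.toMatrix_apply]
  · simp [LinearMap.toMatrix_apply, hG0]
  · simp [LinearMap.toMatrix_apply, hlast, Subsingleton.elim i 0, Subsingleton.elim j 0]

end OddSplit

end Groth.Agent.QuadH13
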