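import Groth.Agent.Lib.QuadH13.Minors
import Mathlib.LinearAlgebra.Matrix.NonsingularInverse
import Mathlib.RingTheory.LocalRing.ResidueField.Basic

/-!
Lifting isometries along square-zero ideals.
-/

universe u v

open QuadraticMap Matrix

namespace Groth.Agent.QuadH13

variable {A : Type u} [CommRing A] {n : ℕ}

theorem det_one_add_of_sq_zero {I : Ideal A} (hI : ∀ x ∈ I, ∀ y ∈ I, x * y = 0) (Y : Matrix (Fin n) (Fin n) A)
    (hY : ∀ i j, Y i j ∈ I) : (1 + Y).det = 1 + Y.trace := by
  rw [Matrix.det_apply', Finset.sum_eq_single (1 : Equiv.Perm (Fin n))]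
  · rw [Equiv.Perm.sign_one, Units.val_one, Int.cast_one, one_mul, Matrix.trace]
    have key : ∀ s : Finset (Fin n), ∏ i ∈ s, (1 + Y i i) = 1 + ∑ i ∈ s, Y i i := by
      intro s
      induction s using Finset.induction_on with
      | empty => simp
      | insert a s ha ih =>
        rw [Finset.prod_insert ha, Finset.sum_insert ha, ih]
        linear_combination hI _ (hY a a) _ (I.sum_mem fun i (_ : i ∈ s) ↦ hY i i)
    simpa [Matrix.one_apply] using key Finset.univ
  · intro σ _ hσ
    obtain ⟨i, hi⟩ : ∃ i, σ i ≠ i := by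
      by_contra h; push Not at h; exact hσ (Equiv.ext h)
    have hj : σ (σ i) ≠ σ i := fun h ↦ hi (σ.injective h)
    have : ∏ l, (1 + Y) (σ l) l = 0 := by
      rw [← Finset.mul_prod_erase _ _ (Finset.mem_univ i),
        ← Finset.mul_prod_erase _ _ (Finset.mem_erase.2 ⟨hi, Finset.mem_univ _⟩), ← mul_assoc,
        Matrix.add_apply, Matrix.add_apply, Matrix.one_apply_ne hi, Matrix.one_apply_ne hj, zero_add, zero_add,
        hI _ (hY _ _) _ (hY _ _), zero_mul]
    rw [this, mul_zero]
  · intro h; exact absurd (Finset.mem_univ _) h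

variable {V : Type v} [AddCommGroup V] [Module A V]

theorem ext_of_coeffs (b : Module.Basis (Fin n) A V) {Q Q' : QuadraticForm A V}
    (h : QuadGrp.coeffs b (LinearEquiv.refl A A) Q = QuadGrp.coeffs b (LinearEquiv.refl A A) Q') : Q = Q' :=
  QuadraticMap.ext fun x ↦ by rw [← b.sum_repr x, apply_eq_triSum, apply_eq_triSum, h]

variable (Q : QuadraticForm A V) (b : Module.Basis (Fin n) A V) {I : Ideal A}

/-- The coefficients after a first order correction `Y`. -/
theorem coeffs_comp_one_add (hI : ∀ x ∈ I, ∀ y ∈ I, x * y = 0) (Q₁ : QuadraticForm A V)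
    (h₁ : ∀ v, Q₁ v - Q v ∈ I) (Y : Matrix (Fin n) (Fin n) A) (hY : ∀ i j, Y i j ∈ I) (i j : Fin n) :
    QuadGrp.coeffs b (LinearEquiv.refl A A) (Q₁.comp (LinearMap.id + Matrix.toLin b b Y)) s(i, j) =
      QuadGrp.coeffs b (LinearEquiv.refl A A) Q₁ s(i, j) +
        if i = j then (polarMat b Q * Y) i j else (polarMat b Q * Y) i j + (polarMat b Q * Y) j i := by
  let L := Matrix.toLin b b Y
  have hL : ∀ l, L (b l) = ∑ k, Y k l • b k := fun l ↦ Matrix.toLin_self b b Y l
  have hp : ∀ v w, polar Q₁ v w - polar Q v w ∈ I := fun v w ↦ by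
    simp only [polar]
    convert I.sub_mem (I.sub_mem (h₁ (v + w)) (h₁ v)) (h₁ w) using 1
    ring
  have hB : ∀ l m, polar Q₁ (b l) (L (b m)) = (polarMat b Q * Y) l m := by
    intro l m
    rw [hL, ← polarBilin_apply_apply, map_sum, Matrix.mul_apply]
    refine Finset.sum_congr rfl fun k _ ↦ ?_
    rw [map_smul, polarBilin_apply_apply, polarMat_apply, smul_eq_mul]
    linear_combination hI _ (hY k m) _ (hp (b l) (b k))
  have hLL : ∀ l, Q₁ (L (b l)) = 0 := by
    intro l
    rw [hL, apply_eq_triSum, triSum]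
    refine Finset.sum_eq_zero fun k _ ↦ Finset.sum_eq_zero fun k' _ ↦ ?_
    split_ifs
    · rw [hI _ (hY k l) _ (hY k' l), mul_zero]
    · rfl
  have hLL2 : ∀ l m, polar Q₁ (L (b l)) (L (b m)) = 0 := by
    intro l m
    rw [hL, hL, ← polarBilin_apply_apply, LinearMap.map_sum₂]
    refine Finset.sum_eq_zero fun k _ ↦ ?_
    rw [map_sum]
    refine Finset.sum_eq_zero fun k' _ ↦ ?_
    rw [LinearMap.map_smul₂, map_smul, smul_eq_mul, smul_eq_mul, ← mul_assoc, hI _ (hY k l) _ (hY k' m), zero_mul]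
  simp only [QuadGrp.coeffs_mk, LinearEquiv.refl_apply, QuadraticMap.comp_apply, LinearMap.add_apply,
    LinearMap.id_apply]
  split_ifs with h
  · subst h
    rw [QuadraticMap.map_add Q₁, hLL, hB, add_zero]
  · simp only [polar, QuadraticMap.comp_apply, LinearMap.add_apply, LinearMap.id_apply, map_add]
    have e1 : polar Q₁ (b i + L (b i)) (b j + L (b j)) =
        polar Q₁ (b i) (b j) + ((polarMat b Q * Y) i j + (polarMat b Q * Y) j i) := by
      rw [polar_add_left, polar_add_right, polar_add_right, hB, hLL2, polar_comm (⇑Q₁) (L (b i)) (b j), hB]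
      ring
    simpa only [polar, add_add_add_comm] using e1

theorem toLin_mem_smul {Y : Matrix (Fin n) (Fin n) A} (hY : ∀ i j, Y i j ∈ I) (v : V) :
    Matrix.toLin b b Y v ∈ I • (⊤ : Submodule A V) := by
  rw [Matrix.toLin_apply]
  exact Submodule.sum_mem _ fun k _ ↦ Submodule.smul_mem_smul
    (show ∑ l, Y k l * b.repr v l ∈ I from I.sum_mem fun l _ ↦ I.mul_mem_right _ (hY k l)) Submodule.mem_top

theorem inv_mul_mem {W β : Matrix (Fin n) (Fin n) A} (hβ : ∀ i j, β i j ∈ I) (i j : Fin n) :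
    (W⁻¹ * β) i j ∈ I := by
  rw [Matrix.mul_apply]; exact I.sum_mem fun k _ ↦ I.mul_mem_left _ (hβ k j)

theorem sub_mem_coeffs {g : V →ₗ[A] V} (hg : ∀ v, Q (g v) - Q v ∈ I) (s : Sym2 (Fin n)) :
    QuadGrp.coeffs b (LinearEquiv.refl A A) Q s - QuadGrp.coeffs b (LinearEquiv.refl A A) (Q.comp g) s ∈ I := by
  induction s using Sym2.ind with
  | _ i j =>
    simp only [QuadGrp.coeffs_mk, LinearEquiv.refl_apply, QuadraticMap.comp_apply]
    split_ifs
    · rw [← neg_sub]; exact I.neg_mem (hg _)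
    · simp only [polar, QuadraticMap.comp_apply]
      convert I.neg_mem (I.sub_mem (I.sub_mem (hg (b i + b j)) (hg (b i))) (hg (b j))) using 1
      ring

/-- Regular polar form: isometries lift. -/
theorem exists_lift_of_isUnit (hI : ∀ x ∈ I, ∀ y ∈ I, x * y = 0) (hP : IsUnit (polarMat b Q).det)
    (g : V →ₗ[A] V) (hg : ∀ v, Q (g v) - Q v ∈ I) :
    ∃ g' : V →ₗ[A] V, (∀ v, Q (g' v) = Q v) ∧ ∀ v, g' v - g v ∈ I • (⊤ : Submodule A V) := by
  classical
  let e : Sym2 (Fin n) → A := fun s ↦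
    QuadGrp.coeffs b (LinearEquiv.refl A A) Q s - QuadGrp.coeffs b (LinearEquiv.refl A A) (Q.comp g) s
  let β : Matrix (Fin n) (Fin n) A := Matrix.of fun i j ↦ if i ≤ j then e s(i, j) else 0
  have hβ : ∀ i j, β i j ∈ I := fun i j ↦ by
    simp only [β, Matrix.of_apply]; split_ifs
    · exact sub_mem_coeffs Q b hg _
    · exact I.zero_mem
  let Y := (polarMat b Q)⁻¹ * β
  have hPY : polarMat b Q * Y = β := Matrix.mul_nonsing_inv_cancel_left _ _ hP
  refine ⟨g ∘ₗ (LinearMap.id + Matrix.toLin b b Y), fun v ↦ ?_, fun v ↦ ?_⟩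
  · have : Q.comp (g ∘ₗ (LinearMap.id + Matrix.toLin b b Y)) = Q := by
      rw [show Q.comp (g ∘ₗ (LinearMap.id + Matrix.toLin b b Y)) =
        (Q.comp g).comp (LinearMap.id + Matrix.toLin b b Y) from QuadraticMap.ext fun _ ↦ rfl]
      refine ext_of_coeffs b (funext fun s ↦ ?_)
      induction s using Sym2.ind with
      | _ i j =>
        rw [coeffs_comp_one_add Q b hI (Q.comp g) hg Y (inv_mul_mem hβ) i j, hPY]
        simp only [β, Matrix.of_apply, e]
        rcases lt_trichotomy i j with h | h | h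
        · simp [h.ne, h.le, h.not_ge]
        · subst h; simp
        · simp [h.ne', h.le, h.not_ge, Sym2.eq_swap]
    exact QuadraticMap.congr_fun this v
  · simp only [LinearMap.comp_apply, LinearMap.add_apply, LinearMap.id_apply, map_add, add_sub_cancel_left]
    exact Submodule.smul_induction_on (toLin_mem_smul b (inv_mul_mem hβ) v)
      (fun r hr m _ ↦ by rw [map_smul]; exact Submodule.smul_mem_smul hr Submodule.mem_top)
      (fun x y hx hy ↦ by rw [map_add]; exact add_mem hx hy)

/-- The quadratic form with given coefficients. -/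
noncomputable def ofCoeffs (a : Sym2 (Fin n) → A) : QuadraticForm A (Fin n → A) :=
  LinearMap.BilinMap.toQuadraticMap (Matrix.toBilin' (Matrix.of fun i j ↦ if i ≤ j then a s(i, j) else 0))

theorem coeffs_ofCoeffs (a : Sym2 (Fin n) → A) :
    QuadGrp.coeffs (Pi.basisFun A (Fin n)) (LinearEquiv.refl A A) (ofCoeffs a) = a := by
  funext s
  induction s using Sym2.ind with
  | _ i j =>
    rw [QuadGrp.coeffs_mk]
    simp only [ofCoeffs, Pi.basisFun_apply, LinearEquiv.refl_apply, polar, LinearMap.BilinMap.toQuadraticMap_apply,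
      map_add, LinearMap.add_apply, Matrix.toBilin'_single, Matrix.of_apply]
    rcases lt_trichotomy i j with h | h | h
    · simp [h.ne, h.le, h.not_ge]
    · subst h; simp
    · simp [h.ne', h.le, h.not_ge, Sym2.eq_swap]; ring

theorem polarMat_eq_coeffs (i j : Fin n) :
    polarMat b Q i j = if i = j then 2 * QuadGrp.coeffs b (LinearEquiv.refl A A) Q s(i, j)
      else QuadGrp.coeffs b (LinearEquiv.refl A A) Q s(i, j) := by
  rw [polarMat_apply, QuadGrp.coeffs_mk]
  split_ifs with h
  · subst h; rw [LinearEquiv.refl_apply, polar_self, two_smul, two_mul]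
  · rfl

theorem halfDisc_eq_mul (hn : Odd n) (i₀ : Fin n) (hoff : ∀ j, j ≠ i₀ → polar Q (b i₀) (b j) = 0) :
    QuadGrp.halfDisc b (LinearEquiv.refl A A) Q =
      Q (b i₀) * ((polarMat b Q).updateRow i₀ (Pi.single i₀ 1)).det := by
  classical
  let aU : Sym2 (Fin n) → MvPolynomial (Sym2 (Fin n)) ℤ := fun s ↦
    if i₀ ∈ s ∧ ¬ s.IsDiag then 0 else MvPolynomial.X s
  let bU := Pi.basisFun (MvPolynomial (Sym2 (Fin n)) ℤ) (Fin n)
  let ψ : MvPolynomial (Sym2 (Fin n)) ℤ →+* A :=
    MvPolynomial.eval₂Hom (Int.castRingHom A) (QuadGrp.coeffs b (LinearEquiv.refl A A) Q)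
  have hc : QuadGrp.coeffs b (LinearEquiv.refl A A) Q =
      ψ ∘ QuadGrp.coeffs bU (LinearEquiv.refl _ _) (ofCoeffs aU) := by
    rw [coeffs_ofCoeffs]
    funext s
    simp only [Function.comp_apply, aU]
    split_ifs with h
    · rw [map_zero]
      induction s using Sym2.ind with
      | _ i j =>
        obtain ⟨h1, h2⟩ := h
        rw [Sym2.mk_isDiag_iff] at h2
        rw [QuadGrp.coeffs_mk, if_neg h2, LinearEquiv.refl_apply]
        rcases Sym2.mem_iff.1 h1 with rfl | rfl
        · exact hoff j (Ne.symm h2)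
        · rw [polar_comm]; exact hoff i h2
    · exact (MvPolynomial.eval₂Hom_X' _ _ s).symm
  have hP : (polarMat b Q).updateRow i₀ (Pi.single i₀ 1) =
      ψ.mapMatrix ((polarMat bU (ofCoeffs aU)).updateRow i₀ (Pi.single i₀ 1)) := by
    ext i j
    rw [RingHom.mapMatrix_apply, Matrix.map_apply, Matrix.updateRow_apply, Matrix.updateRow_apply, apply_ite ψ]
    split_ifs
    · simp [Pi.single_apply, apply_ite ψ]
    · rw [polarMat_eq_coeffs, polarMat_eq_coeffs, hc]
      split_ifs <;> simp [map_mul, map_ofNat]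
  have key : QuadGrp.halfDisc bU (LinearEquiv.refl _ _) (ofCoeffs aU) =
      aU s(i₀, i₀) * ((polarMat bU (ofCoeffs aU)).updateRow i₀ (Pi.single i₀ 1)).det := by
    refine mul_left_cancel₀ (two_ne_zero (α := MvPolynomial (Sym2 (Fin n)) ℤ)) ?_
    rw [two_mul_halfDisc hn, ← mul_assoc, ← Matrix.det_updateRow_smul]
    congr 1
    ext i j
    rw [Matrix.updateRow_apply]
    split_ifs with h
    · subst h
      rw [polarMat_eq_coeffs, coeffs_ofCoeffs, Pi.smul_apply, Pi.single_apply]
      by_cases hij : i = j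
      · subst hij; simp
      · simp [hij, Ne.symm hij, aU]
    · rfl
  rw [map_halfDisc ψ b Q bU (ofCoeffs aU) hc, key, map_mul, RingHom.map_det, ← hP]
  congr 1
  simp [aU, ψ, QuadGrp.coeffs_mk]

theorem coeffs_map (g : V ≃ₗ[A] V) :
    QuadGrp.coeffs (b.map g) (LinearEquiv.refl A A) Q =
      QuadGrp.coeffs b (LinearEquiv.refl A A) (Q.comp g.toLinearMap) := by
  funext s
  induction s using Sym2.ind with
  | _ i j => simp [QuadGrp.coeffs_mk, Module.Basis.map_apply, polar, map_add]

theorem halfDisc_map (hn : Odd n) (g : V ≃ₗ[A] V) :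
    QuadGrp.halfDisc (b.map g) (LinearEquiv.refl A A) Q =
      LinearMap.det g.toLinearMap ^ 2 * QuadGrp.halfDisc b (LinearEquiv.refl A A) Q := by
  rw [← halfDisc_comp hn b Q g.toLinearMap, QuadGrp.halfDisc, QuadGrp.halfDisc, coeffs_map]

/-- Over a field of characteristic two a semiregular form has a basis vector whose complement is regular. -/
theorem exists_index {K : Type u} [Field K] {W : Type v} [AddCommGroup W] [Module K W] (hn : Odd n)
    (b : Module.Basis (Fin n) K W) (Q : QuadraticForm K W) (h2 : (2 : K) = 0)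
    (hh : QuadGrp.halfDisc b (LinearEquiv.refl K K) Q ≠ 0) :
    ∃ i₀, ((polarMat b Q).updateRow i₀ (Pi.single i₀ 1)).det ≠ 0 := by
  classical
  have hd : (polarMat b Q).det = 0 := by rw [← two_mul_halfDisc hn, h2, zero_mul]
  obtain ⟨r, hr0, hr⟩ := Matrix.exists_mulVec_eq_zero_iff.2 hd
  obtain ⟨i₀, hi₀⟩ : ∃ i, r i ≠ 0 := Function.ne_iff.1 hr0
  refine ⟨i₀, fun hW ↦ ?_⟩
  obtain ⟨s, hs0, hs⟩ := Matrix.exists_mulVec_eq_zero_iff.2 hW
  have hsi : s i₀ = 0 := by
    simpa [Matrix.mulVec, Matrix.updateRow_self] using congrFun hs i₀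
  have hPs : ∀ i, i ≠ i₀ → ((polarMat b Q).mulVec s) i = 0 := fun i hi ↦ by
    have := congrFun hs i
    simpa [Matrix.mulVec, Matrix.updateRow_ne hi] using this
  let G : Matrix (Fin n) (Fin n) K := (1 : Matrix (Fin n) (Fin n) K).updateCol i₀ r
  have hG : G.det = r i₀ := by
    have hG' : G = Matrix.updateCol (1 : Matrix (Fin n) (Fin n) K) i₀ r := rfl
    rw [hG', ← Matrix.det_transpose, ← Matrix.updateRow_transpose, Matrix.transpose_one]
    have : r = ∑ i, r i • (1 : Matrix (Fin n) (Fin n) K) i := by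
      funext j; simp [Matrix.one_apply]
    conv_lhs => rw [this]
    rw [Matrix.det_updateRow_sum, Matrix.det_one, smul_eq_mul, mul_one]
  have hGu : IsUnit G.det := by rw [hG]; exact hi₀.isUnit
  haveI := Module.Free.of_basis b
  haveI := Module.Finite.of_basis b
  let g : W ≃ₗ[K] W := LinearEquiv.ofBijective (Matrix.toLin b b G) (by
    have hu : IsUnit (LinearMap.det (Matrix.toLin b b G)) := by rwa [LinearMap.det_toLin]
    rw [← LinearMap.coe_equivOfIsUnitDet hu]
    exact (LinearMap.equivOfIsUnitDet hu).bijective)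
  have hgb : ∀ l, g (b l) = if l = i₀ then ∑ i, r i • b i else b l := by
    intro l
    change Matrix.toLin b b G (b l) = _
    rw [Matrix.toLin_self]
    split_ifs with h
    · subst h; simp [G]
    · simp [G, Matrix.updateCol_ne h, Matrix.one_apply]
  have hPr : ∀ l, polar Q (∑ i, r i • b i) (b l) = 0 := by
    intro l
    have := congrFun hr l
    rw [Matrix.mulVec, dotProduct, Pi.zero_apply] at this
    rw [← polarBilin_apply_apply, LinearMap.map_sum₂, ← this]
    refine Finset.sum_congr rfl fun i _ ↦ ?_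
    rw [LinearMap.map_smul₂, polarBilin_apply_apply, polarMat_apply, polar_comm, smul_eq_mul, mul_comm]
  have hoff : ∀ j, j ≠ i₀ → polar Q ((b.map g) i₀) ((b.map g) j) = 0 := fun j hj ↦ by
    rw [Module.Basis.map_apply, Module.Basis.map_apply, hgb, hgb, if_pos rfl, if_neg hj, hPr]
  have hh' := halfDisc_eq_mul Q (b.map g) hn i₀ hoff
  have hzero : ((polarMat (b.map g) Q).updateRow i₀ (Pi.single i₀ 1)).det = 0 := by
    refine Matrix.exists_mulVec_eq_zero_iff.1 ⟨s, hs0, funext fun i ↦ ?_⟩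
    by_cases hi : i = i₀
    · subst hi; simp [Matrix.mulVec, Matrix.updateRow_self, hsi]
    · simp only [Matrix.mulVec, Matrix.updateRow_ne hi, dotProduct, Pi.zero_apply]
      rw [← hPs i hi, Matrix.mulVec, dotProduct]
      refine Finset.sum_congr rfl fun j _ ↦ ?_
      by_cases hj : j = i₀
      · subst hj; rw [hsi, mul_zero, mul_zero]
      · rw [polarMat_apply, polarMat_apply, Module.Basis.map_apply, Module.Basis.map_apply, hgb, hgb, if_neg hi,
          if_neg hj]
  rw [hzero, mul_zero, halfDisc_map Q b hn] at hh'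
  have hdg : LinearMap.det g.toLinearMap ≠ 0 := by
    have : LinearMap.det g.toLinearMap = G.det := LinearMap.det_toLin b G
    rw [this, hG]; exact hi₀
  exact mul_ne_zero (pow_ne_zero 2 hdg) hh hh'

/-- Over a local ring where two is not a unit, a semiregular form splits off a line. -/
theorem exists_basis [IsLocalRing A] (hn : Odd n) (h2 : ¬ IsUnit (2 : A))
    (hh : QuadGrp.IsSemiregular b (LinearEquiv.refl A A) Q) :
    ∃ (c : Module.Basis (Fin n) A V) (i₀ : Fin n), (∀ j, j ≠ i₀ → polar Q (c i₀) (c j) = 0) ∧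
      QuadGrp.IsSemiregular c (LinearEquiv.refl A A) Q := by
  classical
  let φ := IsLocalRing.residue A
  let aK : Sym2 (Fin n) → IsLocalRing.ResidueField A := φ ∘ QuadGrp.coeffs b (LinearEquiv.refl A A) Q
  let bK := Pi.basisFun (IsLocalRing.ResidueField A) (Fin n)
  have hc : QuadGrp.coeffs bK (LinearEquiv.refl _ _) (ofCoeffs aK) = φ ∘ QuadGrp.coeffs b (LinearEquiv.refl A A) Q :=
    coeffs_ofCoeffs aK
  obtain ⟨i₀, hi₀⟩ := exists_index hn bK (ofCoeffs aK) (by
      rw [← map_ofNat φ 2]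
      exact IsLocalRing.residue_eq_zero_iff _ |>.2 ((IsLocalRing.mem_maximalIdeal _).2 h2))
    (by rw [map_halfDisc φ bK _ b Q hc]; exact (hh.map φ).ne_zero)
  let W := (polarMat b Q).updateRow i₀ (Pi.single i₀ 1)
  have hW : IsUnit W.det := by
    refine IsLocalRing.residue_ne_zero_iff_isUnit W.det |>.1 ?_
    change φ W.det ≠ 0
    rw [RingHom.map_det, show φ.mapMatrix W = (polarMat bK (ofCoeffs aK)).updateRow i₀ (Pi.single i₀ 1) from ?_]
    · exact hi₀
    ext i j
    rw [RingHom.mapMatrix_apply, Matrix.map_apply]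
    simp only [W, Matrix.updateRow_apply, apply_ite φ]
    split_ifs
    · simp [Pi.single_apply, apply_ite φ]
    · rw [polarMat_eq_coeffs, polarMat_eq_coeffs, hc]
      split_ifs <;> simp [map_mul, map_ofNat]
  let z := W⁻¹.mulVec (fun i ↦ if i = i₀ then 0 else polarMat b Q i i₀)
  have hz : W.mulVec z = fun i ↦ if i = i₀ then 0 else polarMat b Q i i₀ := by
    simp only [z, Matrix.mulVec_mulVec, Matrix.mul_nonsing_inv _ hW, Matrix.one_mulVec]
  have hz0 : z i₀ = 0 := by
    simpa [W, Matrix.mulVec, Matrix.updateRow_self] using congrFun hz i₀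
  let G : Matrix (Fin n) (Fin n) A := (1 : Matrix (Fin n) (Fin n) A).updateCol i₀ (Pi.single i₀ 1 - z)
  have hG : G.det = 1 := by
    have hG' : G = Matrix.updateCol (1 : Matrix (Fin n) (Fin n) A) i₀ (Pi.single i₀ 1 - z) := rfl
    rw [hG', ← Matrix.det_transpose, ← Matrix.updateRow_transpose, Matrix.transpose_one]
    have : Pi.single i₀ 1 - z = ∑ i, (Pi.single i₀ 1 - z : Fin n → A) i • (1 : Matrix (Fin n) (Fin n) A) i := by
      funext j; simp [Matrix.one_apply]
    conv_lhs => rw [this]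
    rw [Matrix.det_updateRow_sum, Matrix.det_one, smul_eq_mul, mul_one]
    simp [hz0]
  haveI := Module.Free.of_basis b
  haveI := Module.Finite.of_basis b
  let g : V ≃ₗ[A] V := LinearEquiv.ofBijective (Matrix.toLin b b G) (by
    have hu : IsUnit (LinearMap.det (Matrix.toLin b b G)) := by rw [LinearMap.det_toLin, hG]; exact isUnit_one
    rw [← LinearMap.coe_equivOfIsUnitDet hu]
    exact (LinearMap.equivOfIsUnitDet hu).bijective)
  have hgb : ∀ l, g (b l) = if l = i₀ then b i₀ - ∑ i, z i • b i else b l := by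
    intro l
    change Matrix.toLin b b G (b l) = _
    rw [Matrix.toLin_self]
    split_ifs with h
    · subst h; simp [G, sub_smul, Pi.single_apply]
    · simp [G, Matrix.updateCol_ne h, Matrix.one_apply]
  refine ⟨b.map g, i₀, fun j hj ↦ ?_, ?_⟩
  · rw [Module.Basis.map_apply, Module.Basis.map_apply, hgb, hgb, if_pos rfl, if_neg hj, polar_sub_left,
      ← polarBilin_apply_apply Q (∑ i, z i • b i), LinearMap.map_sum₂]
    have := congrFun hz j
    simp only [W, Matrix.mulVec, Matrix.updateRow_ne hj, dotProduct, if_neg hj] at this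
    rw [polar_comm, ← polarMat_apply, ← this, sub_eq_zero]
    refine Finset.sum_congr rfl fun i _ ↦ ?_
    rw [LinearMap.map_smul₂, polarBilin_apply_apply, polarMat_apply, polar_comm (⇑Q) (b j), smul_eq_mul, mul_comm]
  · rw [QuadGrp.IsSemiregular, halfDisc_map Q b hn]
    have : LinearMap.det g.toLinearMap = G.det := LinearMap.det_toLin b G
    rw [this, hG, one_pow, one_mul]
    exact hh

theorem exists_lift_of_split (hn : Odd n) (hI : ∀ x ∈ I, ∀ y ∈ I, x * y = 0) (i₀ : Fin n)
    (hoff : ∀ j, j ≠ i₀ → polar Q (b i₀) (b j) = 0) (hh : QuadGrp.IsSemiregular b (LinearEquiv.refl A A) Q)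
    (g : V →ₗ[A] V) (hg : ∀ v, Q (g v) - Q v ∈ I) (hdet : LinearMap.det g - 1 ∈ I) :
    ∃ g' : V →ₗ[A] V, (∀ v, Q (g' v) = Q v) ∧ LinearMap.det g' = 1 ∧
      ∀ v, g' v - g v ∈ I • (⊤ : Submodule A V) := by
  classical
  let W := (polarMat b Q).updateRow i₀ (Pi.single i₀ 1)
  have hsplit := halfDisc_eq_mul Q b hn i₀ hoff
  have hW : IsUnit W.det := (IsUnit.mul_iff.1 (hsplit ▸ hh : IsUnit (Q (b i₀) * W.det))).2
  let e : Sym2 (Fin n) → A := fun s ↦
    QuadGrp.coeffs b (LinearEquiv.refl A A) Q s - QuadGrp.coeffs b (LinearEquiv.refl A A) (Q.comp g) s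
  let β : Matrix (Fin n) (Fin n) A := Matrix.of fun i j ↦
    if i = i₀ then 0 else if j = i₀ then e s(i, j) else if i ≤ j then e s(i, j) else 0
  have hβ : ∀ i j, β i j ∈ I := fun i j ↦ by
    simp only [β, Matrix.of_apply]
    split_ifs <;> first | exact sub_mem_coeffs Q b hg _ | exact I.zero_mem
  let Y₀ := W⁻¹ * β
  have hWY : W * Y₀ = β := Matrix.mul_nonsing_inv_cancel_left _ _ hW
  have hrow : ∀ j, Y₀ i₀ j = 0 := fun j ↦ by
    have := congrFun (congrFun hWY i₀) j
    simpa [W, β, Matrix.mul_apply, Matrix.updateRow_self, Pi.single_apply] using this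
  let y := -(LinearMap.det g - 1) - Y₀.trace
  let Y := Y₀ + Matrix.single i₀ i₀ y
  have hy : y ∈ I := I.sub_mem (I.neg_mem hdet) (I.sum_mem fun i _ ↦ inv_mul_mem hβ i i)
  have hY : ∀ i j, Y i j ∈ I := fun i j ↦ I.add_mem (inv_mul_mem hβ i j) (by
    rw [Matrix.single_apply]; split_ifs
    · exact hy
    · exact I.zero_mem)
  let g' := g ∘ₗ (LinearMap.id + Matrix.toLin b b Y)
  have hd : LinearMap.det g' = 1 := by
    rw [LinearMap.det_comp, ← Matrix.toLin_one b, ← map_add, LinearMap.det_toLin,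
      det_one_add_of_sq_zero hI Y hY, show Y.trace = -(LinearMap.det g - 1) by simp [Y, y]]
    linear_combination -(hI _ hdet _ hdet)
  have hPY : ∀ i j, i ≠ i₀ → (polarMat b Q * Y) i j = β i j := by
    intro i j hi
    have h1 : (polarMat b Q * Y₀) i j = β i j := by
      rw [← hWY]
      simp [W, Matrix.mul_apply, Matrix.updateRow_ne hi]
    rw [Matrix.mul_add, Matrix.add_apply, h1]
    by_cases hj : j = i₀
    · subst hj
      rw [Matrix.mul_single_apply_same, polarMat_apply, polar_comm, hoff i hi, zero_mul, add_zero]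
    · rw [Matrix.mul_single_apply_of_ne _ _ _ _ _ hj, add_zero]
  have hPY0 : ∀ j, j ≠ i₀ → (polarMat b Q * Y) i₀ j = 0 := by
    intro j hj
    rw [Matrix.mul_add, Matrix.add_apply, Matrix.mul_single_apply_of_ne _ _ _ _ _ hj, add_zero, Matrix.mul_apply]
    refine Finset.sum_eq_zero fun k _ ↦ ?_
    by_cases hk : k = i₀
    · subst hk; rw [hrow, mul_zero]
    · rw [polarMat_apply, hoff k hk, zero_mul]
  have hco : ∀ s : Sym2 (Fin n), s ≠ s(i₀, i₀) → QuadGrp.coeffs b (LinearEquiv.refl A A) (Q.comp g') s =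
      QuadGrp.coeffs b (LinearEquiv.refl A A) Q s := by
    intro s hs
    induction s using Sym2.ind with
    | _ i j =>
      rw [show Q.comp g' = (Q.comp g).comp (LinearMap.id + Matrix.toLin b b Y) from QuadraticMap.ext fun _ ↦ rfl,
        coeffs_comp_one_add Q b hI (Q.comp g) hg Y hY i j]
      by_cases hi : i = i₀
      · subst hi
        have hj : j ≠ i := fun h ↦ hs (by rw [h])
        rw [if_neg (Ne.symm hj), hPY0 j hj, hPY j i hj]
        simp [β, e, hj, Sym2.eq_swap]
      · rw [hPY i j hi]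
        by_cases hj : j = i₀
        · subst hj
          rw [if_neg hi, hPY0 i hi]
          simp [β, e, hi]
        · rw [hPY j i hj]
          rcases lt_trichotomy i j with h | h | h
          · simp [β, e, hi, hj, h.ne, h.le, h.not_ge]
          · subst h; simp [β, e, hi]
          · simp [β, e, hi, hj, h.ne', h.le, h.not_ge, Sym2.eq_swap]
  have hoff' : ∀ j, j ≠ i₀ → polar (Q.comp g') (b i₀) (b j) = 0 := fun j hj ↦ by
    have := hco s(i₀, j) fun h ↦ hj (by simpa using h)
    rw [QuadGrp.coeffs_mk, QuadGrp.coeffs_mk, if_neg (Ne.symm hj), if_neg (Ne.symm hj)] at this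
    exact this.trans (hoff j hj)
  have hW' : (polarMat b (Q.comp g')).updateRow i₀ (Pi.single i₀ 1) = W := by
    ext i j
    simp only [W, Matrix.updateRow_apply]
    split_ifs with h
    · rfl
    · rw [polarMat_eq_coeffs, polarMat_eq_coeffs, hco]
      intro h'; rcases Sym2.eq_iff.1 h' with ⟨h1, -⟩ | ⟨h1, -⟩ <;> exact h h1
  have h00 : Q (g' (b i₀)) = Q (b i₀) := by
    have h1 := halfDisc_eq_mul (Q.comp g') b hn i₀ hoff'
    rw [halfDisc_comp hn, hd, one_pow, one_mul, hsplit, hW'] at h1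
    exact (hW.mul_left_injective h1).symm
  refine ⟨g', fun v ↦ QuadraticMap.congr_fun (show Q.comp g' = Q from ext_of_coeffs b (funext fun s ↦ ?_)) v, hd,
    fun v ↦ ?_⟩
  · by_cases hs : s = s(i₀, i₀)
    · subst hs; simpa [QuadGrp.coeffs_mk] using h00
    · exact hco s hs
  · simp only [g', LinearMap.comp_apply, LinearMap.add_apply, LinearMap.id_apply, map_add, add_sub_cancel_left]
    exact Submodule.smul_induction_on (toLin_mem_smul b hY v)
      (fun r hr m _ ↦ by rw [map_smul]; exact Submodule.smul_mem_smul hr Submodule.mem_top)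
      (fun x y hx hy ↦ by rw [map_add]; exact add_mem hx hy)

theorem det_sq_of_isUnit (hP : IsUnit (polarMat b Q).det) (g : V →ₗ[A] V) (hg : ∀ v, Q (g v) = Q v) :
    LinearMap.det g * LinearMap.det g = 1 := by
  have h := congrArg Matrix.det (polarMat_comp b Q g)
  rw [show Q.comp g = Q from QuadraticMap.ext hg, Matrix.det_mul, Matrix.det_mul, Matrix.det_transpose,
    LinearMap.det_toMatrix] at h
  exact hP.mul_eq_right.1 (by linear_combination -h)

theorem sub_mem_of_mem_smul_top {v : V} (hv : v ∈ I • (⊤ : Submodule A V)) (i : Fin n) : b.repr v i ∈ I :=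
  Submodule.smul_induction_on hv (fun r hr m _ ↦ by simpa using I.mul_mem_right _ hr)
    (fun x y hx hy ↦ by simpa using I.add_mem hx hy)

theorem det_sub_mem (b : Module.Basis (Fin n) A V) {g g' : V →ₗ[A] V} (hgg : ∀ v, g' v - g v ∈ I • (⊤ : Submodule A V)) :
    LinearMap.det g' - LinearMap.det g ∈ I := by
  rw [← LinearMap.det_toMatrix b g', ← LinearMap.det_toMatrix b g, ← Ideal.Quotient.eq, RingHom.map_det,
    RingHom.map_det]
  congr 1
  ext i j
  simp only [RingHom.mapMatrix_apply, Matrix.map_apply, LinearMap.toMatrix_apply, Ideal.Quotient.eq]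
  simpa using sub_mem_of_mem_smul_top b (hgg (b j)) i

theorem exists_lift_det [IsLocalRing A] (hItop : I ≠ ⊤) (hI : ∀ x ∈ I, ∀ y ∈ I, x * y = 0)
    (hP : IsUnit (2 : A) → IsUnit (polarMat b Q).det)
    (hh : ¬ IsUnit (2 : A) → Odd n ∧ QuadGrp.IsSemiregular b (LinearEquiv.refl A A) Q)
    (g : V →ₗ[A] V) (hg : ∀ v, Q (g v) - Q v ∈ I) (hdet : LinearMap.det g - 1 ∈ I) :
    ∃ g' : V →ₗ[A] V, (∀ v, Q (g' v) = Q v) ∧ LinearMap.det g' = 1 ∧
      ∀ v, g' v - g v ∈ I • (⊤ : Submodule A V) := by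
  by_cases h2 : IsUnit (2 : A)
  · obtain ⟨g', hg', hgg⟩ := exists_lift_of_isUnit Q b hI (hP h2) g hg
    refine ⟨g', hg', ?_, hgg⟩
    have hsq := det_sq_of_isUnit Q b (hP h2) g' hg'
    have hd1 : LinearMap.det g' - 1 ∈ I := by
      convert I.add_mem (det_sub_mem b hgg) hdet using 1; ring
    have hne : IsUnit (LinearMap.det g' + 1) := by
      by_contra hnu
      refine (IsLocalRing.mem_maximalIdeal _).1 ?_ h2
      convert Ideal.sub_mem _ ((IsLocalRing.mem_maximalIdeal _).2 hnu) (IsLocalRing.le_maximalIdeal hItop hd1) using 1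
      ring
    have h0 : (LinearMap.det g' + 1) * (LinearMap.det g' - 1) = 0 := by linear_combination hsq
    exact sub_eq_zero.1 (hne.mul_right_eq_zero.1 h0)
  · obtain ⟨hn, hs⟩ := hh h2
    obtain ⟨c, i₀, hoff, hsc⟩ := exists_basis Q b hn h2 hs
    exact exists_lift_of_split Q c hn hI i₀ hoff hsc g hg hdet

end Groth.Agent.QuadH13
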