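import Groth.Agent.Lib.QuadH13.CartanD
import Groth.Agent.Lib.QuadH13.Centre
import Groth.Agent.Lib.QuadH13.Inner
import Groth.Agent.Lib.QuadH13.NondegField

/-!
The special orthogonal groups over an algebraically closed field are generated by pairs of reflections.
-/

universe u v

open QuadraticMap CliffordAlgebra

namespace Groth.Agent.QuadH13

set_option backward.isDefEq.respectTransparency.types false

/-- The group generated by products of two reflections. -/
noncomputable def pairGen {A : Type u} [CommRing A] {V : Type v} [AddCommGroup V] [Module A V] (Q : QuadraticForm A V) :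
    Subgroup (V ≃ₗ[A] V) :=
  Subgroup.closure (Set.image2 (· * ·) {g | ∃ (v : V) (c : Aˣ) (hc : Q v = c), g = refl' Q v c hc}
    {g | ∃ (v : V) (c : Aˣ) (hc : Q v = c), g = refl' Q v c hc})

variable {A : Type u} [CommRing A] {V : Type v} [AddCommGroup V] [Module A V] {Q : QuadraticForm A V}

theorem pairGen_le_SOeven : pairGen Q ≤ QuadGrp.SOeven Q := by
  refine (Subgroup.closure_le _).2 ?_
  rintro _ ⟨_, ⟨v, c, hc, rfl⟩, _, ⟨w, d, hd, rfl⟩, rfl⟩
  exact ⟨mul_mem (refl'_mem Q v c hc) (refl'_mem Q w d hd), map_refl'_mul Q v w c d hc hd _⟩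

/-- A reflection does not satisfy the Dickson condition. -/
theorem refl'_notMem_SOeven [IsLocalRing A] {n : ℕ} (b : Module.Basis (Fin n) A V) (hn : Even n)
    (hQ : QuadGrp.IsRegular Q) (v : V) (c : Aˣ) (hc : Q v = c) : refl' Q v c hc ∉ QuadGrp.SOeven Q := by
  rintro ⟨hg, hd⟩
  obtain ⟨ω, hω, hωv⟩ := exists_anticomm_unit b hn hQ
  have hu : IsUnit (ι Q v) :=
    ⟨⟨ι Q v, (↑c⁻¹ : A) • ι Q v,
      (by rw [mul_smul_comm, ι_sq_scalar, hc, Algebra.smul_def, ← map_mul, c.inv_mul, map_one]),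
      (by rw [smul_mul_assoc, ι_sq_scalar, hc, Algebra.smul_def, ← map_mul, c.inv_mul, map_one])⟩, rfl⟩
  let u : (CliffordAlgebra Q)ˣ := hu.unit * ω
  have hodd : (u : CliffordAlgebra Q) ∈ evenOdd Q 1 := by
    rw [Units.val_mul, IsUnit.unit_spec]
    simpa using SetLike.mul_mem_graded (ι_mem_evenOdd_one Q v) hω
  have hrefl : ∀ y, ι Q (refl' Q v c hc y) * ι Q v = -(ι Q v * ι Q y) := by
    intro y
    rw [refl'_apply, map_sub, map_smul, sub_mul, smul_mul_assoc, ι_sq_scalar, hc, ι_mul_ι_comm y v, polar_comm (⇑Q) y v]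
    simp only [Algebra.algebraMap_eq_smul_one, smul_smul]
    rw [show (↑c⁻¹ : A) * polar Q v y * c = polar Q v y by linear_combination polar Q v y * c.inv_mul]
    abel
  have hconj : ∀ y, (u : CliffordAlgebra Q) * ι Q y = ι Q (refl' Q v c hc y) * u := fun y ↦ by
    rw [Units.val_mul, IsUnit.unit_spec, ← mul_assoc (ι Q (refl' Q v c hc y)), hrefl, mul_assoc,
      show (ω : CliffordAlgebra Q) * ι Q y = -(ι Q y * ω) by rw [hωv, neg_neg], mul_neg, neg_mul, mul_assoc]
  exact absurd ((isDicksonTrivial_iff b hn hQ _ hg 1 u hodd hconj).1 hd) (by decide)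

variable {K : Type u} [Field K] {W : Type v} [AddCommGroup W] [Module K W] {q : QuadraticForm K W}

theorem reflGen_top_eq : reflGen q ⊤ =
    Subgroup.closure {g | ∃ (v : W) (c : Kˣ) (hc : q v = c), g = refl' q v c hc} := by
  simp [reflGen]

theorem refl_sq (a : W ≃ₗ[K] W) (ha : a ∈ {g | ∃ (v : W) (c : Kˣ) (hc : q v = c), g = refl' q v c hc}) : a * a = 1 := by
  obtain ⟨v, c, hc, rfl⟩ := ha
  exact refl'_refl' q v c hc

theorem mem_pairGen_of_SOeven [IsAlgClosed K] {n : ℕ} (b : Module.Basis (Fin n) K W) (hn : Even n)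
    (hq : QuadGrp.IsRegular q) {g : W ≃ₗ[K] W} (hg : g ∈ QuadGrp.SOeven q) : g ∈ pairGen q := by
  haveI := Module.Finite.of_basis b
  have hmem := mem_reflGen q (fun w _ hz ↦ hq.1 (a₂ := 0) (by rw [map_zero]; exact LinearMap.ext hz)) hg.1
  rw [reflGen_top_eq] at hmem
  by_cases hr : ∃ (v : W) (c : Kˣ), q v = c
  · obtain ⟨v, c, hc⟩ := hr
    rcases mem_pairs_or _ refl_sq (r := refl' q v c hc) ⟨v, c, hc, rfl⟩ hmem with h | h
    · exact h
    · exfalso
      refine refl'_notMem_SOeven b hn hq v c hc ?_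
      have := (QuadGrp.SOeven q).mul_mem ((QuadGrp.SOeven q).inv_mem hg) (pairGen_le_SOeven h)
      rwa [inv_mul_cancel_left] at this
  · have : {g | ∃ (v : W) (c : Kˣ) (hc : q v = c), g = refl' q v c hc} = ∅ :=
      Set.eq_empty_iff_forall_notMem.2 fun x ⟨v, c, hc, _⟩ ↦ hr ⟨v, c, hc⟩
    rw [this, Subgroup.closure_empty, Subgroup.mem_bot] at hmem
    rw [hmem]; exact one_mem _

theorem det_pairGen [FiniteDimensional K W] {g : W ≃ₗ[K] W} (hg : g ∈ pairGen q) : LinearEquiv.det g = 1 := by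
  refine MonoidHom.mem_ker.1 ((Subgroup.closure_le _).2 ?_ hg)
  rintro _ ⟨_, ⟨v, c, hc, rfl⟩, _, ⟨w, d, hd, rfl⟩, rfl⟩
  rw [SetLike.mem_coe, MonoidHom.mem_ker, map_mul, det_refl', det_refl', neg_mul_neg, one_mul]

theorem mem_pairGen_of_det [IsAlgClosed K] (m : ℕ) (b : Module.Basis (Fin (2 * m + 1)) K W)
    (hq : QuadGrp.IsSemiregular b (LinearEquiv.refl K K) q) {g : W ≃ₗ[K] W} (hg : g ∈ QuadGrp.O q)
    (hdet : LinearEquiv.det g = 1) : g ∈ pairGen q := by
  haveI := Module.Finite.of_basis b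
  have hnd := nondeg_of_ne_zero m b q hq.ne_zero
  have hnd' : ∀ w, q w = 0 → (∀ z, polar q w z = 0) → w = 0 := fun w h1 h2 ↦
    (Submodule.eq_bot_iff _).1 hnd.radical_eq_bot _ ⟨h1, LinearMap.ext h2⟩
  have hmem := mem_reflGen q hnd' hg
  rw [reflGen_top_eq] at hmem
  by_cases h2 : (2 : K) = 0
  · -- the reflection in the radical is trivial
    have hd : (polarMat b q).det = 0 := by rw [← two_mul_halfDisc ⟨m, rfl⟩, h2, zero_mul]
    obtain ⟨r, hr0, hr⟩ := Matrix.exists_mulVec_eq_zero_iff.2 hd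
    let x := ∑ i, r i • b i
    have hx : ∀ z, polar q x z = 0 := fun z ↦ by
      have : polarBilin q x = 0 := b.ext fun l ↦ by
        have h' := congrFun hr l
        rw [Matrix.mulVec, dotProduct, Pi.zero_apply] at h'
        rw [LinearMap.map_sum₂, LinearMap.zero_apply, ← h']
        refine Finset.sum_congr rfl fun i _ ↦ ?_
        rw [LinearMap.map_smul₂, polarBilin_apply_apply, polarMat_apply, polar_comm, smul_eq_mul, mul_comm]
      exact LinearMap.congr_fun this z
    have hx0 : x ≠ 0 := fun h ↦ by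
      obtain ⟨i, hi⟩ := Function.ne_iff.1 hr0
      exact hi (Fintype.linearIndependent_iff.1 b.linearIndependent r h i)
    have hqx : q x ≠ 0 := fun h ↦ hx0 (hnd' x h hx)
    have hone : refl' q x (Units.mk0 _ hqx) rfl = 1 := LinearEquiv.ext fun y ↦ by
      rw [refl'_apply, hx, mul_zero, zero_smul, sub_zero]; rfl
    rcases mem_pairs_or _ refl_sq (r := refl' q x (Units.mk0 _ hqx) rfl) ⟨x, _, rfl, rfl⟩ hmem with h | h
    · exact h
    · rw [hone, mul_one] at h; exact h
  · obtain ⟨v, hv⟩ : ∃ v, q v ≠ 0 := by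
      by_contra h; push Not at h
      refine b.ne_zero 0 (hnd' _ (h _) fun z ↦ ?_)
      simp [polar, h]
    rcases mem_pairs_or _ refl_sq (r := refl' q v (Units.mk0 _ hv) rfl) ⟨v, _, rfl, rfl⟩ hmem with h | h
    · exact h
    · have := det_pairGen h
      rw [map_mul, hdet, det_refl', one_mul] at this
      have h' := congrArg Units.val this
      rw [Units.val_neg, Units.val_one] at h'
      exact absurd (show (2 : K) = 0 by linear_combination -h') h2

end Groth.Agent.QuadH13
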