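import Groth.Agent.Lib.QuadH13.DetParity

/-!
The reversal of an anticommuting element of the Clifford algebra of a regular form of rank `2m`.
-/

universe u v

open QuadraticMap CliffordAlgebra

namespace Groth.Agent.QuadH13

set_option backward.isDefEq.respectTransparency.types false

variable {R : Type u} [CommRing R] {n : ℕ} {M : Type v} [AddCommGroup M] [Module R M]
variable {Q : QuadraticForm R M}

theorem contract_mul_ι (d : Module.Dual R M) (z : CliffordAlgebra Q) (v : M) :
    contractLeft d (z * ι Q v) = contractLeft d z * ι Q v + d v • involute z := by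
  induction z using CliffordAlgebra.left_induction with
  | algebraMap r =>
    rw [contractLeft_algebraMap, AlgHom.commutes, zero_mul, zero_add, ← Algebra.smul_def, map_smul, contractLeft_ι,
      Algebra.smul_def, Algebra.smul_def, ← map_mul, ← map_mul, mul_comm]
  | add a c ha hc => rw [add_mul, map_add, ha, hc, map_add, map_add, add_mul, smul_add]; abel
  | ι_mul y m hy =>
    rw [mul_assoc, contractLeft_ι_mul, hy, contractLeft_ι_mul, map_mul, involute_ι, sub_mul, smul_mul_assoc, mul_add,
      mul_smul_comm, neg_mul, smul_neg, mul_assoc]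
    abel

theorem zero_comm (v : M) (z : CliffordAlgebra (0 : QuadraticForm R M)) : ι 0 v * z = involute z * ι 0 v := by
  have := polar_contract (Q := (0 : QuadraticForm R M)) v z
  rw [show polarBilin (0 : QuadraticForm R M) v = 0 from LinearMap.ext fun w ↦ by simp [polar], map_zero,
    LinearMap.zero_apply] at this
  exact sub_eq_zero.1 this.symm

theorem reverse_contract (d : Module.Dual R M) (z : CliffordAlgebra (0 : QuadraticForm R M)) :
    reverse (contractLeft d z) = -contractLeft d (involute (reverse z)) := by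
  induction z using CliffordAlgebra.left_induction with
  | algebraMap r => rw [contractLeft_algebraMap, map_zero, reverse.commutes, AlgHom.commutes, contractLeft_algebraMap, neg_zero]
  | add a c ha hc => simp only [map_add, ha, hc, neg_add]
  | ι_mul y m hy =>
    rw [contractLeft_ι_mul, map_sub, map_smul, reverse.map_mul, reverse.map_mul, reverse_ι, hy, map_mul, involute_ι,
      mul_neg, map_neg, contract_mul_ι, involute_involute]
    rw [neg_mul, neg_neg]
    abel

theorem reverse_ιMulti : ∀ (k : ℕ) (v : Fin k → M),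
    involute (ExteriorAlgebra.ιMulti R k v : CliffordAlgebra (0 : QuadraticForm R M)) =
        ((-1 : R) ^ k) • (ExteriorAlgebra.ιMulti R k v : CliffordAlgebra (0 : QuadraticForm R M)) ∧
      reverse (ExteriorAlgebra.ιMulti R k v : CliffordAlgebra (0 : QuadraticForm R M)) =
        ((-1 : R) ^ k.choose 2) • (ExteriorAlgebra.ιMulti R k v : CliffordAlgebra (0 : QuadraticForm R M)) := by
  intro k
  induction k with
  | zero =>
    intro v
    rw [ExteriorAlgebra.ιMulti_zero_apply]
    change involute (1 : CliffordAlgebra (0 : QuadraticForm R M)) = _ ∧ reverse (1 : CliffordAlgebra (0 : QuadraticForm R M)) = _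
    simp
  | succ k ih =>
    intro v
    obtain ⟨h1, h2⟩ := ih (Matrix.vecTail v)
    rw [ExteriorAlgebra.ιMulti_succ_apply]
    change involute (ι (0 : QuadraticForm R M) (v 0) * _) = (-1 : R) ^ (k + 1) • (ι (0 : QuadraticForm R M) (v 0) * _) ∧
      reverse (ι (0 : QuadraticForm R M) (v 0) * _) = (-1 : R) ^ (k + 1).choose 2 • (ι (0 : QuadraticForm R M) (v 0) * _)
    refine ⟨?_, ?_⟩
    · rw [map_mul, involute_ι, h1, mul_smul_comm, pow_succ, mul_smul, neg_mul, neg_one_smul]
    · rw [reverse.map_mul, reverse_ι, h2, Nat.choose_succ_succ' k 1, Nat.choose_one_right, pow_add, mul_comm, mul_smul,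
        smul_mul_assoc]
      congr 1
      have := zero_comm (v 0) (involute (ExteriorAlgebra.ιMulti R k (Matrix.vecTail v) : CliffordAlgebra (0 : QuadraticForm R M)))
      rw [involute_involute, h1, mul_smul_comm] at this
      exact this.symm

/-- With `2` invertible there is an anticommuting element with the reversal sign `(-1)^m`. -/
theorem exists_anticomm_rev (m : ℕ) (b : Module.Basis (Fin (2 * m)) R M) (h2 : IsUnit (2 : R)) :
    ∃ ω : CliffordAlgebra Q, (∀ v, ι Q v * ω = -(ω * ι Q v)) ∧ reverse ω = (-1 : R) ^ m • ω ∧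
      ∀ r : R, r • ω = 0 → r = 0 := by
  obtain ⟨t, ht⟩ := h2.exists_right_inv
  let T : LinearMap.BilinForm R M := -(t • polarBilin Q)
  have hT : T.toQuadraticMap = (0 : QuadraticForm R M) - Q := by
    ext w
    simp only [T, LinearMap.BilinMap.toQuadraticMap_apply, LinearMap.neg_apply, LinearMap.smul_apply,
      polarBilin_apply_apply, polar_self, smul_eq_mul, nsmul_eq_mul, Nat.cast_ofNat, _root_.sub_apply,
      _root_.zero_apply, _root_.neg_apply, zero_sub]
    linear_combination (-(Q w)) * ht
  let Ψ := changeFormEquiv hT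
  have hΨι : ∀ v x, Ψ (ι Q v * x) = ι 0 v * Ψ x + t • contractLeft (polarBilin Q v) (Ψ x) := by
    intro v x
    change changeForm hT (ι Q v * x) = _
    rw [changeForm_ι_mul]
    change ι 0 v * Ψ x - contractLeft (T v) (Ψ x) = _
    simp only [T, LinearMap.neg_apply, LinearMap.smul_apply, map_neg, map_smul, sub_neg_eq_add]
  have hΨd : ∀ d x, Ψ (contractLeft d x) = contractLeft d (Ψ x) := fun d x ↦ changeForm_contractLeft hT d x
  have hΨinv : ∀ x, Ψ (involute x) = involute (Ψ x) := by
    intro x
    induction x using CliffordAlgebra.left_induction with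
    | algebraMap r =>
      change changeForm hT _ = involute (changeForm hT _)
      rw [AlgHom.commutes, changeForm_algebraMap, AlgHom.commutes]
    | add a c ha hc => simp only [map_add, ha, hc]
    | ι_mul y v hy =>
      rw [map_mul, involute_ι, neg_mul, map_neg, hΨι, hy, hΨι, map_add, map_smul, map_mul, involute_ι]
      have hd : ∀ z : CliffordAlgebra (0 : QuadraticForm R M),
          involute (contractLeft (polarBilin Q v) z) = -contractLeft (polarBilin Q v) (involute z) := by
        intro z
        induction z using CliffordAlgebra.left_induction with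
        | algebraMap r => simp
        | add a c ha hc => simp only [map_add, ha, hc, neg_add]
        | ι_mul y w hw =>
          rw [contractLeft_ι_mul, map_sub, map_smul, map_mul, hw, map_mul, involute_ι]
          simp only [neg_mul, mul_neg, map_neg, contractLeft_ι_mul, neg_neg]
      rw [hd, smul_neg, neg_mul, neg_add]
  have hΨr : ∀ x v, Ψ (x * ι Q v) = Ψ x * ι 0 v - t • contractLeft (polarBilin Q v) (involute (Ψ x)) := by
    intro x v
    have h := polar_contract (Q := Q) v (involute x)
    rw [involute_involute] at h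
    rw [show x * ι Q v = ι Q v * involute x - contractLeft (polarBilin Q v) (involute x) by rw [h]; abel,
      map_sub, hΨι, hΨd, hΨinv, zero_comm, involute_involute]
    have : (2 : R) • (t • contractLeft (polarBilin Q v) (involute (Ψ x))) = contractLeft (polarBilin Q v) (involute (Ψ x)) := by
      rw [smul_smul, ht, one_smul]
    rw [two_smul] at this
    rw [← sub_eq_zero]
    linear_combination (norm := abel) this
  have hΨrev : ∀ x, Ψ (reverse x) = reverse (Ψ x) := by
    intro x
    induction x using CliffordAlgebra.left_induction with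
    | algebraMap r =>
      change changeForm hT _ = reverse (changeForm hT _)
      rw [reverse.commutes, changeForm_algebraMap, reverse.commutes]
    | add a c ha hc => simp only [map_add, ha, hc]
    | ι_mul y v hy =>
      rw [reverse.map_mul, reverse_ι, hΨr, hy, hΨι, map_add, map_smul, reverse.map_mul, reverse_ι, reverse_contract,
        smul_neg, sub_eq_add_neg]
  let top : CliffordAlgebra (0 : QuadraticForm R M) := ExteriorAlgebra.ιMulti R (2 * m) b
  obtain ⟨hinv, hrev⟩ := reverse_ιMulti (R := R) (2 * m) b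
  have hιtop : ∀ v, ι (0 : QuadraticForm R M) v * top = 0 := by
    intro v
    rw [← b.sum_repr v, map_sum, Finset.sum_mul]
    refine Finset.sum_eq_zero fun j _ ↦ ?_
    rw [map_smul, smul_mul_assoc]
    have : ExteriorAlgebra.ιMulti R (2 * m + 1) (Matrix.vecCons (b j) b) = 0 :=
      AlternatingMap.map_eq_zero_of_eq _ _ (i := 0) (j := j.succ) (by simp) (Fin.succ_ne_zero j).symm
    rw [ExteriorAlgebra.ιMulti_succ_apply, Matrix.cons_val_zero, Matrix.tail_cons] at this
    exact smul_eq_zero_of_right _ this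
  have hωΨ : Ψ (Ψ.symm top) = top := Ψ.apply_symm_apply top
  refine ⟨Ψ.symm top, fun v ↦ Ψ.injective ?_, Ψ.injective ?_, fun r hr ↦ ?_⟩
  · rw [map_neg, hΨι, hΨr, hωΨ, hιtop, zero_add]
    change _ = -(top * ι 0 v - t • contractLeft (polarBilin Q v) (involute top))
    have hinv' : involute top = top := by
      rw [show top = _ from rfl, hinv, (even_two_mul m).neg_one_pow, one_smul]
    have : top * ι (0 : QuadraticForm R M) v = 0 := by
      have h := zero_comm v top
      rw [hιtop, hinv'] at h
      exact h.symm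
    rw [hinv', this, zero_sub, neg_neg]
  · rw [map_smul, hΨrev, hωΨ, show top = _ from rfl, hrev, Nat.choose_two_right, mul_assoc,
      Nat.mul_div_cancel_left _ two_pos]
    congr 1
    rcases Nat.even_or_odd m with hm | hm
    · rw [hm.neg_one_pow, (hm.mul_right _).neg_one_pow]
    · rw [hm.neg_one_pow, Odd.neg_one_pow]
      refine hm.mul ?_
      obtain ⟨k, rfl⟩ := hm
      exact ⟨2 * k, by omega⟩
  · have h := congrArg Ψ hr
    rw [map_smul, hωΨ, map_zero] at h
    have := congrArg (ExteriorAlgebra.liftAlternating (R := R) (M := M) (N := R) (Pi.single (2 * m) b.det)) h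
    rw [map_smul, map_zero] at this
    change r • ExteriorAlgebra.liftAlternating (Pi.single (2 * m) b.det) (ExteriorAlgebra.ιMulti R (2 * m) b) = 0 at this
    rw [ExteriorAlgebra.liftAlternating_apply_ιMulti, Pi.single_eq_same, b.det_self, smul_eq_mul, mul_one] at this
    exact this

section Push

variable {A : Type*} [CommRing A] [Algebra R A] {V : Type*} [AddCommGroup V] [Module A V] [Module R V]
  [IsScalarTower R A V] {Q' : QuadraticForm A V} (f : M →ₗ[R] V) (hf : ∀ m, Q' (f m) = algebraMap R A (Q m))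

theorem cliffMap_reverse (x : CliffordAlgebra Q) :
    cliffMap Q Q' f hf (reverse x) = reverse (cliffMap Q Q' f hf x) := by
  induction x using CliffordAlgebra.induction with
  | algebraMap r => rw [reverse.commutes, AlgHom.commutes, IsScalarTower.algebraMap_apply R A, reverse.commutes]
  | ι v => rw [reverse_ι, cliffMap_ι, reverse_ι]
  | mul a c ha hc => rw [reverse.map_mul, map_mul, ha, hc, map_mul, reverse.map_mul]
  | add a c ha hc => simp only [map_add, ha, hc]

theorem anticomm_push {n : ℕ} (b : Module.Basis (Fin n) R M) (b' : Module.Basis (Fin n) A V) (hb : ∀ i, b' i = f (b i))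
    {x : CliffordAlgebra Q} (hx : ∀ v, ι Q v * x = -(x * ι Q v)) (v : V) :
    ι Q' v * cliffMap Q Q' f hf x = -(cliffMap Q Q' f hf x * ι Q' v) := by
  refine LinearMap.congr_fun (b'.ext fun i ↦ ?_ : (LinearMap.mulRight A (cliffMap Q Q' f hf x)).comp (ι Q') =
    -((LinearMap.mulLeft A (cliffMap Q Q' f hf x)).comp (ι Q'))) v
  simp only [LinearMap.comp_apply, LinearMap.mulLeft_apply, LinearMap.mulRight_apply, LinearMap.neg_apply]
  rw [hb, ← cliffMap_ι Q Q' f hf, ← map_mul, hx, map_neg, map_mul]

end Push

theorem exists_smul_of_anticomm (b : Module.Basis (Fin n) R M) (hn : Even n) (hQ : QuadGrp.IsRegular Q)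
    (ω : (CliffordAlgebra Q)ˣ) (hω : ∀ v, ι Q v * ω = -((ω : CliffordAlgebra Q) * ι Q v)) {x : CliffordAlgebra Q}
    (hx : ∀ v, ι Q v * x = -(x * ι Q v)) : ∃ c : R, c • (ω : CliffordAlgebra Q) = x := by
  obtain ⟨c, hc⟩ := exists_scalar_of_central b hn hQ (z := (↑ω⁻¹ : CliffordAlgebra Q) * x) fun v ↦ by
    have hi : ι Q v * (↑ω⁻¹ : CliffordAlgebra Q) = -((↑ω⁻¹ : CliffordAlgebra Q) * ι Q v) := by
      refine ω.isUnit.mul_left_cancel ?_
      rw [mul_neg, ← mul_assoc (ω : CliffordAlgebra Q) (↑ω⁻¹), Units.mul_inv, one_mul, ← mul_assoc,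
        show (ω : CliffordAlgebra Q) * ι Q v = -(ι Q v * ω) by rw [hω, neg_neg], neg_mul, mul_assoc, Units.mul_inv, mul_one]
    rw [← mul_assoc, hi, neg_mul, mul_assoc, hx, mul_neg, neg_neg, mul_assoc]
  exact ⟨c, by rw [Algebra.smul_def, Algebra.commutes, hc, ← mul_assoc, Units.mul_inv, one_mul]⟩

theorem reverse_anticomm_of_regular_two {R : Type u} [CommRing R] (m : ℕ) {Q : QuadraticForm R (Fin (2 * m) → R)}
    (hQ : QuadGrp.IsRegular Q) (h2 : IsSMulRegular R (2 : R)) (ω : (CliffordAlgebra Q)ˣ)
    (hω : ∀ v, ι Q v * ω = -((ω : CliffordAlgebra Q) * ι Q v)) :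
    reverse (ω : CliffordAlgebra Q) = (-1 : R) ^ m • (ω : CliffordAlgebra Q) := by
  let b := Pi.basisFun R (Fin (2 * m))
  have hrev : ∀ v, ι Q v * reverse (ω : CliffordAlgebra Q) = -(reverse (ω : CliffordAlgebra Q) * ι Q v) := fun v ↦ by
    have h := congrArg reverse (hω v)
    rw [map_neg, reverse.map_mul, reverse.map_mul, reverse_ι] at h
    rw [h, neg_neg]
  obtain ⟨s, hs⟩ := exists_smul_of_anticomm b (even_two_mul m) hQ ω hω hrev
  let A := Localization.Away (2 : R)
  let b' := b.baseChange A
  let f : (Fin (2 * m) → R) →ₗ[R] TensorProduct R A (Fin (2 * m) → R) := TensorProduct.mk R A (Fin (2 * m) → R) 1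
  let Q' := QuadGrp.baseChangeForm A Q
  have hf : ∀ w, Q' (f w) = algebraMap R A (Q w) := baseChangeForm_one_tmul A Q
  have hb : ∀ i, b' i = f (b i) := fun i ↦ Module.Basis.baseChange_apply ..
  obtain ⟨ω₀, h0, h1, h2'⟩ := exists_anticomm_rev (Q := Q') m b'
    (by simpa [map_ofNat] using IsLocalization.Away.algebraMap_isUnit (S := A) (2 : R))
  obtain ⟨c, hc⟩ := exists_smul_of_anticomm b' (even_two_mul m) (isRegular_push f hf b b' hb hQ)
    (Units.map (cliffMap Q Q' f hf).toRingHom.toMonoidHom ω) (anticomm_push f hf b b' hb hω) h0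
  change c • cliffMap Q Q' f hf ω = ω₀ at hc
  rw [← hc, map_smul, ← cliffMap_reverse, ← hs, map_smul, Algebra.smul_def s, IsScalarTower.algebraMap_apply R A,
    ← Algebra.smul_def, smul_comm c, hc, ← sub_eq_zero, ← sub_smul] at h1
  have h3 := sub_eq_zero.1 (h2' _ h1)
  rw [← map_one (algebraMap R A), ← map_neg, ← map_pow] at h3
  rw [← hs]
  congr 1
  refine IsLocalization.injective A (M := Submonoid.powers (2 : R)) (fun x hx ↦ ?_) h3
  obtain ⟨k, rfl⟩ := hx
  exact pow_mem (mem_nonZeroDivisors_iff_right.2 fun z hz ↦ h2 (by simpa [mul_comm] using hz)) k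

/-- Over a local ring the anticommuting unit has reversal sign `(-1)^m`. -/
theorem reverse_anticomm [IsLocalRing R] (m : ℕ) (b : Module.Basis (Fin (2 * m)) R M) (hQ : QuadGrp.IsRegular Q)
    (ω : (CliffordAlgebra Q)ˣ) (hω : ∀ v, ι Q v * ω = -((ω : CliffordAlgebra Q) * ι Q v)) :
    reverse (ω : CliffordAlgebra Q) = (-1 : R) ^ m • (ω : CliffordAlgebra Q) := by
  classical
  let φ : MvPolynomial (Sym2 (Fin (2 * m))) ℤ →+* R :=
    MvPolynomial.eval₂Hom (Int.castRingHom R) (QuadGrp.coeffs b (LinearEquiv.refl R R) Q)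
  have hφd : φ (QuadGrp.discUniv (2 * m)) = (polarMat b Q).det :=
    map_discUniv φ b (RingHom.id R) fun s ↦ MvPolynomial.eval₂Hom_X' ..
  have hdu : IsUnit (φ (QuadGrp.discUniv (2 * m))) := hφd ▸ isUnit_det_polarMat b hQ
  let p : Ideal (MvPolynomial (Sym2 (Fin (2 * m))) ℤ) := (IsLocalRing.maximalIdeal R).comap φ
  let A := Localization.AtPrime p
  let φA : A →+* R := IsLocalization.lift (M := p.primeCompl) (g := φ) fun y ↦
    IsLocalRing.notMem_maximalIdeal.1 y.2
  let cA : Sym2 (Fin (2 * m)) → A := fun s ↦ algebraMap (MvPolynomial (Sym2 (Fin (2 * m))) ℤ) A (MvPolynomial.X s)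
  let QA := ofCoeffs cA
  have hPA : IsUnit (polarMat (M := Fin (2 * m) → A) (Pi.basisFun A (Fin (2 * m))) QA).det := by
    rw [← RingHom.id_apply (polarMat (M := Fin (2 * m) → A) (Pi.basisFun A (Fin (2 * m))) QA).det,
      ← map_discUniv (Q := QA) (algebraMap _ A) (Pi.basisFun A (Fin (2 * m))) (RingHom.id A) fun s ↦ by
        rw [coeffs_ofCoeffs]; rfl]
    exact IsLocalization.map_units A (⟨_, fun h ↦ (IsLocalRing.mem_maximalIdeal _).1 h hdu⟩ : p.primeCompl)
  have hQA := isRegular_of_isUnit_det (Pi.basisFun A (Fin (2 * m))) hPA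
  obtain ⟨ωA, -, hωA⟩ := exists_anticomm_unit (Pi.basisFun A (Fin (2 * m))) (even_two_mul m) hQA
  have h2 : IsSMulRegular A (2 : A) := by
    intro x y hxy
    have hle : p.primeCompl ≤ nonZeroDivisors _ := p.primeCompl_le_nonZeroDivisors
    haveI : IsDomain A := IsLocalization.isDomain_localization hle
    have h20 : (2 : A) ≠ 0 := by
      rw [← map_ofNat (algebraMap (MvPolynomial (Sym2 (Fin (2 * m))) ℤ) A) 2, Ne,
        IsLocalization.to_map_eq_zero_iff A hle]
      exact two_ne_zero
    exact mul_left_cancel₀ h20 hxy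
  have hA := reverse_anticomm_of_regular_two m hQA h2 ωA hωA
  letI := φA.toAlgebra
  letI : Module A M := Module.compHom M φA
  haveI : IsScalarTower A R M := IsScalarTower.of_algebraMap_smul fun _ _ ↦ rfl
  let f : (Fin (2 * m) → A) →ₗ[A] M := (Pi.basisFun A (Fin (2 * m))).constr A b
  have hb : ∀ i, b i = f (Pi.basisFun A (Fin (2 * m)) i) := fun i ↦
    ((Pi.basisFun A (Fin (2 * m))).constr_basis A b i).symm
  have hfr : ∀ v : Fin (2 * m) → A, f v = ∑ i, φA (v i) • b i := fun v ↦ by
    simp only [f, Module.Basis.constr_apply_fintype, Pi.basisFun_equivFun, LinearEquiv.refl_apply]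
    rfl
  have hf : ∀ v, Q (f v) = algebraMap A R (QA v) := by
    intro v
    rw [hfr, apply_eq_triSum b Q]
    conv_rhs => rw [show v = ∑ i, v i • Pi.basisFun A (Fin (2 * m)) i by
      conv_lhs => rw [← (Pi.basisFun A (Fin (2 * m))).sum_repr v]
      simp]
    rw [apply_eq_triSum (Pi.basisFun A (Fin (2 * m))) QA, map_triSum, coeffs_ofCoeffs]
    congr 1
    funext s
    exact ((IsLocalization.lift_eq (M := p.primeCompl) _ _).trans (MvPolynomial.eval₂Hom_X' ..)).symm
  let ω' := Units.map (cliffMap QA Q f hf).toRingHom.toMonoidHom ωA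
  have hω' : ∀ v, ι Q v * ω' = -((ω' : CliffordAlgebra Q) * ι Q v) :=
    anticomm_push f hf (Pi.basisFun A (Fin (2 * m))) b hb hωA
  have hr : reverse (ω' : CliffordAlgebra Q) = (-1 : R) ^ m • (ω' : CliffordAlgebra Q) := by
    change reverse (cliffMap QA Q f hf ωA) = (-1 : R) ^ m • cliffMap QA Q f hf ωA
    rw [← cliffMap_reverse, hA, map_smul, Algebra.smul_def ((-1 : A) ^ m), IsScalarTower.algebraMap_apply A R,
      ← Algebra.smul_def, map_pow, map_neg, map_one]
  obtain ⟨c, hc⟩ := exists_smul_of_anticomm b (even_two_mul m) hQ ω' hω' hω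
  rw [← hc, map_smul, hr, smul_comm]

end Groth.Agent.QuadH13
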