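import Groth.Agent.Lib.QuadH13.GPinScheme
import Groth.Agent.Lib.QuadH13.DicksonDet
import Groth.Agent.Lib.QuadH13.OrthScheme

/-!
The Dickson invariant as an idempotent on the orthogonal group; equations for the special orthogonal group.
-/

universe u

open QuadraticMap CliffordAlgebra TensorProduct

namespace Groth.Agent.QuadH13

set_option backward.isDefEq.respectTransparency.types false

variable {R : Type u} [CommRing R] {n : ℕ} {Q : QuadraticForm R (Fin n → R)}
variable {A B : Type u} [CommRing A] [Algebra R A] [CommRing B] [Algebra R B]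

theorem cliffHom_mem (φ : A →ₐ[R] B) {p : ZMod 2} {x : CliffordAlgebra (qA Q A)} (hx : x ∈ evenOdd (qA Q A) p) :
    cliffHom Q φ x ∈ evenOdd (qA Q B) p := by
  rcases (show ∀ i : ZMod 2, i = 0 ∨ i = 1 by decide) p with rfl | rfl
  · induction x, hx using CliffordAlgebra.even_induction with
    | algebraMap r => rw [cliffHom_algebraMap]; exact SetLike.algebraMap_mem_graded _ _
    | add a c _ _ ha hc => rw [map_add]; exact add_mem ha hc
    | ι_mul_ι_mul m₁ m₂ y hy ih =>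
      rw [map_mul, map_mul, cliffHom_ι, cliffHom_ι]
      simpa using SetLike.mul_mem_graded (ι_mul_ι_mem_evenOdd_zero (qA Q B) _ _) ih
  · induction x, hx using CliffordAlgebra.odd_induction with
    | ι v => rw [cliffHom_ι]; exact ι_mem_evenOdd_one _ _
    | add a c _ _ ha hc => rw [map_add]; exact add_mem ha hc
    | ι_mul_ι_mul m₁ m₂ y hy ih =>
      rw [map_mul, map_mul, cliffHom_ι, cliffHom_ι]
      simpa using SetLike.mul_mem_graded (ι_mul_ι_mem_evenOdd_zero (qA Q B) _ _) ih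

/-- Pushing a lift along a map of algebras. -/
theorem liftsAt_push (φ : A →ₐ[R] B) (g : (A ⊗[R] (Fin n → R)) →ₗ[A] (A ⊗[R] (Fin n → R)))
    (g' : (B ⊗[R] (Fin n → R)) →ₗ[B] (B ⊗[R] (Fin n → R))) (hg : table B g' = φ ∘ table A g) {p : ZMod 2} {s : A}
    (h : LiftsAt (qA Q A) g p s) : LiftsAt (qA Q B) g' p (φ s) := by
  obtain ⟨x, y, hx, hc, hxy, hyx⟩ := h
  refine ⟨cliffHom Q φ x, cliffHom Q φ y, cliffHom_mem φ hx, fun v ↦ ?_,
    by rw [← map_mul, hxy, cliffHom_algebraMap], by rw [← map_mul, hyx, cliffHom_algebraMap]⟩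
  have hb : ∀ i, g' (bc (R := R) B i) = LinearMap.rTensor (Fin n → R) φ.toLinearMap (g (bc (R := R) A i)) := by
    intro i
    refine (bc (R := R) B).repr.injective (Finsupp.ext fun j ↦ ?_)
    rw [repr_rTensor]
    have := congrFun hg (j, i)
    simpa [table, LinearMap.toMatrix_apply] using this
  refine LinearMap.congr_fun ((bc (R := R) B).ext fun i ↦ ?_ :
    (LinearMap.mulLeft B (cliffHom Q φ x)).comp (ι (qA Q B)) =
      (LinearMap.mulRight B (cliffHom Q φ x)).comp ((ι (qA Q B)).comp g')) v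
  simp only [LinearMap.comp_apply, LinearMap.mulLeft_apply, LinearMap.mulRight_apply]
  rw [hb, ← rTensor_bc φ i, ← cliffHom_ι, ← cliffHom_ι, ← map_mul, ← map_mul, hc]

theorem exists_dickson_idempotent (hn : Even n) (hQ : QuadGrp.IsRegular Q) :
    ∃ c : eqAlg (isoEqn Q), IsIdempotentElem c ∧
      ∀ (A : Type u) [CommRing A] [Algebra R A] (g : (A ⊗[R] (Fin n → R)) ≃ₗ[A] (A ⊗[R] (Fin n → R)))
        (hg : g ∈ QuadGrp.O (qA Q A)) (φ : eqAlg (isoEqn Q) →ₐ[R] A),
        (table A g.toLinearMap = fun ij ↦ φ (Ideal.Quotient.mk _ (MvPolynomial.X ij))) →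
        (g ∈ QuadGrp.SOeven (qA Q A) ↔ φ c = 0) := by
  let U := eqAlg (isoEqn Q)
  have hnd := (show QuadGrp.IsNondeg (Pi.basisFun R (Fin n)) (LinearEquiv.refl R R) Q from ⟨fun _ ↦ hQ, fun h ↦ absurd hn (Nat.not_even_iff_odd.2 h)⟩)
  let v := eqPoints (isoEqn Q) U (AlgHom.id R U)
  obtain ⟨gU, hgU, hgv⟩ := exists_equiv_of_table (Q := Q) U hnd v.1 v.2
  have hgO : gU ∈ QuadGrp.O (qA Q U) := (baseChangeForm_isometry_iff U Q gU).1 hgU
  have hreg := qA_regular (A := U) hQ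
  let b := bc (R := R) (n := n) U
  haveI := Module.Free.of_basis b
  let S : ZMod 2 → Set (PrimeSpectrum U) := fun p ↦
    ⋃ (s : U) (_ : LiftsAt (qA Q U) gU.toLinearMap p s), (PrimeSpectrum.basicOpen s : Set (PrimeSpectrum U))
  have hmem : ∀ p x, x ∈ S p ↔ ∃ s, LiftsAt (qA Q U) gU.toLinearMap p s ∧ s ∉ x.asIdeal := fun p x ↦ by
    simp [S, PrimeSpectrum.mem_basicOpen]
  have hopen : ∀ p, IsOpen (S p) := fun p ↦ isOpen_iUnion fun s ↦ isOpen_iUnion fun _ ↦ (PrimeSpectrum.basicOpen s).2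
  have hcompl : (S 1)ᶜ = S 0 := by
    ext x
    rw [Set.mem_compl_iff, hmem, hmem]
    constructor
    · intro hx
      obtain ⟨p, s, hs, h⟩ := exists_liftsAt x.asIdeal b hn hreg gU hgO
      rcases (show ∀ i : ZMod 2, i = 0 ∨ i = 1 by decide) p with rfl | rfl
      · exact ⟨s, h, hs⟩
      · exact absurd ⟨s, h, hs⟩ hx
    · rintro ⟨s, h, hs⟩ ⟨s', h', hs'⟩
      exact absurd (liftsAt_unique x.asIdeal b hn hreg hgO hs hs' h h') (by decide)
  obtain ⟨c, f, hcf, hsum, hc⟩ := PrimeSpectrum.isClopen_iff_mul_add.1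
    (⟨⟨hcompl ▸ hopen 0⟩, hopen 1⟩ : IsClopen (S 1))
  have hci : IsIdempotentElem c := by
    change c * c = c
    linear_combination c * hsum - hcf
  refine ⟨c, hci, fun A _ _ g hg φ hgt ↦ ?_⟩
  have hpush : ∀ p s, LiftsAt (qA Q U) gU.toLinearMap p s → LiftsAt (qA Q A) g.toLinearMap p (φ s) := fun p s h ↦
    liftsAt_push φ gU.toLinearMap g.toLinearMap (by rw [hgt, hgv]; rfl) h
  let bA := bc (R := R) (n := n) A
  haveI := Module.Free.of_basis bA
  constructor
  · rintro ⟨hg', hd⟩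
    refine (hci.map φ).eq_zero_of_isNilpotent (nilpotent_iff_mem_prime.2 fun q hq ↦ ?_)
    by_contra hcq
    have : (⟨q.comap φ.toRingHom, inferInstance⟩ : PrimeSpectrum U) ∈ S 1 := by rw [hc]; exact hcq
    obtain ⟨s, h, hs⟩ := (hmem _ _).1 this
    exact absurd (liftsAt_even_of_dickson q bA hn (qA_regular (A := A) hQ) hg' hd hs (hpush 1 s h)) (by decide)
  · intro hφc
    refine ⟨hg, fun z hz ↦ sub_eq_zero.1 (eq_zero_of_forall_prime (R := A) fun q hq ↦ ?_)⟩
    have : (⟨q.comap φ.toRingHom, inferInstance⟩ : PrimeSpectrum U) ∈ S 0 := by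
      rw [← hcompl, hc]
      intro h
      exact h (show φ c ∈ q by rw [hφc]; exact q.zero_mem)
    obtain ⟨s, h, hs⟩ := (hmem _ _).1 this
    exact ⟨φ s, hs, map_fix_of_liftsAt hg (hpush 0 s h) z hz⟩

end Groth.Agent.QuadH13
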