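import Groth.Agent.Lib.QuadH13.OrthScheme
import Groth.Agent.Lib.QuadH13.DicksonDet
import Groth.Agent.Lib.QuadH13.GPinScheme
import Groth.Agent.Lib.SmoothRed.Basic
import Mathlib.RingTheory.TensorProduct.Quotient
import Mathlib.RingTheory.Flat.TorsionFree
import Mathlib.AlgebraicGeometry.Morphisms.Flat
import Mathlib.AlgebraicGeometry.Properties
import Mathlib.LinearAlgebra.Matrix.Permutation
import Mathlib.RingTheory.Ideal.Quotient.PowTransition

/-!
The naive special orthogonal group of a regular form of even rank over a domain where two is prime: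
reduced but not flat.
-/

universe u

open QuadraticMap Matrix TensorProduct CategoryTheory AlgebraicGeometry MonObj

namespace Groth.Agent.QuadH13

set_option backward.isDefEq.respectTransparency.types false
set_option linter.style.haveILetI false

variable {R : Type u} [CommRing R] {n : ℕ}

theorem exists_iso_of_linRep {S : ∀ (A : Type u) [CommRing A] [Algebra R A],
      Subgroup ((A ⊗[R] (Fin n → R)) ≃ₗ[A] (A ⊗[R] (Fin n → R)))}
    {G : Over (Spec (CommRingCat.of R))} [GrpObj G] (D : QuadGrp.LinRep R (Fin n → R) S G)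
    {κ : Type} [Fintype κ] (F : κ → MvPolynomial (Fin n × Fin n) R)
    (hmem : ∀ (A : Type u) [CommRing A] [Algebra R A] (h : (A ⊗[R] (Fin n → R)) ≃ₗ[A] (A ⊗[R] (Fin n → R))),
      h ∈ S A → ∀ k, MvPolynomial.aeval (table A h.toLinearMap) (F k) = 0)
    (hex : ∀ (A : Type u) [CommRing A] [Algebra R A] (v : Fin n × Fin n → A),
      (∀ k, MvPolynomial.aeval v (F k) = 0) → ∃ h ∈ S A, table A h.toLinearMap = v) :
    Nonempty (QuadGrp.specOver R (eqAlg F) ≅ G) := by
  let tab : ∀ (A : Type u) [CommRing A] [Algebra R A], ↥(S A) → {v : Fin n × Fin n → A // ∀ k, MvPolynomial.aeval v (F k) = 0} :=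
    fun A _ _ h ↦ ⟨table A h.1.toLinearMap, hmem A h.1 h.2⟩
  have hb : ∀ (A : Type u) [CommRing A] [Algebra R A], Function.Bijective (tab A) := by
    intro A _ _
    constructor
    · intro h h' hh
      refine Subtype.ext (LinearEquiv.toLinearMap_injective ?_)
      refine (LinearMap.toMatrix (bc (R := R) A) (bc (R := R) A)).injective ?_
      ext i j
      exact congrFun (congrArg Subtype.val hh) (i, j)
    · intro v
      obtain ⟨h, hh, hv⟩ := hex A v.1 v.2
      exact ⟨⟨h, hh⟩, Subtype.ext hv⟩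
  let e : ∀ (A : Type u) [CommRing A] [Algebra R A], (QuadGrp.specOver R A ⟶ G) ≃ (eqAlg F →ₐ[R] A) := fun A _ _ ↦
    ((D.pts A).toEquiv.trans (Equiv.ofBijective _ (hb A))).trans (eqPoints F A).symm
  refine exists_iso_of_points G (eqAlg F) e fun A B _ _ _ _ φ y ↦ (eqPoints F B).injective (Subtype.ext ?_)
  funext ij
  have h1 : ∀ (A : Type u) [CommRing A] [Algebra R A] (y : QuadGrp.specOver R A ⟶ G),
      (e A y) (Ideal.Quotient.mk _ (MvPolynomial.X ij)) = table A (D.pts A y).1.toLinearMap ij := by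
    intro A _ _ y
    exact congrFun (congrArg Subtype.val ((eqPoints F A).apply_symm_apply (tab A (D.pts A y)))) ij
  change (e B _) (Ideal.Quotient.mk _ (MvPolynomial.X ij)) = φ ((e A y) (Ideal.Quotient.mk _ (MvPolynomial.X ij)))
  rw [h1, h1, table, table, LinearMap.toMatrix_apply, LinearMap.toMatrix_apply, LinearEquiv.coe_coe, LinearEquiv.coe_coe,
    Module.Basis.baseChange_apply, Module.Basis.baseChange_apply, D.natural, repr_rTensor]

variable {Q : QuadraticForm R (Fin n → R)}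

theorem smooth_isoAlg (hn : Even n) (hQ : QuadGrp.IsRegular Q) : Algebra.Smooth R (eqAlg (isoEqn Q)) := by
  refine smooth_eqAlg (isoEqn Q) fun A _ _ _ I hI hI2 v hv ↦ ?_
  have hI0 : ∀ x ∈ I, ∀ y ∈ I, x * y = 0 := fun x hx y hy ↦ by
    have : x * y ∈ I ^ 2 := by rw [pow_two]; exact Ideal.mul_mem_mul hx hy
    rwa [hI2, Ideal.mem_bot] at this
  obtain ⟨g', hg', hgg⟩ := exists_lift_of_isUnit (QuadGrp.baseChangeForm A Q) (bc (R := R) A) hI0
    (isUnit_det_baseChange A ((isUnit_det_of_regular hQ).map _))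
    (Matrix.toLin (bc (R := R) A) (bc (R := R) A) (Matrix.of fun i j ↦ v (i, j)))
    (sub_mem_of_table A Q _ fun s ↦ by rw [table_toLin (R := R)]; exact hv s)
  refine ⟨fun ij ↦ table A g' ij - v ij, fun ij ↦ ?_, fun s ↦ ?_⟩
  · have := sub_mem_of_mem_smul_top (bc (R := R) A) (hgg (bc (R := R) A ij.2)) ij.1
    rw [map_sub, Finsupp.sub_apply, ← LinearMap.toMatrix_apply (bc (R := R) A) (bc (R := R) A),
      ← LinearMap.toMatrix_apply (bc (R := R) A) (bc (R := R) A), LinearMap.toMatrix_toLin] at this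
    exact this
  · rw [show v + (fun ij ↦ table A g' ij - v ij) = table A g' by funext ij; simp]
    exact table_of_isometry A Q g' hg' s

theorem isNondeg_of_even (hn : Even n) (hQ : QuadGrp.IsRegular Q) :
    QuadGrp.IsNondeg (Pi.basisFun R (Fin n)) (LinearEquiv.refl R R) Q :=
  ⟨fun _ ↦ hQ, fun h ↦ absurd h (Nat.not_odd_iff_even.2 hn)⟩

/-- The universal determinant. -/
noncomputable abbrev detX (R : Type u) [CommRing R] (n : ℕ) : MvPolynomial (Fin n × Fin n) R :=
  (Matrix.of fun i j ↦ (MvPolynomial.X (i, j) : MvPolynomial (Fin n × Fin n) R)).det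

theorem det_point_sq (hn : Even n) (hQ : QuadGrp.IsRegular Q) (B : Type u) [CommRing B] [Algebra R B]
    (v : Fin n × Fin n → B) (hv : ∀ s, MvPolynomial.aeval v (isoEqn Q s) = 0) :
    MvPolynomial.aeval v (detX R n) * MvPolynomial.aeval v (detX R n) = 1 ∧
      ((2 : B) = 0 → MvPolynomial.aeval v (detX R n) = 1) := by
  obtain ⟨h, hh, rfl⟩ := exists_equiv_of_table B (isNondeg_of_even hn hQ) v hv
  have hh' := (baseChangeForm_isometry_iff B Q h).1 hh
  rw [aeval_det]
  exact ⟨det_isometry_sq B (isNondeg_of_even hn hQ) _ hh',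
    fun h2 ↦ det_eq_one_of_two_eq_zero (bc (R := R) B) hn (qA_regular hQ) h2 hh'⟩

theorem mod_two_reduced (h2 : (Ideal.span {(2 : R)}).IsMaximal) (U : Type u) [CommRing U] [Algebra R U]
    [Algebra.Smooth R U] {x : U} {k : ℕ} (hk : x ^ k ∈ (Ideal.span {(2 : R)}).map (algebraMap R U)) :
    x ∈ (Ideal.span {(2 : R)}).map (algebraMap R U) := by
  letI := Ideal.Quotient.field (Ideal.span {(2 : R)})
  haveI : IsReduced ((R ⧸ Ideal.span {(2 : R)}) ⊗[R] U) :=
    SmoothRed.isReduced_of_smooth_field (R ⧸ Ideal.span {(2 : R)}) _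
  let e := (Algebra.TensorProduct.quotIdealMapEquivTensorQuot U (Ideal.span {(2 : R)})).toRingEquiv.trans
    (Algebra.TensorProduct.comm R U (R ⧸ Ideal.span {(2 : R)})).toRingEquiv
  refine Ideal.Quotient.eq_zero_iff_mem.1 (e.injective ((IsNilpotent.eq_zero ⟨k, ?_⟩).trans (map_zero e).symm))
  rw [← map_pow e, ← map_pow (Ideal.Quotient.mk _), Ideal.Quotient.eq_zero_iff_mem.2 hk, map_zero]

theorem smul_two_inj [IsDomain R] (h20 : (2 : R) ≠ 0) (U : Type u) [CommRing U] [Algebra R U] [Module.Flat R U]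
    {x : U} (h : (2 : U) * x = 0) : x = 0 := by
  refine (Module.Flat.isSMulRegular_of_nonZeroDivisors (M := U) (mem_nonZeroDivisors_of_ne_zero h20)) ?_
  change (2 : R) • x = (2 : R) • 0
  rw [smul_zero, Algebra.smul_def, map_ofNat, h]

theorem eqAlg_sIso_props [IsDomain R] [IsNoetherianRing R] (h20 : (2 : R) ≠ 0)
    (h2 : (Ideal.span {(2 : R)}).IsMaximal) (hn : Even n) (hQ : QuadGrp.IsRegular Q)
    (g₀ : Fin n × Fin n → R) (hg₀ : ∀ s, MvPolynomial.aeval g₀ (isoEqn Q s) = 0)
    (hd₀ : MvPolynomial.aeval g₀ (detX R n) = -1) :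
    IsReduced (eqAlg (sIsoEqn Q)) ∧ ¬ Module.Flat R (eqAlg (sIsoEqn Q)) := by
  haveI := smooth_isoAlg hn hQ
  haveI : IsReduced (eqAlg (isoEqn Q)) := SmoothRed.isReduced_of_smooth_noetherian R _
  let mkU := Ideal.Quotient.mkₐ R (Ideal.span (Set.range (isoEqn Q)))
  let d : eqAlg (isoEqn Q) := mkU (detX R n)
  have hval : ∀ p, MvPolynomial.aeval (fun i ↦ mkU (MvPolynomial.X i)) p = mkU p := fun p ↦
    AlgHom.congr_fun (MvPolynomial.algHom_ext fun i ↦ by simp) p
  obtain ⟨hdd, -⟩ := det_point_sq hn hQ (eqAlg (isoEqn Q)) (fun i ↦ mkU (MvPolynomial.X i)) fun s ↦ by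
    rw [hval]; exact Ideal.Quotient.eq_zero_iff_mem.2 (Ideal.subset_span ⟨s, rfl⟩)
  rw [hval] at hdd
  change d * d = 1 at hdd
  let P := (Ideal.span {(2 : R)}).map (algebraMap R (eqAlg (isoEqn Q)))
  have hP : P = Ideal.span {(2 : eqAlg (isoEqn Q))} := by
    simp only [P, Ideal.map_span, Set.image_singleton, map_ofNat]
  have hd1 : d - 1 ∈ P := by
    let π := Ideal.Quotient.mkₐ R P
    have h20' : (2 : eqAlg (isoEqn Q) ⧸ P) = 0 := by
      rw [← map_ofNat π 2]
      exact Ideal.Quotient.eq_zero_iff_mem.2 (hP ▸ Ideal.mem_span_singleton_self _)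
    have hv : ∀ p, MvPolynomial.aeval (fun i ↦ π (mkU (MvPolynomial.X i))) p = π (mkU p) := fun p ↦
      AlgHom.congr_fun (MvPolynomial.algHom_ext (f := MvPolynomial.aeval fun i ↦ π (mkU (MvPolynomial.X i)))
        (g := π.comp mkU) fun i ↦ by simp) p
    obtain ⟨-, h1⟩ := det_point_sq hn hQ (eqAlg (isoEqn Q) ⧸ P) (fun i ↦ π (mkU (MvPolynomial.X i))) fun s ↦ by
      rw [hv, show mkU (isoEqn Q s) = 0 from Ideal.Quotient.eq_zero_iff_mem.2 (Ideal.subset_span ⟨s, rfl⟩), map_zero]
    have := h1 h20'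
    rw [hv] at this
    exact Ideal.Quotient.eq.1 (this.trans (map_one π).symm)
  obtain ⟨e, he⟩ := Ideal.mem_span_singleton.1 (hP ▸ hd1)
  have hee : e * (e + 1) = 0 := by
    refine smul_two_inj h20 _ (smul_two_inj h20 _ ?_)
    linear_combination hdd - (d + 1 + 2 * e) * he
  let ψ : eqAlg (isoEqn Q) →+* eqAlg (sIsoEqn Q) := Ideal.Quotient.factor (Ideal.span_le.2 (by
    rintro _ ⟨s, rfl⟩; exact Ideal.subset_span ⟨some s, rfl⟩))
  have hψs : Function.Surjective ψ := Ideal.Quotient.factor_surjective _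
  have hker : RingHom.ker ψ = Ideal.span {d - 1} := by
    rw [Ideal.Quotient.factor_ker, Ideal.map_span]
    refine le_antisymm (Ideal.span_le.2 ?_) (Ideal.span_le.2 ?_)
    · rintro _ ⟨_, ⟨(_ | s), rfl⟩, rfl⟩
      · refine Ideal.subset_span ?_
        change mkU (detX R n - 1) = d - 1
        rw [map_sub, map_one]
      · rw [show Ideal.Quotient.mk _ (sIsoEqn Q (some s)) = 0 from
          Ideal.Quotient.eq_zero_iff_mem.2 (show isoEqn Q s ∈ Ideal.span (Set.range (isoEqn Q)) from Ideal.subset_span ⟨s, rfl⟩)]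
        exact zero_mem _
    · rintro _ rfl
      refine Ideal.subset_span ⟨sIsoEqn Q none, ⟨none, rfl⟩, ?_⟩
      change mkU (detX R n - 1) = d - 1
      rw [map_sub, map_one]
  refine ⟨{ eq_zero := fun y hy ↦ ?_ }, fun hf ↦ ?_⟩
  · obtain ⟨k, hk⟩ := hy
    obtain ⟨x, rfl⟩ := hψs y
    rw [← map_pow, ← RingHom.mem_ker, hker, he, Ideal.mem_span_singleton] at hk
    obtain ⟨c, hc⟩ := hk
    have hx : x ∈ P := mod_two_reduced h2 _ (k := k) (by
      change x ^ k ∈ P
      rw [hP]
      exact Ideal.mem_span_singleton.2 ⟨e * c, by rw [hc]; ring⟩)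
    obtain ⟨z, rfl⟩ := Ideal.mem_span_singleton.1 (hP ▸ hx)
    have h0 : (1 + e) * (2 * z) = 0 := IsNilpotent.eq_zero ⟨k + 1, by
      rw [pow_succ, mul_pow, hc]
      linear_combination (2 * c * (1 + e) ^ k * (2 * z)) * hee⟩
    rw [← RingHom.mem_ker, hker, he]
    exact Ideal.mem_span_singleton.2 ⟨-z, by linear_combination h0⟩
  · have he0 : ψ e = 0 := by
      refine smul_two_inj h20 _ ?_
      rw [← map_ofNat ψ 2, ← map_mul, ← he, ← RingHom.mem_ker, hker]
      exact Ideal.mem_span_singleton_self _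
    rw [← RingHom.mem_ker, hker, he, Ideal.mem_span_singleton] at he0
    obtain ⟨c, hc⟩ := he0
    let φ : eqAlg (isoEqn Q) →ₐ[R] R := (eqPoints (isoEqn Q) R).symm ⟨g₀, hg₀⟩
    have hφd : φ d = -1 := by
      rw [← hd₀]; rfl
    have h2e := congrArg φ he
    rw [map_sub, map_mul, map_one, map_ofNat, hφd] at h2e
    have hφe : φ e = -1 := mul_left_cancel₀ h20 (by linear_combination -h2e)
    have h1 := congrArg φ hc
    rw [map_mul, map_mul, map_ofNat, hφe] at h1
    refine h2.ne_top ((Ideal.eq_top_iff_one _).2 (Ideal.mem_span_singleton.2 ⟨φ c, ?_⟩))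
    linear_combination -h1

theorem isReduced_not_flat_sorth' [IsDomain R] [IsNoetherianRing R] (h20 : (2 : R) ≠ 0)
    (h2 : (Ideal.span {(2 : R)}).IsMaximal) (hn : Even n) (hQ : QuadGrp.IsRegular Q)
    (g₀ : (Fin n → R) →ₗ[R] (Fin n → R)) (hg₀ : ∀ x, Q (g₀ x) = Q x) (hd₀ : LinearMap.det g₀ = -1)
    {G : Over (Spec (CommRingCat.of R))} [GrpObj G] (D : QuadGrp.SOrth'Rep Q G) :
    AlgebraicGeometry.IsReduced G.left ∧ ¬ AlgebraicGeometry.Flat G.hom := by
  have hND := isNondeg_of_even hn hQ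
  obtain ⟨i⟩ := exists_iso_of_linRep D (sIsoEqn Q)
    (fun A _ _ g hg k ↦ by
      rcases k with _ | s
      · rw [sIsoEqn, map_sub, map_one, aeval_det, sub_eq_zero]
        exact (LinearEquiv.coe_det g).symm.trans ((congrArg Units.val (MonoidHom.mem_ker.1 hg.2)).trans Units.val_one)
      · exact table_of_isometry A Q _ ((baseChangeForm_isometry_iff A Q g).1 hg.1) s)
    (fun A _ _ v hv ↦ by
      obtain ⟨g, hg, rfl⟩ := exists_equiv_of_table A hND v fun s ↦ hv (some s)
      refine ⟨g, ⟨hg, MonoidHom.mem_ker.2 (Units.ext ?_)⟩, rfl⟩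
      have := hv none
      rw [sIsoEqn, map_sub, map_one, aeval_det, sub_eq_zero] at this
      rw [Units.val_one, LinearEquiv.coe_det]
      exact this)
  have hiso : ∀ w, QuadGrp.baseChangeForm R Q (g₀.baseChange R w) = QuadGrp.baseChangeForm R Q w := by
    intro w
    obtain ⟨x, rfl⟩ := (TensorProduct.lid R (Fin n → R)).symm.surjective w
    rw [TensorProduct.lid_symm_apply, LinearMap.baseChange_tmul, baseChangeForm_one_tmul, baseChangeForm_one_tmul, hg₀]
  obtain ⟨hred, hfl⟩ := eqAlg_sIso_props h20 h2 hn hQ (table R (g₀.baseChange R))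
    (fun s ↦ table_of_isometry R Q _ hiso s) (by rw [aeval_det, LinearMap.det_baseChange, hd₀]; rfl)
  haveI : IsIso i.inv.left := (inferInstance : IsIso ((Over.forget _).map i.inv))
  haveI : AlgebraicGeometry.IsReduced (QuadGrp.specOver R (eqAlg (sIsoEqn Q))).left :=
    inferInstanceAs (AlgebraicGeometry.IsReduced (Spec (CommRingCat.of (eqAlg (sIsoEqn Q)))))
  refine ⟨isReduced_of_isOpenImmersion i.inv.left, fun hf ↦ hfl ?_⟩
  haveI : IsIso i.hom.left := (inferInstance : IsIso ((Over.forget _).map i.hom))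
  rw [← MorphismProperty.cancel_left_of_respectsIso @AlgebraicGeometry.Flat i.hom.left, Over.w i.hom] at hf
  exact RingHom.flat_algebraMap_iff.1 ((HasRingHomProperty.Spec_iff (P := @AlgebraicGeometry.Flat)
    (φ := CommRingCat.ofHom (algebraMap R (eqAlg (sIsoEqn Q))))).1 hf)

theorem splitForm_even_apply (m : ℕ) (x : Fin (m * 2) → R) :
    QuadGrp.splitForm R (m * 2) x = ∑ i : Fin m, x (finProdFinEquiv (i, 0)) * x (finProdFinEquiv (i, 1)) := by
  have h0 : ¬ m * 2 % 2 = 1 := by omega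
  rw [QuadGrp.splitForm, dif_neg h0, add_zero, QuadraticMap.sum_apply]
  refine Fintype.sum_equiv (finCongr (by omega)) _ _ fun i ↦ ?_
  rw [QuadraticMap.linMulLin_apply, LinearMap.proj_apply, LinearMap.proj_apply]
  congr 2 <;> ext <;> simp <;> omega

theorem splitForm_even_regular (m : ℕ) : QuadGrp.IsRegular (QuadGrp.splitForm R (m * 2)) := by
  classical
  let σ : Equiv.Perm (Fin (m * 2)) :=
    finProdFinEquiv.symm.trans ((Equiv.prodCongr (Equiv.refl (Fin m)) (Equiv.swap (0 : Fin 2) 1)).trans finProdFinEquiv)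
  refine isRegular_of_isUnit_det (Pi.basisFun R (Fin (m * 2))) ?_
  rw [show polarMat (Pi.basisFun R (Fin (m * 2))) (QuadGrp.splitForm R (m * 2)) = σ.permMatrix R from ?_,
    Matrix.det_permutation]
  · exact (Units.isUnit _).map (Int.castRingHom R)
  ext p q
  obtain ⟨⟨k, c⟩, rfl⟩ := finProdFinEquiv.surjective p
  obtain ⟨⟨l, d⟩, rfl⟩ := finProdFinEquiv.surjective q
  rw [polarMat_apply, Pi.basisFun_apply, Pi.basisFun_apply, QuadraticMap.polar, splitForm_even_apply,
    splitForm_even_apply, splitForm_even_apply, ← Finset.sum_sub_distrib, ← Finset.sum_sub_distrib]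
  rw [Finset.sum_eq_single k]
  · fin_cases c <;> fin_cases d <;> simp [σ, Pi.single_apply, PEquiv.toMatrix_apply, eq_comm]
  · intro i _ hi
    fin_cases c <;> fin_cases d <;> simp [Pi.single_apply, hi]
  · simp

theorem exists_splitForm_det_neg_one (m : ℕ) (hm : 1 ≤ m) :
    ∃ g : (Fin (m * 2) → R) →ₗ[R] (Fin (m * 2) → R),
      (∀ x, QuadGrp.splitForm R (m * 2) (g x) = QuadGrp.splitForm R (m * 2) x) ∧ LinearMap.det g = -1 := by
  classical
  let τ : Equiv.Perm (Fin (m * 2)) := Equiv.swap (finProdFinEquiv (⟨0, hm⟩, 0)) (finProdFinEquiv (⟨0, hm⟩, 1))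
  refine ⟨LinearMap.funLeft R R τ, fun x ↦ ?_, ?_⟩
  · rw [splitForm_even_apply, splitForm_even_apply]
    refine Finset.sum_congr rfl fun i _ ↦ ?_
    simp only [LinearMap.funLeft_apply, τ]
    by_cases hi : i = ⟨0, hm⟩
    · subst hi
      rw [Equiv.swap_apply_left, Equiv.swap_apply_right, mul_comm]
    · rw [Equiv.swap_apply_of_ne_of_ne, Equiv.swap_apply_of_ne_of_ne] <;> simp [hi]
  · rw [← LinearMap.det_toMatrix']
    rw [show LinearMap.toMatrix' (LinearMap.funLeft R R τ) = τ.permMatrix R from ?_, Matrix.det_permutation,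
      Equiv.Perm.sign_swap]
    · simp
    · simp
    ext i j
    simp [LinearMap.toMatrix'_apply, LinearMap.funLeft_apply, PEquiv.toMatrix_apply, Pi.single_apply, eq_comm]

end Groth.Agent.QuadH13
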