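import Groth.Agent.Lib.QuadH13.SOEven
import Groth.Agent.Lib.QuadH13.Pairs
import Groth.Agent.Lib.QuadH13.LieDim
import Groth.Agent.Lib.QuadH13.MatGrp
import Groth.Agent.Lib.QuadH13.SOrthNotFlat
import Mathlib.RingTheory.Localization.Away.Basic
import Mathlib.Algebra.Polynomial.AlgebraMap

/-!
The special orthogonal group schemes: relative dimension and connected fibres.
-/

universe u

open QuadraticMap TensorProduct CategoryTheory AlgebraicGeometry Matrix MonObj

namespace Groth.Agent.QuadH13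

set_option backward.isDefEq.respectTransparency false
set_option backward.isDefEq.respectTransparency.types false

variable {R : Type u} [CommRing R] {n : ℕ} {Q : QuadraticForm R (Fin n → R)}

/-- The matrix of an automorphism. -/
noncomputable abbrev matOf {A : Type u} [CommRing A] [Algebra R A]
    (g : (A ⊗[R] (Fin n → R)) ≃ₗ[A] (A ⊗[R] (Fin n → R))) : Matrix (Fin n) (Fin n) A :=
  LinearMap.toMatrix (bc (R := R) A) (bc (R := R) A) g.toLinearMap

theorem matOf_mul {A : Type u} [CommRing A] [Algebra R A]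
    (g h : (A ⊗[R] (Fin n → R)) ≃ₗ[A] (A ⊗[R] (Fin n → R))) : matOf (g * h) = matOf g * matOf h :=
  LinearMap.toMatrix_comp (bc (R := R) A) (bc (R := R) A) (bc (R := R) A) g.toLinearMap h.toLinearMap

theorem matOf_one (A : Type u) [CommRing A] [Algebra R A] :
    matOf (1 : (A ⊗[R] (Fin n → R)) ≃ₗ[A] (A ⊗[R] (Fin n → R))) = 1 :=
  LinearMap.toMatrix_id (bc (R := R) A)

theorem matOf_push {A B : Type u} [CommRing A] [Algebra R A] [CommRing B] [Algebra R B] (φ : A →ₐ[R] B)
    (g : (A ⊗[R] (Fin n → R)) ≃ₗ[A] (A ⊗[R] (Fin n → R))) (g' : (B ⊗[R] (Fin n → R)) ≃ₗ[B] (B ⊗[R] (Fin n → R)))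
    (h : ∀ w, g' (LinearMap.rTensor (Fin n → R) φ.toLinearMap w) = LinearMap.rTensor (Fin n → R) φ.toLinearMap (g w)) :
    (matOf g).map φ = matOf g' := by
  ext i j
  rw [Matrix.map_apply, matOf, matOf, LinearMap.toMatrix_apply, LinearMap.toMatrix_apply, LinearEquiv.coe_coe,
    LinearEquiv.coe_coe, ← rTensor_bc φ j, h, repr_rTensor]

theorem refl'_push {A B : Type u} [CommRing A] [Algebra R A] [CommRing B] [Algebra R B] (φ : A →ₐ[R] B)
    (v : A ⊗[R] (Fin n → R)) (c : Aˣ) (hc : qA Q A v = c) (c' : Bˣ)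
    (hc' : qA Q B (LinearMap.rTensor (Fin n → R) φ.toLinearMap v) = c') (w : A ⊗[R] (Fin n → R)) :
    refl' (qA Q B) _ c' hc' (LinearMap.rTensor (Fin n → R) φ.toLinearMap w) =
      LinearMap.rTensor (Fin n → R) φ.toLinearMap (refl' (qA Q A) v c hc w) := by
  have hcc : c' = Units.map (φ : A →* B) c := Units.ext (by
    rw [← hc', qA_rTensor, hc]; rfl)
  rw [refl'_apply, refl'_apply, map_sub, rTensor_smul, map_mul, hcc]
  congr 3
  simp only [polar, ← map_add, qA_rTensor, map_sub]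

/-- The equations `F` cut out the family of groups `S`. -/
structure Cuts (S : ∀ (A : Type u) [CommRing A] [Algebra R A],
    Subgroup ((A ⊗[R] (Fin n → R)) ≃ₗ[A] (A ⊗[R] (Fin n → R)))) {κ : Type}
    (F : κ → MvPolynomial (Fin n × Fin n) R) : Prop where
  mem : ∀ (A : Type u) [CommRing A] [Algebra R A] (h : (A ⊗[R] (Fin n → R)) ≃ₗ[A] (A ⊗[R] (Fin n → R))),
    h ∈ S A → ∀ k, MvPolynomial.aeval (table A h.toLinearMap) (F k) = 0
  exists_mem : ∀ (A : Type u) [CommRing A] [Algebra R A] (v : Fin n × Fin n → A),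
    (∀ k, MvPolynomial.aeval v (F k) = 0) → ∃ h ∈ S A, table A h.toLinearMap = v

section Cuts

variable {S : ∀ (A : Type u) [CommRing A] [Algebra R A],
    Subgroup ((A ⊗[R] (Fin n → R)) ≃ₗ[A] (A ⊗[R] (Fin n → R)))} {κ : Type} [Fintype κ]
  {F : κ → MvPolynomial (Fin n × Fin n) R}

theorem Cuts.matOf_mem (hc : Cuts S F) {A : Type u} [CommRing A] [Algebra R A]
    {h : (A ⊗[R] (Fin n → R)) ≃ₗ[A] (A ⊗[R] (Fin n → R))} (hh : h ∈ S A) : matOf h ∈ sol F A :=
  hc.mem A h hh

theorem Cuts.exists_matOf (hc : Cuts S F) {A : Type u} [CommRing A] [Algebra R A]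
    {M : Matrix (Fin n) (Fin n) A} (hM : M ∈ sol F A) : ∃ h ∈ S A, matOf h = M := by
  obtain ⟨h, hh, ht⟩ := hc.exists_mem A _ hM
  exact ⟨h, hh, Matrix.ext fun i j ↦ congrFun ht (i, j)⟩

theorem Cuts.isGrpEqns (hc : Cuts S F) : IsGrpEqns F where
  one_mem A _ _ := by rw [← matOf_one (R := R) A]; exact hc.matOf_mem (S A).one_mem
  mul_mem A _ _ M N hM hN := by
    obtain ⟨g, hg, rfl⟩ := hc.exists_matOf hM
    obtain ⟨h, hh, rfl⟩ := hc.exists_matOf hN
    rw [← matOf_mul]
    exact hc.matOf_mem ((S A).mul_mem hg hh)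
  exists_inv A _ _ M hM := by
    obtain ⟨g, hg, rfl⟩ := hc.exists_matOf hM
    exact ⟨matOf g⁻¹, hc.matOf_mem ((S A).inv_mem hg), by rw [← matOf_mul, mul_inv_cancel, matOf_one],
      by rw [← matOf_mul, inv_mul_cancel, matOf_one]⟩

/-- Products of two reflections are joined to the identity by curves. -/
theorem good_pair (hc : Cuts S F)
    (hpair : ∀ (A : Type u) [CommRing A] [Algebra R A] (v w : A ⊗[R] (Fin n → R)) (c d : Aˣ) (hv : qA Q A v = c)
      (hw : qA Q A w = d), refl' (qA Q A) v c hv * refl' (qA Q A) w d hw ∈ S A)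
    (L : Type u) [Field L] [Algebra R L] (v w : L ⊗[R] (Fin n → R)) (c d : Lˣ) (hv : qA Q L v = c) (hw : qA Q L w = d) :
    Good F L (matOf (refl' (qA Q L) v c hv * refl' (qA Q L) w d hw)) := by
  let P := Polynomial L
  let ιP : L →ₐ[R] P := IsScalarTower.toAlgHom R L P
  let vP := (1 - Polynomial.X : P) • LinearMap.rTensor (Fin n → R) ιP.toLinearMap v +
    (Polynomial.X : P) • LinearMap.rTensor (Fin n → R) ιP.toLinearMap w
  let q : P := qA Q P vP
  let ev : L → (P →ₐ[R] L) := fun t ↦ (Polynomial.aeval t).restrictScalars R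
  have hev : ∀ t, LinearMap.rTensor (Fin n → R) (ev t).toLinearMap vP = (1 - t) • v + t • w := by
    intro t
    have hcomp : ∀ z, LinearMap.rTensor (Fin n → R) (ev t).toLinearMap (LinearMap.rTensor (Fin n → R) ιP.toLinearMap z) = z := by
      intro z
      rw [← LinearMap.rTensor_comp_apply,
        show (ev t).toLinearMap.comp ιP.toLinearMap = LinearMap.id from LinearMap.ext fun l ↦ Polynomial.aeval_C t l,
        LinearMap.rTensor_id_apply]
    simp only [vP, map_add, rTensor_smul, hcomp, map_sub, map_one]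
    simp only [ev, AlgHom.restrictScalars_apply]
    rw [Polynomial.aeval_X]
  have hq : ∀ t, ev t q = qA Q L ((1 - t) • v + t • w) := fun t ↦ by rw [← hev, qA_rTensor]
  have hq0 : q ≠ 0 := fun h ↦ by
    have := hq 0
    rw [h, map_zero, sub_zero, one_smul, zero_smul, add_zero, hv] at this
    exact c.ne_zero this.symm
  let B := Localization.Away q
  haveI : IsDomain B := IsLocalization.isDomain_localization (powers_le_nonZeroDivisors_of_noZeroDivisors hq0)
  let ιB : P →ₐ[R] B := IsScalarTower.toAlgHom R P B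
  let ιL : L →ₐ[R] B := IsScalarTower.toAlgHom R L B
  let vB := LinearMap.rTensor (Fin n → R) ιB.toLinearMap vP
  let wB := LinearMap.rTensor (Fin n → R) ιL.toLinearMap w
  let cB : Bˣ := (IsLocalization.Away.algebraMap_isUnit q : IsUnit (algebraMap P B q)).unit
  have hcB : qA Q B vB = cB := by rw [qA_rTensor]; rfl
  let dB : Bˣ := Units.map (ιL : L →* B) d
  have hdB : qA Q B wB = dB := by rw [qA_rTensor, hw]; rfl
  have hev1 : ∀ (t : L), qA Q L ((1 - t) • v + t • w) ≠ 0 → ∃ χ : B →ₐ[L] L,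
      ∀ z, LinearMap.rTensor (Fin n → R) (χ.restrictScalars R).toLinearMap (LinearMap.rTensor (Fin n → R) ιB.toLinearMap z) =
        LinearMap.rTensor (Fin n → R) (ev t).toLinearMap z := by
    intro t ht
    have hu : IsUnit ((Polynomial.aeval t : P →ₐ[L] L).toRingHom q) :=
      IsUnit.mk0 _ (by rw [← hq t] at ht; exact ht)
    let χ₀ : B →+* L := IsLocalization.Away.lift q hu
    refine ⟨{ χ₀ with commutes' := fun l ↦ ?_ }, fun z ↦ ?_⟩
    · change χ₀ (algebraMap L B l) = l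
      rw [IsScalarTower.algebraMap_apply L P B, IsLocalization.Away.lift_eq]
      exact Polynomial.aeval_C t l
    · rw [← LinearMap.rTensor_comp_apply]
      refine congrArg (fun f ↦ LinearMap.rTensor (Fin n → R) f z) (LinearMap.ext fun p ↦ ?_)
      exact IsLocalization.Away.lift_eq q hu p
  obtain ⟨χ0, hχ0⟩ := hev1 0 (by simp [hv])
  obtain ⟨χ1, hχ1⟩ := hev1 1 (by simp [hw])
  have hwL : ∀ χ : B →ₐ[L] L, LinearMap.rTensor (Fin n → R) (χ.restrictScalars R).toLinearMap wB = w := fun χ ↦ by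
    rw [← LinearMap.rTensor_comp_apply,
      show (χ.restrictScalars R).toLinearMap.comp ιL.toLinearMap = LinearMap.id from LinearMap.ext fun l ↦ χ.commutes l,
      LinearMap.rTensor_id_apply]
  have hend : ∀ (χ : B →ₐ[L] L) (v' : L ⊗[R] (Fin n → R)) (c' : Lˣ) (hv' : qA Q L v' = c'),
      LinearMap.rTensor (Fin n → R) (χ.restrictScalars R).toLinearMap vB = v' →
      (matOf (refl' (qA Q B) vB cB hcB * refl' (qA Q B) wB dB hdB)).map χ =
        matOf (refl' (qA Q L) v' c' hv' * refl' (qA Q L) w d hw) := by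
    intro χ v' c' hv' he
    subst he
    have e2 : ∀ z, refl' (qA Q L) w d hw (LinearMap.rTensor (Fin n → R) (χ.restrictScalars R).toLinearMap z) =
        LinearMap.rTensor (Fin n → R) (χ.restrictScalars R).toLinearMap (refl' (qA Q B) wB dB hdB z) := fun z ↦ by
      have := refl'_push (χ.restrictScalars R) wB dB hdB d (by rw [hwL, hw]) z
      simp only [hwL] at this
      exact this
    exact matOf_push (χ.restrictScalars R) _ _ fun z ↦ by
      rw [LinearEquiv.mul_apply, LinearEquiv.mul_apply, e2, refl'_push (χ.restrictScalars R) vB cB hcB c' hv']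
  refine good_of_curve hc.isGrpEqns B (hc.matOf_mem (hpair B vB wB cB dB hcB hdB)) χ0 χ1 ?_ ?_
  · exact hend χ0 v c hv (by rw [hχ0, hev]; simp)
  · rw [hend χ1 w d hw (by rw [hχ1, hev]; simp), refl'_refl', matOf_one]

theorem good_of_pairGen (hc : Cuts S F)
    (hpair : ∀ (A : Type u) [CommRing A] [Algebra R A] (v w : A ⊗[R] (Fin n → R)) (c d : Aˣ) (hv : qA Q A v = c)
      (hw : qA Q A w = d), refl' (qA Q A) v c hv * refl' (qA Q A) w d hw ∈ S A)
    (L : Type u) [Field L] [Algebra R L] {g : (L ⊗[R] (Fin n → R)) ≃ₗ[L] (L ⊗[R] (Fin n → R))}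
    (hg : g ∈ pairGen (qA Q L)) : g ∈ S L ∧ Good F L (matOf g) := by
  induction hg using Subgroup.closure_induction with
  | mem g hg =>
    obtain ⟨_, ⟨v, c, hv, rfl⟩, _, ⟨w, d, hw, rfl⟩, rfl⟩ := hg
    exact ⟨hpair L v w c d hv hw, good_pair hc hpair L v w c d hv hw⟩
  | one => exact ⟨(S L).one_mem, by rw [matOf_one]; exact good_one hc.isGrpEqns⟩
  | mul a b _ _ ha hb => exact ⟨(S L).mul_mem ha.1 hb.1, by rw [matOf_mul]; exact ha.2.mul hc.isGrpEqns hb.2⟩
  | inv a _ ha =>
    exact ⟨(S L).inv_mem ha.1, ha.2.inv hc.isGrpEqns (hc.matOf_mem ((S L).inv_mem ha.1))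
      (by rw [← matOf_mul, mul_inv_cancel, matOf_one])⟩

/-- The general conclusion. -/
theorem sOrth_main (hc : Cuts S F)
    (hpair : ∀ (A : Type u) [CommRing A] [Algebra R A] (v w : A ⊗[R] (Fin n → R)) (c d : Aˣ) (hv : qA Q A v = c)
      (hw : qA Q A w = d), refl' (qA Q A) v c hv * refl' (qA Q A) w d hw ∈ S A)
    (hgen : ∀ (L : Type u) [Field L] [IsAlgClosed L] [Algebra R L], ∀ g ∈ S L, g ∈ pairGen (qA Q L))
    (hsm : Algebra.Smooth R (eqAlg F)) (d : ℕ)
    (htan : ∀ (L : Type u) [Field L] [IsAlgClosed L] [Algebra R L],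
      Module.finrank L (tanSpace F (fun ij : Fin n × Fin n ↦ (1 : Matrix (Fin n) (Fin n) L) ij.1 ij.2)) = d)
    {G : Over (Spec (CommRingCat.of R))} [GrpObj G] (D : QuadGrp.LinRep R (Fin n → R) S G) :
    SmoothOfRelativeDimension d G.hom ∧ ∀ s : ↥(Spec (CommRingCat.of R)), ConnectedSpace ↥(G.hom.fiber s) := by
  obtain ⟨i⟩ := exists_iso_of_linRep D F hc.mem hc.exists_mem
  refine ⟨?_, connectedSpace_fiber hc.isGrpEqns (fun L _ _ _ g hg ↦ ?_) i⟩
  · rw [← MorphismProperty.cancel_left_of_respectsIso (@SmoothOfRelativeDimension d) i.hom.left, Over.w i.hom]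
    haveI := hsm
    refine smoothOfRelativeDimension_eqAlg F d fun L _ _ _ v hv ↦ ?_
    have := finrank_tan_eq_one (L := L) hc.isGrpEqns (G := Matrix.of fun i j ↦ v (i, j)) hv
    exact this.trans (htan L)
  · obtain ⟨h, hh, rfl⟩ := hc.exists_matOf hg
    exact (good_of_pairGen hc hpair L (hgen L h hh)).2

end Cuts

section Tangent

variable {L : Type u} [Field L] [Algebra R L]

/-- The polar matrix over `L`. -/
noncomputable abbrev polL (Q : QuadraticForm R (Fin n → R)) (L : Type u) [Field L] [Algebra R L] : Matrix (Fin n) (Fin n) L :=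
  polarMat (bc (R := R) L) (qA Q L)

theorem polarMat_map {A B : Type u} [CommRing A] [Algebra R A] [CommRing B] [Algebra R B] (φ : A →ₐ[R] B) :
    polarMat (bc (R := R) B) (qA Q B) = (polarMat (bc (R := R) A) (qA Q A)).map φ := by
  ext i j
  rw [Matrix.map_apply, polarMat_apply, polarMat_apply, ← rTensor_bc φ i, ← rTensor_bc φ j]
  simp only [polar, ← map_add, qA_rTensor, map_sub]

theorem polL_symm : (polL Q L)ᵀ = polL Q L := by
  ext i j; rw [Matrix.transpose_apply, polL, polarMat_apply, polarMat_apply, polar_comm]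

/-- The ideal of the dual numbers. -/
def epsIdeal (L : Type u) [Field L] : Ideal (DualNumber L) :=
  RingHom.ker (TrivSqZeroExt.fstHom L L L).toRingHom

theorem inr_mem_epsIdeal (x : L) : TrivSqZeroExt.inr x ∈ epsIdeal L := TrivSqZeroExt.fst_inr L x

theorem epsIdeal_sq : ∀ x ∈ epsIdeal L, ∀ y ∈ epsIdeal L, x * y = 0 := by
  intro x hx y hy
  have hx' : x.fst = 0 := hx
  have hy' : y.fst = 0 := hy
  ext <;> simp [hx', hy']

theorem isoEqn_dual (W : Matrix (Fin n) (Fin n) L) :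
    (∀ s, MvPolynomial.aeval (fun ij : Fin n × Fin n ↦ dualMat 1 W ij.1 ij.2) (isoEqn Q s) = 0) ↔
      IsAltMat (polL Q L * W) := by
  let A := DualNumber L
  let b := bc (R := R) (n := n) A
  let Y : Matrix (Fin n) (Fin n) A := Matrix.of fun i j ↦ TrivSqZeroExt.inr (W i j)
  let g : (A ⊗[R] (Fin n → R)) →ₗ[A] (A ⊗[R] (Fin n → R)) := LinearMap.id + Matrix.toLin b b Y
  have htab : table A g = fun ij : Fin n × Fin n ↦ dualMat 1 W ij.1 ij.2 := by
    funext ij
    simp only [table, g, b, map_add, LinearMap.toMatrix_id, LinearMap.toMatrix_toLin, Matrix.add_apply]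
    simp only [dualMat, Matrix.of_apply, Y, Matrix.one_apply]
    split_ifs <;> simp
  let φ : L →ₐ[R] A := IsScalarTower.toAlgHom R L A
  have hP : ∀ i j, (polarMat b (qA Q A) * Y) i j = TrivSqZeroExt.inr ((polL Q L * W) i j) := by
    intro i j
    simp only [b, polarMat_map (Q := Q) φ, Matrix.mul_apply, Matrix.map_apply, Y, Matrix.of_apply]
    refine Eq.trans ?_ (map_sum (TrivSqZeroExt.inrHom L L) (fun k ↦ polL Q L i k * W k j) Finset.univ).symm
    refine Finset.sum_congr rfl fun k _ ↦ ?_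
    exact TrivSqZeroExt.inl_mul_inr (R := L) (M := L) _ _
  have key : ∀ i j, MvPolynomial.aeval (table A g) (isoEqn Q s(i, j)) =
      if i = j then TrivSqZeroExt.inr ((polL Q L * W) i j)
      else TrivSqZeroExt.inr ((polL Q L * W) i j + (polL Q L * W) j i) := by
    intro i j
    rw [aeval_isoEqn, coeffs_comp_one_add (qA Q A) b epsIdeal_sq (qA Q A) (fun v ↦ by simp) Y
      (fun i j ↦ inr_mem_epsIdeal _) i j, add_sub_cancel_left]
    split_ifs
    · rw [hP]
    · rw [hP, hP, TrivSqZeroExt.inr_add]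
  rw [← htab]
  constructor
  · intro h
    have h' : ∀ i j, (if i = j then (polL Q L * W) i j else (polL Q L * W) i j + (polL Q L * W) j i) = 0 := fun i j ↦ by
      have := (key i j).symm.trans (h s(i, j))
      rw [← apply_ite TrivSqZeroExt.inr, ← TrivSqZeroExt.inr_zero L] at this
      exact TrivSqZeroExt.inr_injective this
    have hd : ∀ i, (polL Q L * W) i i = 0 := fun i ↦ by simpa using h' i i
    refine ⟨hd, fun i j ↦ ?_⟩
    by_cases hij : i = j
    · subst hij; rw [hd, add_zero]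
    · simpa [hij] using h' i j
  · rintro ⟨hd, hs⟩ s
    induction s using Sym2.ind with
    | _ i j =>
      rw [key]
      split_ifs with h
      · subst h; rw [hd, TrivSqZeroExt.inr_zero]
      · rw [hs, TrivSqZeroExt.inr_zero]

theorem finrank_tan_of_lie {κ : Type} [Fintype κ] (F : κ → MvPolynomial (Fin n × Fin n) R)
    (h1 : (1 : Matrix (Fin n) (Fin n) L) ∈ sol F L) (P : Submodule L (Matrix (Fin n) (Fin n) L))
    (h : ∀ W, dualMat 1 W ∈ sol F (DualNumber L) ↔ W ∈ P) :
    Module.finrank L (tanSpace F (fun ij : Fin n × Fin n ↦ (1 : Matrix (Fin n) (Fin n) L) ij.1 ij.2)) =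
      Module.finrank L P := by
  let e : Matrix (Fin n) (Fin n) L ≃ₗ[L] (Fin n × Fin n → L) :=
    { toFun := fun W ij ↦ W ij.1 ij.2
      invFun := fun w ↦ Matrix.of fun i j ↦ w (i, j)
      map_add' := fun _ _ ↦ rfl
      map_smul' := fun _ _ ↦ rfl
      left_inv := fun W ↦ rfl
      right_inv := fun w ↦ rfl }
  refine (LinearEquiv.finrank_eq (e.ofSubmodules P _ (Submodule.ext fun w ↦ ?_))).symm
  constructor
  · rintro ⟨W, hW, rfl⟩
    exact (mem_tan_iff_dual 1 W h1).2 ((h W).2 hW)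
  · intro hw
    exact ⟨Matrix.of fun i j ↦ w (i, j), (h _).1 ((mem_tan_iff_dual 1 (Matrix.of fun i j ↦ w (i, j)) h1).1 hw), rfl⟩

end Tangent

theorem eq_one_of_subsingleton {A : Type u} [CommRing A] [Algebra R A] [Subsingleton A]
    (g : (A ⊗[R] (Fin n → R)) ≃ₗ[A] (A ⊗[R] (Fin n → R))) : g = 1 :=
  haveI : Subsingleton (A ⊗[R] (Fin n → R)) := Module.subsingleton A _
  LinearEquiv.ext fun _ ↦ Subsingleton.elim _ _

theorem mem_sorth_even_iff (hn : Even n) {A : Type u} [CommRing A] [Algebra R A]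
    (g : (A ⊗[R] (Fin n → R)) ≃ₗ[A] (A ⊗[R] (Fin n → R))) :
    g ∈ QuadGrp.sorth Q A ↔ g ∈ QuadGrp.SOeven (qA Q A) := by
  rcases subsingleton_or_nontrivial A with h | h
  · rw [eq_one_of_subsingleton g]
    exact ⟨fun _ ↦ one_mem _, fun _ ↦ one_mem _⟩
  · unfold QuadGrp.sorth QuadGrp.SO
    rw [if_pos (by rw [Module.finrank_eq_card_basis (bc (R := R) A), Fintype.card_fin]; exact hn)]

theorem mem_sorth_odd_iff (hn : Odd n) {A : Type u} [CommRing A] [Algebra R A]
    (g : (A ⊗[R] (Fin n → R)) ≃ₗ[A] (A ⊗[R] (Fin n → R))) :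
    g ∈ QuadGrp.sorth Q A ↔ g ∈ QuadGrp.sorth' Q A := by
  rcases subsingleton_or_nontrivial A with h | h
  · rw [eq_one_of_subsingleton g]
    exact ⟨fun _ ↦ one_mem _, fun _ ↦ one_mem _⟩
  · unfold QuadGrp.sorth QuadGrp.SO
    rw [if_neg (by rw [Module.finrank_eq_card_basis (bc (R := R) A), Fintype.card_fin]; exact Nat.not_even_iff_odd.2 hn)]
    exact and_congr_left fun _ ↦ (baseChangeForm_isometry_iff A Q g).symm

theorem sorth_even_main (m : ℕ) {Q : QuadraticForm R (Fin (2 * m) → R)} (hQ : QuadGrp.IsRegular Q)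
    {G : Over (Spec (CommRingCat.of R))} [GrpObj G] (D : QuadGrp.SOrthRep Q G) :
    SmoothOfRelativeDimension (m * (2 * m - 1)) G.hom ∧
      ∀ s : ↥(Spec (CommRingCat.of R)), ConnectedSpace ↥(G.hom.fiber s) := by
  have hn : Even (2 * m) := even_two_mul m
  have hnd : QuadGrp.IsNondeg (Pi.basisFun R (Fin (2 * m))) (LinearEquiv.refl R R) Q :=
    ⟨fun _ ↦ hQ, fun h ↦ absurd hn (Nat.not_even_iff_odd.2 h)⟩
  obtain ⟨c, hci, hc⟩ := exists_dickson_idempotent hn hQ
  obtain ⟨cP, hcP⟩ := Ideal.Quotient.mk_surjective c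
  let F : Option (Sym2 (Fin (2 * m))) → MvPolynomial (Fin (2 * m) × Fin (2 * m)) R := fun k ↦ k.elim cP (isoEqn Q)
  have hphi : ∀ (A : Type u) [CommRing A] [Algebra R A] (v : Fin (2 * m) × Fin (2 * m) → A)
      (hv : ∀ s, MvPolynomial.aeval v (isoEqn Q s) = 0),
      (eqPoints (isoEqn Q) A).symm ⟨v, hv⟩ c = MvPolynomial.aeval v cP ∧
      ∀ g ∈ QuadGrp.O (qA Q A), table A (g : (A ⊗[R] (Fin (2 * m) → R)) ≃ₗ[A] (A ⊗[R] (Fin (2 * m) → R))).toLinearMap = v →
        (g ∈ QuadGrp.SOeven (qA Q A) ↔ MvPolynomial.aeval v cP = 0) := by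
    intro A _ _ v hv
    have e : (eqPoints (isoEqn Q) A).symm ⟨v, hv⟩ c = MvPolynomial.aeval v cP := by rw [← hcP]; rfl
    refine ⟨e, fun g hg hgt ↦ ?_⟩
    rw [← e]
    exact hc A g hg _ (hgt.trans (congrArg Subtype.val ((eqPoints (isoEqn Q) A).apply_symm_apply ⟨v, hv⟩)).symm)
  have hcuts : Cuts (fun A _ _ ↦ QuadGrp.sorth Q A) F := by
    refine ⟨fun A _ _ g hg ↦ ?_, fun A _ _ v hv ↦ ?_⟩
    · rw [mem_sorth_even_iff hn] at hg
      have hs := fun s ↦ table_of_isometry A Q g.toLinearMap hg.1 s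
      rintro (_ | s)
      · exact ((hphi A _ hs).2 g hg.1 rfl).1 hg
      · exact hs s
    · obtain ⟨g, hg, hgv⟩ := exists_equiv_of_table A hnd v fun s ↦ hv (some s)
      refine ⟨g, (mem_sorth_even_iff hn g).2 ?_, hgv⟩
      exact ((hphi A v fun s ↦ hv (some s)).2 g ((baseChangeForm_isometry_iff A Q g).1 hg) hgv).2 (hv none)
  refine sOrth_main (Q := Q) hcuts (fun A _ _ v w c d hv hw ↦ ?_) (fun L _ _ _ g hg ↦ ?_) ?_ _ (fun L _ _ _ ↦ ?_) D
  · rw [mem_sorth_even_iff hn]
    exact ⟨mul_mem (refl'_mem _ v c hv) (refl'_mem _ w d hw), map_refl'_mul _ v w c d hv hw _⟩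
  · rw [mem_sorth_even_iff hn] at hg
    exact mem_pairGen_of_SOeven (bc (R := R) L) hn (qA_regular (A := L) hQ) hg
  · refine smooth_eqAlg F fun A _ _ _ I hI hI2 v hv ↦ ?_
    have hI0 : ∀ x ∈ I, ∀ y ∈ I, x * y = 0 := fun x hx y hy ↦ by
      have : x * y ∈ I ^ 2 := by rw [pow_two]; exact Ideal.mul_mem_mul hx hy
      rwa [hI2, Ideal.mem_bot] at this
    obtain ⟨g', hg', hgg⟩ := exists_lift_of_isUnit (QuadGrp.baseChangeForm A Q) (bc (R := R) A) hI0
      (isUnit_det_of_two A hnd (.inl hn))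
      (Matrix.toLin (bc (R := R) A) (bc (R := R) A) (Matrix.of fun i j ↦ v (i, j)))
      (sub_mem_of_table A Q _ fun s ↦ by rw [table_toLin (R := R)]; exact hv (some s))
    let X : Fin (2 * m) × Fin (2 * m) → A := fun ij ↦ table A g' ij - v ij
    have hX : ∀ ij, X ij ∈ I := fun ij ↦ by
      have := sub_mem_of_mem_smul_top (bc (R := R) A) (hgg (bc (R := R) A ij.2)) ij.1
      rw [map_sub, Finsupp.sub_apply, ← LinearMap.toMatrix_apply (bc (R := R) A) (bc (R := R) A),
        ← LinearMap.toMatrix_apply (bc (R := R) A) (bc (R := R) A), LinearMap.toMatrix_toLin] at this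
      exact this
    refine ⟨X, hX, ?_⟩
    have hs : ∀ s, MvPolynomial.aeval (v + X) (isoEqn Q s) = 0 := fun s ↦ by
      rw [show v + X = table A g' by funext ij; simp [X]]
      exact table_of_isometry A Q g' hg' s
    have hmemI : MvPolynomial.aeval (v + X) cP ∈ I := by
      rw [aeval_add_of_sq_zero hI0 v X hX]
      exact I.add_mem (hv none) (I.sum_mem fun i _ ↦ I.mul_mem_left _ (hX i))
    have hid : IsIdempotentElem (MvPolynomial.aeval (v + X) cP) := by
      rw [← (hphi A _ hs).1]; exact hci.map _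
    rintro (_ | s)
    · exact hid.eq_zero_of_isNilpotent ⟨2, by rw [pow_two]; exact hI0 _ hmemI _ hmemI⟩
    · exact hs s
  · have h1 : (1 : Matrix (Fin (2 * m)) (Fin (2 * m)) L) ∈ sol F L := hcuts.isGrpEqns.one_mem L
    rw [finrank_tan_of_lie F h1 (lieO (polL Q L)) fun W ↦ ?_,
      finrank_lieO (isUnit_det_of_two L hnd (.inl hn)), choose_two_two_mul]
    constructor
    · intro h
      exact (isoEqn_dual W).1 fun s ↦ h (some s)
    · intro h
      have hs := (isoEqn_dual W).2 (mem_lieO.1 h)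
      have h0 := h1 none
      have hid : IsIdempotentElem (MvPolynomial.aeval (fun ij : Fin (2 * m) × Fin (2 * m) ↦ dualMat 1 W ij.1 ij.2) cP) := by
        rw [← (hphi _ _ hs).1]; exact hci.map _
      rintro (_ | s)
      · refine hid.eq_zero_of_isNilpotent ⟨2, ?_⟩
        rw [pow_two]
        have hm : MvPolynomial.aeval (fun ij : Fin (2 * m) × Fin (2 * m) ↦ dualMat 1 W ij.1 ij.2) cP ∈ epsIdeal L := by
          rw [show (fun ij : Fin (2 * m) × Fin (2 * m) ↦ dualMat 1 W ij.1 ij.2) =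
            fun ij ↦ TrivSqZeroExt.inl ((1 : Matrix (Fin (2 * m)) (Fin (2 * m)) L) ij.1 ij.2) + TrivSqZeroExt.inr (W ij.1 ij.2) from rfl,
            aeval_dualNumber, show MvPolynomial.aeval (fun ij : Fin (2 * m) × Fin (2 * m) ↦ (1 : Matrix (Fin (2 * m)) (Fin (2 * m)) L) ij.1 ij.2) cP = 0 from h0,
            TrivSqZeroExt.inl_zero, zero_add]
          exact inr_mem_epsIdeal _
        exact epsIdeal_sq _ hm _ hm
      · exact hs s

/-- Transport of a representation along an equality of the groups of points. -/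
noncomputable def sorth'Rep_of_odd (hn : Odd n) {G : Over (Spec (CommRingCat.of R))} [GrpObj G]
    (D : QuadGrp.SOrthRep Q G) : QuadGrp.SOrth'Rep Q G where
  pts A _ _ := (D.pts A).trans (MulEquiv.subgroupCongr (SetLike.ext fun g ↦ mem_sorth_odd_iff hn g))
  natural A B _ _ _ _ φ y m := D.natural A B φ y m

theorem sorth_odd_main (m : ℕ) {Q : QuadraticForm R (Fin (2 * m + 1) → R)}
    (hQ : QuadGrp.IsSemiregular (Pi.basisFun R (Fin (2 * m + 1))) (LinearEquiv.refl R R) Q)
    {G : Over (Spec (CommRingCat.of R))} [GrpObj G] (D : QuadGrp.SOrthRep Q G) :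
    SmoothOfRelativeDimension (m * (2 * m + 1)) G.hom ∧
      ∀ s : ↥(Spec (CommRingCat.of R)), ConnectedSpace ↥(G.hom.fiber s) := by
  have hn : Odd (2 * m + 1) := odd_two_mul_add_one m
  have hnd : QuadGrp.IsNondeg (Pi.basisFun R (Fin (2 * m + 1))) (LinearEquiv.refl R R) Q :=
    ⟨fun h ↦ absurd h (Nat.not_even_iff_odd.2 hn), fun _ ↦ hQ⟩
  have hcuts : Cuts (fun A _ _ ↦ QuadGrp.sorth Q A) (sIsoEqn Q) := by
    refine ⟨fun A _ _ g hg ↦ ?_, fun A _ _ v hv ↦ ?_⟩
    · rw [mem_sorth_odd_iff hn] at hg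
      rintro (_ | s)
      · rw [sIsoEqn, map_sub, map_one, aeval_det, sub_eq_zero]
        exact (LinearEquiv.coe_det g).symm.trans ((congrArg Units.val (MonoidHom.mem_ker.1 hg.2)).trans Units.val_one)
      · exact table_of_isometry A Q _ ((baseChangeForm_isometry_iff A Q g).1 hg.1) s
    · obtain ⟨g, hg, rfl⟩ := exists_equiv_of_table A hnd v fun s ↦ hv (some s)
      refine ⟨g, (mem_sorth_odd_iff hn g).2 ⟨hg, MonoidHom.mem_ker.2 (Units.ext ?_)⟩, rfl⟩
      have := hv none
      rw [sIsoEqn, map_sub, map_one, aeval_det, sub_eq_zero] at this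
      rw [Units.val_one, LinearEquiv.coe_det]
      exact this
  refine sOrth_main (Q := Q) hcuts (fun A _ _ v w c d hv hw ↦ ?_) (fun L _ _ _ g hg ↦ ?_) ?_ _ (fun L _ _ _ ↦ ?_) D
  · rw [mem_sorth_odd_iff hn]
    refine ⟨(baseChangeForm_isometry_iff A Q _).2 (mul_mem (refl'_mem _ v c hv) (refl'_mem _ w d hw)),
      MonoidHom.mem_ker.2 ?_⟩
    rw [map_mul, det_refl', det_refl', neg_mul_neg, _root_.one_mul]
  · rw [mem_sorth_odd_iff hn] at hg
    exact mem_pairGen_of_det m (bc (R := R) L) (semiregular_baseChange L hQ)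
      ((baseChangeForm_isometry_iff L Q g).1 hg.1) (MonoidHom.mem_ker.1 hg.2)
  · have hs : Smooth G.hom := smooth_sorth' hnd (sorth'Rep_of_odd hn D) (.inl hn)
    exact (smooth_iff_of_linRep D (sIsoEqn Q) hcuts.mem hcuts.exists_mem).1 hs
  · rw [finrank_tan_of_lie (sIsoEqn Q) (hcuts.isGrpEqns.one_mem L) (lieSO (polL Q L)) fun W ↦ ?_,
      finrank_lieSO_of_semiregular m _ _ (semiregular_baseChange L hQ)]
    have hdet : MvPolynomial.aeval (fun ij : Fin (2 * m + 1) × Fin (2 * m + 1) ↦ dualMat 1 W ij.1 ij.2) (sIsoEqn Q none) =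
        TrivSqZeroExt.inr W.trace := by
      rw [sIsoEqn, map_sub, map_one, AlgHom.map_det]
      let Y : Matrix (Fin (2 * m + 1)) (Fin (2 * m + 1)) (DualNumber L) := Matrix.of fun i j ↦ TrivSqZeroExt.inr (W i j)
      have e : (MvPolynomial.aeval (fun ij : Fin (2 * m + 1) × Fin (2 * m + 1) ↦ dualMat 1 W ij.1 ij.2)).mapMatrix
          (Matrix.of fun i j ↦ (MvPolynomial.X (i, j) : MvPolynomial (Fin (2 * m + 1) × Fin (2 * m + 1)) R)) = 1 + Y := by
        ext i j : 1
        simp only [AlgHom.mapMatrix_apply, Matrix.map_apply, Matrix.of_apply, MvPolynomial.aeval_X, Matrix.add_apply,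
          Matrix.one_apply, dualMat, Y]
        split_ifs <;> simp
      rw [e, det_one_add_of_sq_zero epsIdeal_sq Y (fun i j ↦ inr_mem_epsIdeal _), add_sub_cancel_left,
        Matrix.trace, Matrix.trace]
      exact (map_sum (TrivSqZeroExt.inrHom L L) _ _).symm
    rw [mem_lieSO]
    constructor
    · intro h
      refine ⟨(isoEqn_dual W).1 fun s ↦ h (some s), TrivSqZeroExt.inr_injective (R := L) ?_⟩
      rw [← hdet, h none, TrivSqZeroExt.inr_zero]
    · rintro ⟨h1, h2⟩ (_ | s)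
      · rw [hdet, h2, TrivSqZeroExt.inr_zero]
      · exact (isoEqn_dual W).2 h1 s

end Groth.Agent.QuadH13
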