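import Groth.Agent.Lib.QuadH13.OddLocal
import Groth.Agent.Lib.QuadH13.SOrthNotFlat
import Mathlib.FieldTheory.IsAlgClosed.Basic
import Mathlib.LinearAlgebra.FiniteDimensional.Lemmas
import Mathlib.LinearAlgebra.Dimension.Finrank
import Mathlib.Algebra.Polynomial.Degree.SmallDegree

/-!
Semiregular forms of odd rank over algebraically closed fields are split.
-/

universe u v

open QuadraticMap

namespace Groth.Agent.QuadH13

set_option backward.isDefEq.respectTransparency.types false

theorem exists_hyperbolic {K : Type u} [Field K] [IsAlgClosed K] : ∀ (m : ℕ) {V : Type v} [AddCommGroup V]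
    [Module K V] [FiniteDimensional K V] (Q : QuadraticForm K V), Module.finrank K V = m * 2 →
    (∀ x, (∀ y, polar Q x y = 0) → x = 0) →
    ∃ f : (Fin m → Fin 2 → K) →ₗ[K] V, ∀ x, Q (f x) = ∑ i, x i 0 * x i 1 := by
  intro m
  induction m with
  | zero => intro V _ _ _ Q _ _; exact ⟨0, fun x ↦ by simp⟩
  | succ m ih =>
    intro V _ _ _ Q hdim hnd
    let b := Module.finBasisOfFinrankEq K V hdim
    obtain ⟨v, hv0, hv⟩ : ∃ v, v ≠ 0 ∧ Q v = 0 := by
      let u := b ⟨0, by omega⟩
      let w := b ⟨1, by omega⟩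
      by_cases hw : Q w = 0
      · exact ⟨w, b.ne_zero _, hw⟩
      obtain ⟨t, ht⟩ := IsAlgClosed.exists_root
        (Polynomial.C (Q w) * Polynomial.X ^ 2 + Polynomial.C (polar Q u w) * Polynomial.X + Polynomial.C (Q u))
        (by rw [Polynomial.degree_quadratic hw]; decide)
      refine ⟨u + t • w, fun h ↦ ?_, ?_⟩
      · have := congrArg (fun z ↦ b.repr z ⟨0, by omega⟩) h
        simp [u, w] at this
      · simp only [Polynomial.IsRoot, Polynomial.eval_add, Polynomial.eval_mul, Polynomial.eval_C, Polynomial.eval_pow,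
          Polynomial.eval_X] at ht
        rw [QuadraticMap.map_add Q, QuadraticMap.map_smul, polar_smul_right, smul_eq_mul, smul_eq_mul]
        linear_combination ht
    obtain ⟨y, hy⟩ : ∃ y, polar Q v y ≠ 0 := by
      by_contra h; push Not at h; exact hv0 (hnd v h)
    obtain ⟨y', hy'⟩ : ∃ y', polar Q v y' = 1 :=
      ⟨(polar Q v y)⁻¹ • y, by rw [polar_smul_right, smul_eq_mul, inv_mul_cancel₀ hy]⟩
    let w := y' - Q y' • v
    have hvv : polar Q v v = 0 := by rw [polar_self, hv, smul_zero]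
    have hvw : polar Q v w = 1 := by rw [polar_sub_right, polar_smul_right, hvv, smul_zero, sub_zero, hy']
    have hw : Q w = 0 := by
      have : w = y' + (-Q y') • v := by simp only [w, neg_smul, sub_eq_add_neg]
      rw [this, QuadraticMap.map_add Q, QuadraticMap.map_smul, polar_smul_right, polar_comm, hy', hv,
        smul_eq_mul, smul_eq_mul]
      ring
    have hww : polar Q w w = 0 := by rw [polar_self, hw, smul_zero]
    let P : V →ₗ[K] K × K := ((polarBilin Q w).prod (polarBilin Q v))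
    have hPs : Function.Surjective P := fun p ↦ ⟨p.1 • v + p.2 • w, Prod.ext
      (by simp [P, polar_comm (⇑Q) w v, hvw, hww])
      (by simp [P, hvv, hvw])⟩
    let W := LinearMap.ker P
    have hW : Module.finrank K W = m * 2 := by
      have h := LinearMap.finrank_range_add_finrank_ker P
      rw [LinearMap.range_eq_top.2 hPs, finrank_top, Module.finrank_prod, Module.finrank_self, hdim] at h
      change 1 + 1 + Module.finrank K W = _ at h
      omega
    have hmem : ∀ x, x ∈ W ↔ polar Q w x = 0 ∧ polar Q v x = 0 := fun x ↦ by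
      simp [W, P, Prod.ext_iff]
    obtain ⟨f, hf⟩ := ih (Q.comp W.subtype) hW fun x hx ↦ by
      refine Subtype.ext (hnd _ fun y ↦ ?_)
      obtain ⟨hx1, hx2⟩ := (hmem _).1 x.2
      have hyW : y - polar Q w y • v - polar Q v y • w ∈ W := by
        rw [hmem]
        constructor <;>
          simp [polar_sub_right, polar_smul_right, polar_comm (⇑Q) w v, hvw, hvv, hww]
      have h0 := hx ⟨_, hyW⟩
      simp only [polar, QuadraticMap.comp_apply, Submodule.subtype_apply, Submodule.coe_add] at h0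
      change polar Q (x : V) (y - polar Q w y • v - polar Q v y • w) = 0 at h0
      rwa [polar_sub_right, polar_sub_right, polar_smul_right, polar_smul_right, polar_comm (⇑Q) (x : V) v,
        polar_comm (⇑Q) (x : V) w, hx1, hx2, smul_zero, smul_zero, sub_zero, sub_zero] at h0
    refine ⟨((LinearMap.proj (R := K) (φ := fun _ : Fin 2 ↦ K) 0).comp (LinearMap.proj 0)).smulRight v +
      ((LinearMap.proj (R := K) (φ := fun _ : Fin 2 ↦ K) 1).comp (LinearMap.proj 0)).smulRight w +
      W.subtype.comp (f.comp (LinearMap.funLeft K (Fin 2 → K) Fin.succ)), fun x ↦ ?_⟩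
    obtain ⟨h1, h2⟩ := (hmem _).1 (f (x ∘ Fin.succ)).2
    have hsum : Q (f (x ∘ Fin.succ) : V) = ∑ i : Fin m, x i.succ 0 * x i.succ 1 := hf _
    simp only [LinearMap.add_apply, LinearMap.smulRight_apply, LinearMap.comp_apply, LinearMap.proj_apply]
    change Q (x 0 0 • v + x 0 1 • w + (f (x ∘ Fin.succ) : V)) = _
    rw [QuadraticMap.map_add Q (x 0 0 • v + x 0 1 • w), QuadraticMap.map_add Q (x 0 0 • v),
      polar_add_left, polar_smul_left, polar_smul_left, polar_smul_left, polar_smul_right, hsum, h1, h2,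
      QuadraticMap.map_smul, QuadraticMap.map_smul, hv, hw, hvw, Fin.sum_univ_succ]
    simp

theorem splitForm_odd_apply {R : Type u} [CommRing R] (m : ℕ) (x : Fin (m * 2 + 1) → R) :
    QuadGrp.splitForm R (m * 2 + 1) x = x 0 * x 0 + QuadGrp.splitForm R (m * 2) (x ∘ Fin.succ) := by
  have h1 : (m * 2 + 1) % 2 = 1 := by omega
  rw [splitForm_even_apply, QuadGrp.splitForm, dif_pos h1, _root_.add_apply, QuadraticMap.comp_apply, sum_apply, add_comm]
  congr 1
  refine Fintype.sum_equiv (finCongr (by omega)) _ _ fun i ↦ ?_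
  rw [QuadraticMap.linMulLin_apply, LinearMap.proj_apply, LinearMap.proj_apply, Function.comp_apply, Function.comp_apply]
  congr 2 <;> ext <;> simp <;> omega

theorem splitForm_odd_semiregular {R : Type u} [CommRing R] (m : ℕ) :
    QuadGrp.IsSemiregular (Pi.basisFun R (Fin (m * 2 + 1))) (LinearEquiv.refl R R) (QuadGrp.splitForm R (m * 2 + 1)) := by
  classical
  have hsucc : ∀ k : Fin (m * 2), (Pi.single k.succ (1 : R) : Fin (m * 2 + 1) → R) ∘ Fin.succ = Pi.single k 1 := fun k ↦ by
    funext l; simp [Pi.single_apply]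
  have h0succ : (Pi.single (0 : Fin (m * 2 + 1)) (1 : R)) ∘ Fin.succ = 0 := by
    funext l; simp [Fin.succ_ne_zero]
  have hoff : ∀ j, j ≠ (0 : Fin (m * 2 + 1)) → polar (QuadGrp.splitForm R (m * 2 + 1))
      (Pi.basisFun R _ 0) (Pi.basisFun R _ j) = 0 := by
    intro j hj
    obtain ⟨k, rfl⟩ := Fin.exists_succ_eq.2 hj
    simp only [Pi.basisFun_apply, polar, splitForm_odd_apply, Pi.add_apply]
    rw [show ∀ x y : Fin (m * 2 + 1) → R, (x + y) ∘ Fin.succ = x ∘ Fin.succ + y ∘ Fin.succ from fun _ _ ↦ rfl,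
      hsucc, h0succ, _root_.zero_add, map_zero]
    simp
  rw [QuadGrp.IsSemiregular, halfDisc_eq_mul _ _ ⟨m, by ring⟩ 0 hoff,
    det_of_row_single _ 0 (fun j hj ↦ by rw [Matrix.updateRow_self, Pi.single_eq_of_ne hj]), Matrix.updateRow_self,
    Pi.single_eq_same, _root_.one_mul]
  refine IsUnit.mul ?_ ?_
  · rw [Pi.basisFun_apply, splitForm_odd_apply, h0succ, map_zero, Pi.single_eq_same, _root_.add_zero, _root_.one_mul]
    exact isUnit_one
  convert isUnit_det_polarMat (Pi.basisFun R (Fin (m * 2))) (splitForm_even_regular (R := R) m) using 2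
  ext k l
  rw [Matrix.submatrix_apply, Matrix.updateRow_ne (Fin.succAbove_ne 0 k), polarMat_apply, polarMat_apply,
    Fin.succAbove_zero]
  simp only [Pi.basisFun_apply, polar, splitForm_odd_apply, Pi.add_apply]
  rw [show ∀ x y : Fin (m * 2 + 1) → R, (x + y) ∘ Fin.succ = x ∘ Fin.succ + y ∘ Fin.succ from fun _ _ ↦ rfl,
    hsucc, hsucc]
  simp [(Fin.succ_ne_zero k).symm, (Fin.succ_ne_zero l).symm]

theorem exists_isometry_split {K : Type u} [Field K] [IsAlgClosed K] (m : ℕ)
    (Q : QuadraticForm K (Fin (m * 2 + 1) → K)) :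
    QuadGrp.IsSemiregular (Pi.basisFun K (Fin (m * 2 + 1))) (LinearEquiv.refl K K) Q →
    ∃ g : (Fin (m * 2 + 1) → K) →ₗ[K] (Fin (m * 2 + 1) → K), ∀ x, Q (g x) = QuadGrp.splitForm K (m * 2 + 1) x := by
  generalize hn : m * 2 + 1 = n at Q
  obtain rfl : n = 2 * m + 1 := by omega
  intro hQ
  obtain ⟨S⟩ := exists_oddSplit m (Pi.basisFun K _) Q hQ
  have hreg : QuadGrp.IsRegular (Q.comp S.emb) := by
    refine isRegular_of_isUnit_det (Pi.basisFun K (Fin (2 * m))) ?_
    convert S.minor using 2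
    ext k l
    rw [polarMat_apply, Matrix.of_apply, ← S.emb_basis, ← S.emb_basis]
    simp [polar, map_add]
  obtain ⟨f, hf⟩ := exists_hyperbolic m (Q.comp S.emb) (by rw [Module.finrank_fintype_fun_eq_card, Fintype.card_fin, Nat.mul_comm])
    fun x hx ↦ hreg.1 (a₂ := 0) (by
      rw [map_zero]
      exact LinearMap.ext fun y ↦ hx y)
  obtain ⟨z, hz⟩ := IsAlgClosed.exists_eq_mul_self (S.a : K)
  have hz0 : z ≠ 0 := fun h ↦ S.a.ne_zero (by rw [hz, h, zero_mul])
  let c : (Fin (2 * m + 1) → K) →ₗ[K] (Fin m → Fin 2 → K) :=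
    LinearMap.pi fun i ↦ LinearMap.pi fun j ↦ LinearMap.proj ((finProdFinEquiv (i, j)).succ.cast hn)
  refine ⟨(LinearMap.proj 0).smulRight (z⁻¹ • S.bas S.idx) + S.emb.comp (f.comp c), fun x ↦ ?_⟩
  have hx := hf (c x)
  rw [QuadraticMap.comp_apply] at hx
  rw [LinearMap.add_apply, LinearMap.smulRight_apply, LinearMap.comp_apply, LinearMap.comp_apply, LinearMap.proj_apply,
    smul_smul, QuadraticMap.map_add Q, QuadraticMap.map_smul, polar_smul_left, S.orth_emb, smul_zero,
    _root_.add_zero, S.val, hx, smul_eq_mul, hz]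
  have hcast : ∀ (n : ℕ) (hn : m * 2 + 1 = n) (x : Fin n → K),
      QuadGrp.splitForm K n x = x ((0 : Fin (m * 2 + 1)).cast hn) * x ((0 : Fin (m * 2 + 1)).cast hn) +
        ∑ i : Fin m, x ((finProdFinEquiv (i, 0)).succ.cast hn) * x ((finProdFinEquiv (i, 1)).succ.cast hn) := by
    rintro n rfl x
    rw [splitForm_odd_apply, splitForm_even_apply]
    rfl
  rw [hcast _ hn]
  simp only [c, LinearMap.pi_apply, LinearMap.proj_apply]
  rw [show ((0 : Fin (m * 2 + 1)).cast hn) = 0 from rfl]
  field_simp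

end Groth.Agent.QuadH13
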