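import Groth.Agent.Lib.QuadH13.OrthLift

/-!
Lifting isometries between two semiregular forms of odd rank along square-zero extensions.
-/

universe u v

open QuadraticMap Matrix

namespace Groth.Agent.QuadH13

variable {A : Type u} [CommRing A] {n : ℕ} {V : Type v} [AddCommGroup V] [Module A V]
  (Q S : QuadraticForm A V) (b : Module.Basis (Fin n) A V) {I : Ideal A}

theorem sub_mem_coeffs₂ {g : V →ₗ[A] V} (hg : ∀ v, Q (g v) - S v ∈ I) (s : Sym2 (Fin n)) :
    QuadGrp.coeffs b (LinearEquiv.refl A A) S s - QuadGrp.coeffs b (LinearEquiv.refl A A) (Q.comp g) s ∈ I := by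
  induction s using Sym2.ind with
  | _ i j =>
    simp only [QuadGrp.coeffs_mk, LinearEquiv.refl_apply, QuadraticMap.comp_apply]
    split_ifs
    · rw [← neg_sub]; exact I.neg_mem (hg _)
    · simp only [polar, QuadraticMap.comp_apply]
      convert I.neg_mem (I.sub_mem (I.sub_mem (hg (b i + b j)) (hg (b i))) (hg (b j))) using 1
      ring

/-- Regular source: isometries between two forms lift. -/
theorem exists_lift₂_of_isUnit (hI : ∀ x ∈ I, ∀ y ∈ I, x * y = 0) (hP : IsUnit (polarMat b S).det)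
    (g : V →ₗ[A] V) (hg : ∀ v, Q (g v) - S v ∈ I) :
    ∃ g' : V →ₗ[A] V, (∀ v, Q (g' v) = S v) ∧ ∀ v, g' v - g v ∈ I • (⊤ : Submodule A V) := by
  classical
  let e : Sym2 (Fin n) → A := fun s ↦
    QuadGrp.coeffs b (LinearEquiv.refl A A) S s - QuadGrp.coeffs b (LinearEquiv.refl A A) (Q.comp g) s
  let β : Matrix (Fin n) (Fin n) A := Matrix.of fun i j ↦ if i ≤ j then e s(i, j) else 0
  have hβ : ∀ i j, β i j ∈ I := fun i j ↦ by
    simp only [β, Matrix.of_apply]; split_ifs
    · exact sub_mem_coeffs₂ Q S b hg _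
    · exact I.zero_mem
  let Y := (polarMat b S)⁻¹ * β
  have hPY : polarMat b S * Y = β := Matrix.mul_nonsing_inv_cancel_left _ _ hP
  refine ⟨g ∘ₗ (LinearMap.id + Matrix.toLin b b Y), fun v ↦ ?_, fun v ↦ ?_⟩
  · have : Q.comp (g ∘ₗ (LinearMap.id + Matrix.toLin b b Y)) = S := by
      rw [show Q.comp (g ∘ₗ (LinearMap.id + Matrix.toLin b b Y)) =
        (Q.comp g).comp (LinearMap.id + Matrix.toLin b b Y) from QuadraticMap.ext fun _ ↦ rfl]
      refine ext_of_coeffs b (funext fun s ↦ ?_)
      induction s using Sym2.ind with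
      | _ i j =>
        rw [coeffs_comp_one_add S b hI (Q.comp g) hg Y (inv_mul_mem hβ) i j, hPY]
        simp only [β, Matrix.of_apply, e]
        rcases lt_trichotomy i j with h | h | h
        · simp [h.ne, h.le, h.not_ge]
        · subst h; simp
        · simp [h.ne', h.le, h.not_ge, Sym2.eq_swap]
    exact QuadraticMap.congr_fun this v
  · simp only [LinearMap.comp_apply, LinearMap.add_apply, LinearMap.id_apply, map_add, add_sub_cancel_left]
    exact Submodule.smul_induction_on (toLin_mem_smul b (inv_mul_mem hβ) v)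
      (fun r hr m _ ↦ by rw [map_smul]; exact Submodule.smul_mem_smul hr Submodule.mem_top)
      (fun x y hx hy ↦ by rw [map_add]; exact add_mem hx hy)

theorem exists_lift₂_of_split (hn : Odd n) (hI : ∀ x ∈ I, ∀ y ∈ I, x * y = 0) (i₀ : Fin n)
    (hoff : ∀ j, j ≠ i₀ → polar S (b i₀) (b j) = 0) (hh : QuadGrp.IsSemiregular b (LinearEquiv.refl A A) S)
    (t : Aˣ) (ht : (t : A) ^ 2 * QuadGrp.halfDisc b (LinearEquiv.refl A A) Q = QuadGrp.halfDisc b (LinearEquiv.refl A A) S)
    (g : V →ₗ[A] V) (hg : ∀ v, Q (g v) - S v ∈ I) (hdet : LinearMap.det g - t ∈ I) :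
    ∃ g' : V →ₗ[A] V, (∀ v, Q (g' v) = S v) ∧ LinearMap.det g' = t ∧
      ∀ v, g' v - g v ∈ I • (⊤ : Submodule A V) := by
  classical
  let W := (polarMat b S).updateRow i₀ (Pi.single i₀ 1)
  have hsplit := halfDisc_eq_mul S b hn i₀ hoff
  have hW : IsUnit W.det := (IsUnit.mul_iff.1 (hsplit ▸ hh : IsUnit (S (b i₀) * W.det))).2
  let e : Sym2 (Fin n) → A := fun s ↦
    QuadGrp.coeffs b (LinearEquiv.refl A A) S s - QuadGrp.coeffs b (LinearEquiv.refl A A) (Q.comp g) s
  let β : Matrix (Fin n) (Fin n) A := Matrix.of fun i j ↦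
    if i = i₀ then 0 else if j = i₀ then e s(i, j) else if i ≤ j then e s(i, j) else 0
  have hβ : ∀ i j, β i j ∈ I := fun i j ↦ by
    simp only [β, Matrix.of_apply]
    split_ifs <;> first | exact sub_mem_coeffs₂ Q S b hg _ | exact I.zero_mem
  let Y₀ := W⁻¹ * β
  have hWY : W * Y₀ = β := Matrix.mul_nonsing_inv_cancel_left _ _ hW
  have hrow : ∀ j, Y₀ i₀ j = 0 := fun j ↦ by
    have := congrFun (congrFun hWY i₀) j
    simpa [W, β, Matrix.mul_apply, Matrix.updateRow_self, Pi.single_apply] using this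
  let d : A := (↑t⁻¹ : A) * LinearMap.det g - 1
  have hd' : d ∈ I := by
    have : d = (↑t⁻¹ : A) * (LinearMap.det g - t) := by rw [mul_sub, t.inv_mul]
    rw [this]; exact I.mul_mem_left _ hdet
  let y := -d - Y₀.trace
  let Y := Y₀ + Matrix.single i₀ i₀ y
  have hy : y ∈ I := I.sub_mem (I.neg_mem hd') (I.sum_mem fun i _ ↦ inv_mul_mem hβ i i)
  have hY : ∀ i j, Y i j ∈ I := fun i j ↦ I.add_mem (inv_mul_mem hβ i j) (by
    rw [Matrix.single_apply]; split_ifs
    · exact hy
    · exact I.zero_mem)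
  let g' := g ∘ₗ (LinearMap.id + Matrix.toLin b b Y)
  have hd : LinearMap.det g' = t := by
    rw [LinearMap.det_comp, ← Matrix.toLin_one b, ← map_add, LinearMap.det_toLin,
      det_one_add_of_sq_zero hI Y hY, show Y.trace = -d by simp [Y, y]]
    have h1 : LinearMap.det g = (t : A) * (1 + d) := by
      simp only [d]; rw [add_sub_cancel, ← mul_assoc, t.mul_inv, one_mul]
    rw [h1]
    linear_combination (-(t : A)) * hI _ hd' _ hd'
  have hPY : ∀ i j, i ≠ i₀ → (polarMat b S * Y) i j = β i j := by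
    intro i j hi
    have h1 : (polarMat b S * Y₀) i j = β i j := by
      rw [← hWY]
      simp [W, Matrix.mul_apply, Matrix.updateRow_ne hi]
    rw [Matrix.mul_add, Matrix.add_apply, h1]
    by_cases hj : j = i₀
    · subst hj
      rw [Matrix.mul_single_apply_same, polarMat_apply, polar_comm, hoff i hi, zero_mul, add_zero]
    · rw [Matrix.mul_single_apply_of_ne _ _ _ _ _ hj, add_zero]
  have hPY0 : ∀ j, j ≠ i₀ → (polarMat b S * Y) i₀ j = 0 := by
    intro j hj
    rw [Matrix.mul_add, Matrix.add_apply, Matrix.mul_single_apply_of_ne _ _ _ _ _ hj, add_zero, Matrix.mul_apply]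
    refine Finset.sum_eq_zero fun k _ ↦ ?_
    by_cases hk : k = i₀
    · subst hk; rw [hrow, mul_zero]
    · rw [polarMat_apply, hoff k hk, zero_mul]
  have hco : ∀ s : Sym2 (Fin n), s ≠ s(i₀, i₀) → QuadGrp.coeffs b (LinearEquiv.refl A A) (Q.comp g') s =
      QuadGrp.coeffs b (LinearEquiv.refl A A) S s := by
    intro s hs
    induction s using Sym2.ind with
    | _ i j =>
      rw [show Q.comp g' = (Q.comp g).comp (LinearMap.id + Matrix.toLin b b Y) from QuadraticMap.ext fun _ ↦ rfl,
        coeffs_comp_one_add S b hI (Q.comp g) hg Y hY i j]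
      by_cases hi : i = i₀
      · subst hi
        have hj : j ≠ i := fun h ↦ hs (by rw [h])
        rw [if_neg (Ne.symm hj), hPY0 j hj, hPY j i hj]
        simp [β, e, hj, Sym2.eq_swap]
      · rw [hPY i j hi]
        by_cases hj : j = i₀
        · subst hj
          rw [if_neg hi, hPY0 i hi]
          simp [β, e, hi]
        · rw [hPY j i hj]
          rcases lt_trichotomy i j with h | h | h
          · simp [β, e, hi, hj, h.ne, h.le, h.not_ge]
          · subst h; simp [β, e, hi]
          · simp [β, e, hi, hj, h.ne', h.le, h.not_ge, Sym2.eq_swap]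
  have hoff' : ∀ j, j ≠ i₀ → polar (Q.comp g') (b i₀) (b j) = 0 := fun j hj ↦ by
    have := hco s(i₀, j) fun h ↦ hj (by simpa using h)
    rw [QuadGrp.coeffs_mk, QuadGrp.coeffs_mk, if_neg (Ne.symm hj), if_neg (Ne.symm hj)] at this
    exact this.trans (hoff j hj)
  have hW' : (polarMat b (Q.comp g')).updateRow i₀ (Pi.single i₀ 1) = W := by
    ext i j
    simp only [W, Matrix.updateRow_apply]
    split_ifs with h
    · rfl
    · rw [polarMat_eq_coeffs, polarMat_eq_coeffs, hco]
      intro h'; rcases Sym2.eq_iff.1 h' with ⟨h1, -⟩ | ⟨h1, -⟩ <;> exact h h1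
  have h00 : Q (g' (b i₀)) = S (b i₀) := by
    have h1 := halfDisc_eq_mul (Q.comp g') b hn i₀ hoff'
    rw [halfDisc_comp hn, hd, ht, hsplit, hW'] at h1
    exact (hW.mul_left_injective h1).symm
  refine ⟨g', fun v ↦ QuadraticMap.congr_fun (show Q.comp g' = S from ext_of_coeffs b (funext fun s ↦ ?_)) v, hd,
    fun v ↦ ?_⟩
  · by_cases hs : s = s(i₀, i₀)
    · subst hs; simpa [QuadGrp.coeffs_mk] using h00
    · exact hco s hs
  · simp only [g', LinearMap.comp_apply, LinearMap.add_apply, LinearMap.id_apply, map_add, add_sub_cancel_left]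
    exact Submodule.smul_induction_on (toLin_mem_smul b hY v)
      (fun r hr m _ ↦ by rw [map_smul]; exact Submodule.smul_mem_smul hr Submodule.mem_top)
      (fun x y hx hy ↦ by rw [map_add]; exact add_mem hx hy)

/-- Isometries of prescribed determinant between two semiregular forms of odd rank lift over a local ring. -/
theorem exists_lift₂ [IsLocalRing A] (hn : Odd n) (hItop : I ≠ ⊤) (hI : ∀ x ∈ I, ∀ y ∈ I, x * y = 0)
    (hQ : QuadGrp.IsSemiregular b (LinearEquiv.refl A A) Q) (hS : QuadGrp.IsSemiregular b (LinearEquiv.refl A A) S)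
    (t : Aˣ) (ht : (t : A) ^ 2 * QuadGrp.halfDisc b (LinearEquiv.refl A A) Q = QuadGrp.halfDisc b (LinearEquiv.refl A A) S)
    (g : V →ₗ[A] V) (hg : ∀ v, Q (g v) - S v ∈ I) (hdet : LinearMap.det g - t ∈ I) :
    ∃ g' : V →ₗ[A] V, (∀ v, Q (g' v) = S v) ∧ LinearMap.det g' = t ∧
      ∀ v, g' v - g v ∈ I • (⊤ : Submodule A V) := by
  by_cases h2 : IsUnit (2 : A)
  · obtain ⟨g', hg', hgg⟩ := exists_lift₂_of_isUnit Q S b hI
      (by rw [← two_mul_halfDisc hn]; exact h2.mul hS) g hg
    refine ⟨g', hg', ?_, hgg⟩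
    have hd1 : LinearMap.det g' - t ∈ I := by
      convert I.add_mem (det_sub_mem b hgg) hdet using 1; ring
    have hne : IsUnit (LinearMap.det g' + t) := by
      by_contra hnu
      refine (IsLocalRing.mem_maximalIdeal _).1 ?_ (h2.mul t.isUnit)
      convert Ideal.sub_mem _ ((IsLocalRing.mem_maximalIdeal _).2 hnu) (IsLocalRing.le_maximalIdeal hItop hd1) using 1
      ring
    have hsq : LinearMap.det g' ^ 2 * QuadGrp.halfDisc b (LinearEquiv.refl A A) Q =
        (t : A) ^ 2 * QuadGrp.halfDisc b (LinearEquiv.refl A A) Q := by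
      rw [← halfDisc_comp hn b Q g', ht, show Q.comp g' = S from QuadraticMap.ext hg']
    have h0 : (LinearMap.det g' + t) * (LinearMap.det g' - t) = 0 := by
      linear_combination hQ.mul_left_injective hsq
    exact sub_eq_zero.1 (hne.mul_right_eq_zero.1 h0)
  · obtain ⟨c, i₀, hoff, hsc⟩ := exists_basis S b hn h2 hS
    refine exists_lift₂_of_split Q S c hn hI i₀ hoff hsc t ?_ g hg hdet
    have hc : c = b.map (b.equiv c (Equiv.refl _)) := by
      ext i; simp
    rw [hc, halfDisc_map Q b hn, halfDisc_map S b hn, mul_left_comm, ht]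

end Groth.Agent.QuadH13
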