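import Groth.Agent.Lib.QuadH13.SplitField
import Groth.Agent.Lib.QuadH13.TwoForm
import Mathlib.FieldTheory.IsAlgClosed.AlgebraicClosure
import Mathlib.RingTheory.Flat.FaithfullyFlat.Algebra
import Mathlib.RingTheory.Smooth.Flat
import Mathlib.RingTheory.AdjoinRoot

/-!
Semiregular forms of odd rank are split fppf-locally.
-/

universe u

open QuadraticMap TensorProduct

namespace Groth.Agent.QuadH13

set_option backward.isDefEq.respectTransparency.types false
set_option linter.style.haveILetI false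

variable {R : Type u} [CommRing R] {n : ℕ}

/-- The equations of an isometry of prescribed determinant between two forms given by coefficients. -/
noncomputable def pairEqn (a s : Sym2 (Fin n) → R) (t : R) : Option (Sym2 (Fin n)) → MvPolynomial (Fin n × Fin n) R
  | none => detX R n - MvPolynomial.C t
  | some q => Sym2.lift ⟨fun i j ↦
      (if i = j then triSum (MvPolynomial.C ∘ a) (fun k ↦ MvPolynomial.X (k, i))
        else triSum (MvPolynomial.C ∘ a) ((fun k ↦ MvPolynomial.X (k, i)) + fun k ↦ MvPolynomial.X (k, j)) -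
          triSum (MvPolynomial.C ∘ a) (fun k ↦ MvPolynomial.X (k, i)) -
          triSum (MvPolynomial.C ∘ a) (fun k ↦ MvPolynomial.X (k, j))) -
        MvPolynomial.C (s s(i, j)),
      fun i j ↦ by
        by_cases h : i = j
        · subst h; rfl
        · dsimp only
          rw [if_neg h, if_neg (Ne.symm h), Sym2.eq_swap, add_comm (fun k ↦ (MvPolynomial.X (k, i) : MvPolynomial (Fin n × Fin n) R))]
          ring⟩ q

variable {A : Type u} [CommRing A] [Algebra R A] (a s : Sym2 (Fin n) → R) (t : R)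

/-- The endomorphism with the matrix `v`. -/
noncomputable abbrev gPair (v : Fin n × Fin n → A) : (Fin n → A) →ₗ[A] (Fin n → A) :=
  Matrix.toLin (Pi.basisFun A (Fin n)) (Pi.basisFun A (Fin n)) (Matrix.of fun i j ↦ v (i, j))

theorem aeval_pairEqn_none (v : Fin n × Fin n → A) :
    MvPolynomial.aeval v (pairEqn a s t none) = LinearMap.det (gPair v) - algebraMap R A t := by
  change MvPolynomial.aeval v (detX R n - MvPolynomial.C t) = _
  rw [map_sub, MvPolynomial.aeval_C, AlgHom.map_det, LinearMap.det_toLin]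
  congr 2
  ext i j
  simp

theorem aeval_pairEqn_some (v : Fin n × Fin n → A) (q : Sym2 (Fin n)) :
    MvPolynomial.aeval v (pairEqn a s t (some q)) =
      QuadGrp.coeffs (Pi.basisFun A (Fin n)) (LinearEquiv.refl A A) ((ofCoeffs (algebraMap R A ∘ a)).comp (gPair v)) q -
      algebraMap R A (s q) := by
  induction q using Sym2.ind with
  | _ i j =>
    simp only [pairEqn, Sym2.lift_mk, map_sub, MvPolynomial.aeval_C, apply_ite (MvPolynomial.aeval v)]
    rw [coeffs_comp_eq, coeffs_ofCoeffs]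
    congr 1
    let φ : MvPolynomial (Fin n × Fin n) R →+* A := (MvPolynomial.aeval v).toRingHom
    change (if i = j then φ _ else φ _ - φ _ - φ _) = _
    have ha : φ ∘ (MvPolynomial.C ∘ a) = algebraMap R A ∘ a := funext fun q ↦ MvPolynomial.aeval_C _ _
    have hX : ∀ l, φ ∘ (fun k ↦ MvPolynomial.X (k, l)) =
        fun k ↦ LinearMap.toMatrix (Pi.basisFun A (Fin n)) (Pi.basisFun A (Fin n)) (gPair v) k l :=
      fun l ↦ funext fun k ↦ by
        rw [LinearMap.toMatrix_toLin]; exact MvPolynomial.aeval_X _ _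
    have hX2 : φ ∘ ((fun k ↦ MvPolynomial.X (k, i)) + fun k ↦ MvPolynomial.X (k, j)) =
        (φ ∘ fun k ↦ MvPolynomial.X (k, i)) + φ ∘ fun k ↦ MvPolynomial.X (k, j) := funext fun k ↦ map_add φ _ _
    rw [map_triSum, map_triSum, map_triSum, ha, hX2, hX, hX]

theorem pairEqn_iff (v : Fin n × Fin n → A) :
    (∀ k, MvPolynomial.aeval v (pairEqn a s t k) = 0) ↔
      (ofCoeffs (algebraMap R A ∘ a)).comp (gPair v) = ofCoeffs (algebraMap R A ∘ s) ∧
        LinearMap.det (gPair v) = algebraMap R A t := by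
  rw [Option.forall, aeval_pairEqn_none, sub_eq_zero, and_comm]
  refine and_congr_left fun _ ↦ ?_
  simp only [aeval_pairEqn_some, sub_eq_zero]
  refine ⟨fun h ↦ ext_of_coeffs (Pi.basisFun A (Fin n)) (funext fun q ↦ ?_), fun h q ↦ ?_⟩
  · rw [h, coeffs_ofCoeffs]; rfl
  · rw [h, coeffs_ofCoeffs]; rfl

theorem halfDisc_ofCoeffs (A : Type u) [CommRing A] [Algebra R A] :
    QuadGrp.halfDisc (Pi.basisFun A (Fin n)) (LinearEquiv.refl A A) (ofCoeffs (algebraMap R A ∘ a)) =
      algebraMap R A (QuadGrp.halfDisc (Pi.basisFun R (Fin n)) (LinearEquiv.refl R R) (ofCoeffs a)) :=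
  map_halfDisc _ _ _ _ _ (by rw [coeffs_ofCoeffs, coeffs_ofCoeffs])

theorem smooth_pairAlg (hn : Odd n)
    (ha : QuadGrp.IsSemiregular (Pi.basisFun R (Fin n)) (LinearEquiv.refl R R) (ofCoeffs a))
    (hs : QuadGrp.IsSemiregular (Pi.basisFun R (Fin n)) (LinearEquiv.refl R R) (ofCoeffs s))
    (ht : t ^ 2 * QuadGrp.halfDisc (Pi.basisFun R (Fin n)) (LinearEquiv.refl R R) (ofCoeffs a) =
      QuadGrp.halfDisc (Pi.basisFun R (Fin n)) (LinearEquiv.refl R R) (ofCoeffs s)) :
    Algebra.Smooth R (eqAlg (pairEqn a s t)) := by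
  refine smooth_eqAlg (pairEqn a s t) fun A _ _ _ I hI hI2 v hv ↦ ?_
  have hI0 : ∀ x ∈ I, ∀ y ∈ I, x * y = 0 := fun x hx y hy ↦ by
    have : x * y ∈ I ^ 2 := by rw [pow_two]; exact Ideal.mul_mem_mul hx hy
    rwa [hI2, Ideal.mem_bot] at this
  let Qa : QuadraticForm A (Fin n → A) := ofCoeffs (algebraMap R A ∘ a)
  let Qs : QuadraticForm A (Fin n → A) := ofCoeffs (algebraMap R A ∘ s)
  have hqa : QuadGrp.IsSemiregular (Pi.basisFun A (Fin n)) (LinearEquiv.refl A A) Qa := by
    rw [QuadGrp.IsSemiregular, halfDisc_ofCoeffs]; exact ha.map _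
  have hqs : QuadGrp.IsSemiregular (Pi.basisFun A (Fin n)) (LinearEquiv.refl A A) Qs := by
    rw [QuadGrp.IsSemiregular, halfDisc_ofCoeffs]; exact hs.map _
  have htu : IsUnit (algebraMap R A t) := by
    refine IsUnit.map _ ?_
    have h : IsUnit (t ^ 2 * QuadGrp.halfDisc (Pi.basisFun R (Fin n)) (LinearEquiv.refl R R) (ofCoeffs a)) := ht ▸ hs
    exact (isUnit_pow_iff two_ne_zero).1 (IsUnit.mul_iff.1 h).1
  have hg : ∀ w, Qa (gPair v w) - Qs w ∈ I := by
    intro w
    rw [← (Pi.basisFun A (Fin n)).sum_repr w, ← QuadraticMap.comp_apply, apply_eq_triSum, apply_eq_triSum, triSum, triSum,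
      ← Finset.sum_sub_distrib]
    refine I.sum_mem fun i _ ↦ ?_
    rw [← Finset.sum_sub_distrib]
    refine I.sum_mem fun j _ ↦ ?_
    split_ifs
    · rw [← sub_mul]
      refine I.mul_mem_right _ ?_
      rw [show QuadGrp.coeffs (Pi.basisFun A (Fin n)) (LinearEquiv.refl A A) Qs = algebraMap R A ∘ s from coeffs_ofCoeffs _,
        Function.comp_apply, ← aeval_pairEqn_some a s t v]
      exact hv _
    · rw [sub_zero]; exact I.zero_mem
  obtain ⟨g', hg', hd, hgg⟩ := exists_lift₂ Qa Qs (Pi.basisFun A (Fin n)) hn hI hI0 hqa hqs htu.unit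
    (by rw [IsUnit.unit_spec, halfDisc_ofCoeffs, halfDisc_ofCoeffs, ← map_pow, ← map_mul, ht])
    (gPair v) hg (by rw [IsUnit.unit_spec, ← aeval_pairEqn_none a s t v]; exact hv none)
  let v' : Fin n × Fin n → A := fun ij ↦ LinearMap.toMatrix (Pi.basisFun A (Fin n)) (Pi.basisFun A (Fin n)) g' ij.1 ij.2
  have hv' : gPair v' = g' := Matrix.toLin_toMatrix _ _ g'
  refine ⟨v' - v, fun ij ↦ ?_, ?_⟩
  · have := sub_mem_of_mem_smul_top (Pi.basisFun A (Fin n)) (hgg (Pi.basisFun A (Fin n) ij.2)) ij.1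
    rw [map_sub, Finsupp.sub_apply, ← LinearMap.toMatrix_apply (Pi.basisFun A (Fin n)) (Pi.basisFun A (Fin n)),
      ← LinearMap.toMatrix_apply (Pi.basisFun A (Fin n)) (Pi.basisFun A (Fin n)), LinearMap.toMatrix_toLin] at this
    exact this
  · rw [add_sub_cancel]
    refine (pairEqn_iff a s t v').2 ⟨?_, ?_⟩
    · rw [hv']; exact QuadraticMap.ext hg'
    · rw [hv', hd, IsUnit.unit_spec]

theorem faithfullyFlat_pairAlg {m : ℕ} (hnm : m * 2 + 1 = n)
    (ha : QuadGrp.IsSemiregular (Pi.basisFun R (Fin n)) (LinearEquiv.refl R R) (ofCoeffs a))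
    (hs : s = QuadGrp.coeffs (Pi.basisFun R (Fin n)) (LinearEquiv.refl R R) (QuadGrp.splitForm R n))
    (ht : t ^ 2 * QuadGrp.halfDisc (Pi.basisFun R (Fin n)) (LinearEquiv.refl R R) (ofCoeffs a) =
      QuadGrp.halfDisc (Pi.basisFun R (Fin n)) (LinearEquiv.refl R R) (ofCoeffs s)) :
    Module.FaithfullyFlat R (eqAlg (pairEqn a s t)) := by
  classical
  subst hnm
  have hss : QuadGrp.IsSemiregular (Pi.basisFun R (Fin (m * 2 + 1))) (LinearEquiv.refl R R) (ofCoeffs s) := by
    rw [hs, show ofCoeffs (QuadGrp.coeffs (Pi.basisFun R _) (LinearEquiv.refl R R) (QuadGrp.splitForm R (m * 2 + 1))) =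
      QuadGrp.splitForm R (m * 2 + 1) from ext_of_coeffs (Pi.basisFun R _) (coeffs_ofCoeffs _)]
    exact splitForm_odd_semiregular m
  haveI := smooth_pairAlg a s t ⟨m, by ring⟩ ha hss ht
  refine Module.FaithfullyFlat.of_comap_surjective fun p ↦ ?_
  let K := AlgebraicClosure p.asIdeal.ResidueField
  have hsK : ofCoeffs (algebraMap R K ∘ s) = QuadGrp.splitForm K (m * 2 + 1) := by
    refine ext_of_coeffs (Pi.basisFun K _) ?_
    rw [coeffs_ofCoeffs, hs]
    have hmap : ∀ x : Fin (m * 2 + 1) → R,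
        algebraMap R K (QuadGrp.splitForm R (m * 2 + 1) x) = QuadGrp.splitForm K (m * 2 + 1) (algebraMap R K ∘ x) := by
      intro x
      rw [splitForm_odd_apply, splitForm_odd_apply, splitForm_even_apply, splitForm_even_apply]
      simp
    funext q
    induction q using Sym2.ind with
    | _ i j =>
      have hsing : ∀ i : Fin (m * 2 + 1), algebraMap R K ∘ (Pi.single i (1 : R)) = Pi.single i 1 := fun i ↦ by
        funext l; simp [Pi.single_apply, apply_ite (algebraMap R K)]
      have hadd : algebraMap R K ∘ (Pi.single i (1 : R) + Pi.single j 1) = Pi.single i 1 + Pi.single j 1 := by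
        rw [← hsing i, ← hsing j]; funext l; exact map_add _ _ _
      simp only [Function.comp_apply, QuadGrp.coeffs_mk, LinearEquiv.refl_apply, Pi.basisFun_apply, polar,
        apply_ite (algebraMap R K), map_sub, hmap, hadd, hsing]
  have haK : QuadGrp.IsSemiregular (Pi.basisFun K (Fin (m * 2 + 1))) (LinearEquiv.refl K K)
      (ofCoeffs (algebraMap R K ∘ a)) := by
    rw [QuadGrp.IsSemiregular, halfDisc_ofCoeffs]; exact ha.map _
  obtain ⟨g, hg⟩ := exists_isometry_split m _ haK
  have hdet : LinearMap.det g ^ 2 = algebraMap R K t ^ 2 := by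
    refine haK.mul_left_injective ?_
    change _ * _ = _ * _
    rw [← halfDisc_comp ⟨m, by ring⟩, ← map_pow, halfDisc_ofCoeffs, ← map_mul, ht, ← halfDisc_ofCoeffs, hsK,
      show (ofCoeffs (algebraMap R K ∘ a)).comp g = QuadGrp.splitForm K (m * 2 + 1) from QuadraticMap.ext hg]
  obtain ⟨g', hg', hd'⟩ : ∃ g', (ofCoeffs (algebraMap R K ∘ a)).comp g' = ofCoeffs (algebraMap R K ∘ s) ∧
      LinearMap.det g' = algebraMap R K t := by
    rcases sq_eq_sq_iff_eq_or_eq_neg.1 hdet with h | h
    · exact ⟨g, by rw [hsK]; exact QuadraticMap.ext hg, h⟩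
    · refine ⟨(-1 : K) • g, QuadraticMap.ext fun x ↦ ?_, ?_⟩
      · rw [hsK, QuadraticMap.comp_apply, LinearMap.smul_apply, QuadraticMap.map_smul, hg, smul_eq_mul]
        ring
      · rw [LinearMap.det_smul, h, Module.finrank_fintype_fun_eq_card, Fintype.card_fin, (show Odd (m * 2 + 1) from ⟨m, by ring⟩).neg_one_pow]
        ring
  let v : Fin (m * 2 + 1) × Fin (m * 2 + 1) → K := fun ij ↦ LinearMap.toMatrix (Pi.basisFun K _) (Pi.basisFun K _) g' ij.1 ij.2
  have hv : gPair v = g' := Matrix.toLin_toMatrix _ _ g'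
  let f := (eqPoints (pairEqn a s t) K).symm ⟨v, (pairEqn_iff a s t v).2 (by rw [hv]; exact ⟨hg', hd'⟩)⟩
  refine ⟨⟨RingHom.ker f, RingHom.ker_isPrime f⟩, PrimeSpectrum.ext ?_⟩
  ext r
  change f (algebraMap R _ r) = 0 ↔ _
  rw [AlgHom.commutes, IsScalarTower.algebraMap_apply R p.asIdeal.ResidueField K, map_eq_zero,
    Ideal.algebraMap_residueField_eq_zero]

theorem exists_fppf_split {m : ℕ} (hnm : m * 2 + 1 = n) (Q : QuadraticForm R (Fin n → R))
    (hQ : QuadGrp.IsSemiregular (Pi.basisFun R (Fin n)) (LinearEquiv.refl R R) Q) :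
    ∃ (A : Type u) (_ : CommRing A) (_ : Algebra R A), Module.FaithfullyFlat R A ∧ Algebra.FinitePresentation R A ∧
      Nonempty ((QuadGrp.baseChangeForm A Q).IsometryEquiv (QuadGrp.baseChangeForm A (QuadGrp.splitForm R n))) := by
  classical
  have hS : QuadGrp.IsSemiregular (Pi.basisFun R (Fin n)) (LinearEquiv.refl R R) (QuadGrp.splitForm R n) := by
    subst hnm; exact splitForm_odd_semiregular m
  obtain ⟨h, hh⟩ := hQ.exists_left_inv
  let c : R := h * QuadGrp.halfDisc (Pi.basisFun R (Fin n)) (LinearEquiv.refl R R) (QuadGrp.splitForm R n)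
  have hmon : ((Polynomial.X : Polynomial R) ^ 2 - Polynomial.C c).Monic := Polynomial.monic_X_pow_sub_C c two_ne_zero
  let B := AdjoinRoot ((Polynomial.X : Polynomial R) ^ 2 - Polynomial.C c)
  haveI : Module.Free R B := hmon.free_adjoinRoot
  haveI : Module.FaithfullyFlat R B := by
    rcases subsingleton_or_nontrivial R with _ | _
    · exact Module.FaithfullyFlat.of_comap_surjective fun p ↦ isEmptyElim p
    haveI : Nontrivial B := by
      let pb := AdjoinRoot.powerBasis' hmon
      exact ⟨⟨pb.basis ⟨0, by rw [AdjoinRoot.powerBasis'_dim, Polynomial.natDegree_X_pow_sub_C]; omega⟩, 0, pb.basis.ne_zero _⟩⟩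
    infer_instance
  haveI : Algebra.FinitePresentation R (Polynomial R) := Algebra.FinitePresentation.polynomial R R
  haveI : Algebra.FinitePresentation R B := Algebra.FinitePresentation.quotient (Submodule.fg_span_singleton _)
  let r : B := AdjoinRoot.root _
  let aR := QuadGrp.coeffs (Pi.basisFun R (Fin n)) (LinearEquiv.refl R R) Q
  let sR := QuadGrp.coeffs (Pi.basisFun R (Fin n)) (LinearEquiv.refl R R) (QuadGrp.splitForm R n)
  let aB : Sym2 (Fin n) → B := algebraMap R B ∘ aR
  let sB : Sym2 (Fin n) → B := algebraMap R B ∘ sR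
  have haR : ofCoeffs aR = Q := ext_of_coeffs (Pi.basisFun R _) (coeffs_ofCoeffs _)
  have hsR : ofCoeffs sR = QuadGrp.splitForm R n := ext_of_coeffs (Pi.basisFun R _) (coeffs_ofCoeffs _)
  have haB : QuadGrp.IsSemiregular (Pi.basisFun B (Fin n)) (LinearEquiv.refl B B) (ofCoeffs aB) := by
    rw [QuadGrp.IsSemiregular, halfDisc_ofCoeffs, haR]; exact hQ.map _
  have ht : r ^ 2 * QuadGrp.halfDisc (Pi.basisFun B (Fin n)) (LinearEquiv.refl B B) (ofCoeffs aB) =
      QuadGrp.halfDisc (Pi.basisFun B (Fin n)) (LinearEquiv.refl B B) (ofCoeffs sB) := by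
    have h0 := AdjoinRoot.eval₂_root ((Polynomial.X : Polynomial R) ^ 2 - Polynomial.C c)
    rw [Polynomial.eval₂_sub, Polynomial.eval₂_X_pow, Polynomial.eval₂_C, sub_eq_zero] at h0
    rw [halfDisc_ofCoeffs, halfDisc_ofCoeffs, haR, hsR, show r ^ 2 = algebraMap R B c from h0, ← map_mul]
    congr 1
    simp only [c]
    linear_combination (QuadGrp.halfDisc (Pi.basisFun R (Fin n)) (LinearEquiv.refl R R) (QuadGrp.splitForm R n)) * hh
  have hsB : sB = QuadGrp.coeffs (Pi.basisFun B (Fin n)) (LinearEquiv.refl B B) (QuadGrp.splitForm B n) := by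
    subst hnm
    have hmap : ∀ x : Fin (m * 2 + 1) → R,
        algebraMap R B (QuadGrp.splitForm R (m * 2 + 1) x) = QuadGrp.splitForm B (m * 2 + 1) (algebraMap R B ∘ x) := by
      intro x
      rw [splitForm_odd_apply, splitForm_odd_apply, splitForm_even_apply, splitForm_even_apply]
      simp
    funext q
    induction q using Sym2.ind with
    | _ i j =>
      have hsing : ∀ i : Fin (m * 2 + 1), algebraMap R B ∘ (Pi.single i (1 : R)) = Pi.single i 1 := fun i ↦ by
        funext l; simp [Pi.single_apply, apply_ite (algebraMap R B)]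
      have hadd : algebraMap R B ∘ (Pi.single i (1 : R) + Pi.single j 1) = Pi.single i 1 + Pi.single j 1 := by
        rw [← hsing i, ← hsing j]; funext l; exact map_add _ _ _
      simp only [sB, sR, Function.comp_apply, QuadGrp.coeffs_mk, LinearEquiv.refl_apply, Pi.basisFun_apply, polar,
        apply_ite (algebraMap R B), map_sub, hmap, hadd, hsing]
  let U := eqAlg (pairEqn aB sB r)
  haveI : Module.FaithfullyFlat B U := faithfullyFlat_pairAlg aB sB r hnm haB hsB ht
  refine ⟨U, inferInstance, inferInstance, Module.FaithfullyFlat.trans R B U, Algebra.FinitePresentation.trans R B U, ?_⟩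
  obtain ⟨v, hv⟩ : ∃ v : Fin n × Fin n → U, ∀ k, MvPolynomial.aeval v (pairEqn aB sB r k) = 0 :=
    ⟨_, ((eqPoints (pairEqn aB sB r) U) (AlgHom.id B U)).2⟩
  obtain ⟨h1, h2⟩ := (pairEqn_iff aB sB r v).1 hv
  have htu : IsUnit (algebraMap B U r) := by
    refine IsUnit.map _ ?_
    have h : IsUnit (r ^ 2 * QuadGrp.halfDisc (Pi.basisFun B (Fin n)) (LinearEquiv.refl B B) (ofCoeffs aB)) := by
      rw [ht, halfDisc_ofCoeffs, hsR]; exact hS.map _
    exact (isUnit_pow_iff two_ne_zero).1 (IsUnit.mul_iff.1 h).1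
  let e := LinearMap.equivOfIsUnitDet (f := gPair v) (h2 ▸ htu)
  let L := (bc (R := R) (n := n) U).equivFun
  have hL : ∀ (P : QuadraticForm R (Fin n → R)) (x : U ⊗[R] (Fin n → R)), QuadGrp.baseChangeForm U P x =
      ofCoeffs (algebraMap R U ∘ QuadGrp.coeffs (Pi.basisFun R (Fin n)) (LinearEquiv.refl R R) P) (L x) := by
    intro P x
    conv_lhs => rw [← (bc (R := R) U).sum_repr x, apply_eq_triSum, coeffs_baseChange]
    conv_rhs => rw [← (Pi.basisFun U (Fin n)).sum_repr (L x), apply_eq_triSum, coeffs_ofCoeffs]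
    congr 1
  have hcomp : ∀ f : Sym2 (Fin n) → R, algebraMap R U ∘ f = algebraMap B U ∘ (algebraMap R B ∘ f) := fun f ↦
    funext fun q ↦ IsScalarTower.algebraMap_apply R B U _
  refine ⟨{ toLinearEquiv := L.trans (e.symm.trans L.symm), map_app' := fun x ↦ ?_ }⟩
  change QuadGrp.baseChangeForm U (QuadGrp.splitForm R n) (L.symm (e.symm (L x))) = _
  rw [hL, hL, L.apply_symm_apply, hcomp, hcomp]
  change ofCoeffs (algebraMap B U ∘ sB) (e.symm (L x)) = ofCoeffs (algebraMap B U ∘ aB) (L x)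
  rw [← h1, QuadraticMap.comp_apply]
  congr 1
  exact (LinearMap.equivOfIsUnitDet_apply ..).symm.trans (e.apply_symm_apply _)

end Groth.Agent.QuadH13
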